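import Groth.Agent.AlgStLib.Basic
import Groth.Agent.FibBasics.Fp
import Mathlib

/-!
Skeletal descriptions of representable categories: points of a representing space.
-/

set_option autoImplicit false
set_option backward.isDefEq.respectTransparency false
set_option backward.isDefEq.respectTransparency.types false

universe u

open CategoryTheory CategoryTheory.Limits CategoryTheory.Functor AlgebraicGeometry Opposite AlgSp

namespace Groth.Agent.IsoTrans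

open Groth.Agent Groth.Agent.FibBasics Groth.Agent.AlgSpLib

variable {S : Scheme.{u}} {𝒵 : AlgSt.Cat S}

/-- A family of objects meeting each fibre class once, with only identical automorphisms. -/
structure Skel (𝒵 : AlgSt.Cat S) (Pts : Over S → Type (u + 1)) where
  obj : ∀ {T : Over S}, Pts T → 𝒵.obj
  w : ∀ {T : Over S} (p : Pts T), 𝒵.p.obj (obj p) = T
  inj : ∀ {T : Over S} (p p' : Pts T) (m : obj p ⟶ obj p'), 𝒵.p.IsHomLift (𝟙 T) m → p = p'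
  surj : ∀ (x : 𝒵.obj), ∃ (p : Pts (𝒵.p.obj x)) (m : obj p ⟶ x), 𝒵.p.IsHomLift (𝟙 (𝒵.p.obj x)) m

/-- A representing space, described by its points. -/
structure PtRep (F : Sp S) (Pts : Over S → Type (u + 1))
    (res : ∀ {T' T : Over S}, (T' ⟶ T) → Pts T → Pts T') where
  pm : ∀ {T : Over S}, ((yon S).obj T ⟶ F) → Pts T
  bij : ∀ T : Over S, Function.Bijective (pm (T := T))
  natural : ∀ {T' T : Over S} (g : T' ⟶ T) (σ : (yon S).obj T ⟶ F), pm ((yon S).map g ≫ σ) = res g (pm σ)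

theorem inv_lift {T : Over S} (h : FibCat.IsFibGrpd 𝒵.p) {a b : 𝒵.obj} (m : a ⟶ b)
    (hm : 𝒵.p.IsHomLift (𝟙 T) m) : ∃ m' : b ⟶ a, 𝒵.p.IsHomLift (𝟙 T) m' ∧ m ≫ m' = 𝟙 a ∧ m' ≫ m = 𝟙 b := by
  have := hm
  have : IsIso m := isIso_of_isFibGrpd _ h (𝟙 T) m
  have : 𝒵.p.IsHomLift (𝟙 T) (asIso m).hom := hm
  exact ⟨inv m, IsHomLift.lift_id_inv _ T (asIso m), IsIso.hom_inv_id m, IsIso.inv_hom_id m⟩

variable {Pts : Over S → Type (u + 1)}

namespace Skel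

variable (K : Skel 𝒵 Pts)

/-- Restriction of points. -/
def Res {T' T : Over S} (g : T' ⟶ T) (p' : Pts T') (p : Pts T) : Prop :=
  ∃ m : K.obj p' ⟶ K.obj p, 𝒵.p.IsHomLift g m

variable (h : FibCat.IsFibGrpd 𝒵.p)

include h in
theorem exists_res {T' T : Over S} (g : T' ⟶ T) (p : Pts T) : ∃ p', K.Res g p' p := by
  obtain ⟨x, φ, hφ⟩ := h.exists_lift (g ≫ eqToHom (K.w p).symm)
  have hx : 𝒵.p.obj x = T' := @IsHomLift.domain_eq _ _ _ _ 𝒵.p _ _ _ _ _ φ hφ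
  subst hx
  obtain ⟨p', m, hm⟩ := K.surj x
  refine ⟨p', m ≫ φ, ?_⟩
  have := hm
  have := hφ
  have h1 : 𝒵.p.IsHomLift (𝟙 _ ≫ g ≫ eqToHom (K.w p).symm) (m ≫ φ) := inferInstance
  rw [Category.id_comp] at h1
  exact IsHomLift.of_fac' _ _ _ (K.w p') (K.w p) (by
    rw [IsHomLift.fac' 𝒵.p (g ≫ eqToHom (K.w p).symm) (m ≫ φ)]; simp)

include h in
theorem res_unique {T' T : Over S} {g : T' ⟶ T} {p₁ p₂ : Pts T'} {p : Pts T} (h₁ : K.Res g p₁ p)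
    (h₂ : K.Res g p₂ p) : p₁ = p₂ := by
  obtain ⟨m₁, hm₁⟩ := h₁
  obtain ⟨m₂, hm₂⟩ := h₂
  obtain ⟨χ, hχ⟩ := AlgStLib.exists_compare h g m₁ m₂ hm₁ hm₂
  exact K.inj p₁ p₂ χ.hom hχ

include h in
/-- The points of a representing space. -/
theorem exists_ptRep {F : Sp S} {e : AlgSt.ofSp F ⥤ᵇ 𝒵} (he : FibCat.IsEquivOver e)
    (res : ∀ {T' T : Over S}, (T' ⟶ T) → Pts T → Pts T')
    (hres : ∀ {T' T : Over S} (g : T' ⟶ T) (p : Pts T), K.Res g (res g p) p) :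
    ∃ P : PtRep F Pts res, ∀ {T : Over S} (σ : (yon S).obj T ⟶ F),
      ∃ m : e.obj ⟨T, (J S).uliftYonedaEquiv σ⟩ ⟶ K.obj (P.pm σ), 𝒵.p.IsHomLift (𝟙 T) m := by
  obtain ⟨⟨_, _⟩, hes⟩ := (isEquivOver_iff e).1 he
  have hex : ∀ {T : Over S} (s : F.obj.obj (op T)), ∃ (p : Pts T) (m : e.obj ⟨T, s⟩ ⟶ K.obj p),
      𝒵.p.IsHomLift (𝟙 T) m := by
    intro T s
    suffices H : ∀ (x : 𝒵.obj) (hx : 𝒵.p.obj x = T), ∃ (p : Pts T) (m : x ⟶ K.obj p), 𝒵.p.IsHomLift (𝟙 T) m from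
      H _ (e.w_obj ⟨T, s⟩)
    rintro x rfl
    obtain ⟨p, m, hm⟩ := K.surj x
    obtain ⟨m', hm', -⟩ := inv_lift h m hm
    exact ⟨p, m', hm'⟩
  let pm : ∀ {T : Over S}, ((yon S).obj T ⟶ F) → Pts T := fun σ => (hex ((J S).uliftYonedaEquiv σ)).choose
  have hpm : ∀ {T : Over S} (σ : (yon S).obj T ⟶ F),
      ∃ m : e.obj ⟨T, (J S).uliftYonedaEquiv σ⟩ ⟶ K.obj (pm σ), 𝒵.p.IsHomLift (𝟙 T) m :=
    fun σ => (hex ((J S).uliftYonedaEquiv σ)).choose_spec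
  refine ⟨⟨pm, fun T => ⟨fun σ τ hστ => ?_, fun p => ?_⟩, fun {T' T} g σ => ?_⟩, hpm⟩
  · obtain ⟨m₁, h₁⟩ := hpm σ
    obtain ⟨m₂, h₂⟩ := hpm τ
    revert m₁ h₁
    rw [hστ]
    intro m₁ h₁
    obtain ⟨m₂', h₂', -⟩ := inv_lift h m₂ h₂
    obtain ⟨k, hk⟩ := e.toFunctor.map_surjective (m₁ ≫ m₂')
    have hkl : (AlgSt.ofSp F).p.IsHomLift (𝟙 T) k := by
      rw [← BasedFunctor.isHomLift_iff e, hk]
      infer_instance
    have hkh : k.hom = 𝟙 T := by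
      have := IsHomLift.fac' (AlgSt.ofSp F).p (𝟙 T) k
      simpa using this
    have hsec := k.map_sec
    rw [hkh, op_id, Functor.map_id_apply] at hsec
    exact ((J S).uliftYonedaEquiv.injective hsec).symm
  · obtain ⟨⟨T', s⟩, ε, hε⟩ := hes (K.obj p)
    have hb : T' = T := ((e.w_obj ⟨T', s⟩).symm.trans
      (@IsHomLift.domain_eq _ _ _ _ 𝒵.p _ _ _ _ _ ε.hom hε)).trans (K.w p)
    subst hb
    refine ⟨(J S).uliftYonedaEquiv.symm s, ?_⟩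
    obtain ⟨m, hm⟩ := hpm ((J S).uliftYonedaEquiv.symm s)
    revert m
    rw [Equiv.apply_symm_apply]
    intro m hm
    obtain ⟨m', hm', -⟩ := inv_lift h m hm
    have hε' : 𝒵.p.IsHomLift (𝟙 T') ε.hom := by rwa [K.w p] at hε
    exact K.inj _ p (m' ≫ ε.hom) inferInstance
  · refine K.res_unique h ?_ (hres g (pm σ))
    obtain ⟨m', hm'⟩ := hpm ((yon S).map g ≫ σ)
    obtain ⟨m, hm⟩ := hpm σ
    obtain ⟨m'', hm'', -⟩ := inv_lift h m' hm'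
    have hsec : F.obj.map g.op ((J S).uliftYonedaEquiv σ) = (J S).uliftYonedaEquiv ((yon S).map g ≫ σ) :=
      GrothendieckTopology.uliftYonedaEquiv_naturality ..
    let f : (⟨T', (J S).uliftYonedaEquiv ((yon S).map g ≫ σ)⟩ : (AlgSt.ofSp F).obj) ⟶
      ⟨T, (J S).uliftYonedaEquiv σ⟩ := ⟨g, hsec⟩
    have hf : 𝒵.p.IsHomLift g (e.map f) :=
      (BasedFunctor.isHomLift_iff e g f).2 (IsHomLift.map (AlgSt.ofSp F).p f)
    exact ⟨(m'' ≫ e.map f) ≫ m, AlgStLib.lift₃ hm'' hf hm⟩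

end Skel

end Groth.Agent.IsoTrans
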