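import Groth.Agent.IsoTrans.SchemeCrit
import Groth.Agent.IsoTrans.Skel
import Groth.Agent.AlgSpLib.LocP

/-!
Points of algebraic spaces over thickenings of rings with etale retractions; gluing of many lifts.
-/

set_option autoImplicit false
set_option linter.style.haveILetI false
set_option backward.isDefEq.respectTransparency false
set_option backward.isDefEq.respectTransparency.types false

universe u

open CategoryTheory CategoryTheory.Limits AlgebraicGeometry Opposite AlgSp

namespace Groth.Agent.IsoTrans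

open Groth.Agent Groth.Agent.AlgSpLib

variable {S : Scheme.{u}}

/-- The object of an affine test scheme. -/
noncomputable abbrev affObj {C : Type u} [CommRing C] (str : Spec (CommRingCat.of C) ⟶ S) : Over S := Over.mk str

/-- Points with values in rings with etale retractions lift to atlases. -/
theorem exists_lift_atlas {C : Type u} [CommRing C] (hC : ProEtW.HasEtaleRetractions C)
    {str : Spec (CommRingCat.of C) ⟶ S} {F : Sp S} {W : Over S} {a : (yon S).obj W ⟶ F}
    (ha : RepWith @Etale a) (has : RepWith @Surjective a) (σ : (yon S).obj (affObj str) ⟶ F) :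
    ∃ q : affObj str ⟶ W, (yon S).map q ≫ a = σ := by
  obtain ⟨P, p₁, p₂, sq⟩ := exists_isPullback ha.1 σ
  have : Etale p₂.left := prop_snd sq ha
  have : Surjective p₂.left := prop_snd sq has
  obtain ⟨s, hs⟩ := exists_section_of_etale_surjective hC p₂.left
  let s' : affObj str ⟶ P := Over.homMk s (by
    show s ≫ P.hom = str
    rw [← Over.w p₂, ← Category.assoc, hs]; exact Category.id_comp _)
  have hs' : s' ≫ p₂ = 𝟙 _ := Over.OverMorphism.ext hs
  refine ⟨s' ≫ p₁, ?_⟩
  rw [Functor.map_comp, Category.assoc, sq.w, ← Category.assoc, ← Functor.map_comp, hs', CategoryTheory.Functor.map_id,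
    Category.id_comp]

variable {C C₀ : Type u} [CommRing C] [CommRing C₀] {φ : C →+* C₀} (hφ : Function.Surjective φ)
  (hsq : RingHom.ker φ ^ 2 = ⊥) {str : Spec (CommRingCat.of C) ⟶ S} {str₀ : Spec (CommRingCat.of C₀) ⟶ S}
  (j : affObj str₀ ⟶ affObj str) (hj : j.left = Spec.map (CommRingCat.ofHom φ))

include hφ hsq hj in
/-- Lifting along smooth morphisms of schemes over the base. -/
theorem exists_lift_over_smooth {X Y : Over S} (f : X ⟶ Y) [Smooth f.left] (a : affObj str₀ ⟶ X)
    (b : affObj str ⟶ Y) (w : j ≫ b = a ≫ f) : ∃ l : affObj str ⟶ X, j ≫ l = a ∧ l ≫ f = b := by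
  obtain ⟨l, hl, hl'⟩ := exists_lift_smooth' φ hφ hsq f.left a.left b.left (by
    rw [← hj]; exact congrArg CommaMorphism.left w)
  let l' : affObj str ⟶ X := Over.homMk l (by
    show l ≫ X.hom = str
    rw [← Over.w f, ← Category.assoc, hl']; exact Over.w b)
  exact ⟨l', Over.OverMorphism.ext (by show j.left ≫ l = a.left; rw [hj, hl]), Over.OverMorphism.ext hl'⟩

include hφ hsq hj in
/-- Lifting along etale morphisms of schemes over the base. -/
theorem existsUnique_lift_over_etale {X Y : Over S} (f : X ⟶ Y) [Etale f.left] (a : affObj str₀ ⟶ X)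
    (b : affObj str ⟶ Y) (w : j ≫ b = a ≫ f) : ∃! l : affObj str ⟶ X, j ≫ l = a ∧ l ≫ f = b := by
  obtain ⟨l, ⟨hl, hl'⟩, hu⟩ := existsUnique_lift_etale' φ hφ hsq f.left a.left b.left (by
    rw [← hj]; exact congrArg CommaMorphism.left w)
  let l' : affObj str ⟶ X := Over.homMk l (by
    show l ≫ X.hom = str
    rw [← Over.w f, ← Category.assoc, hl']; exact Over.w b)
  refine ⟨l', ⟨Over.OverMorphism.ext (by show j.left ≫ l = a.left; rw [hj, hl]), Over.OverMorphism.ext hl'⟩,
    fun m hm => Over.OverMorphism.ext (hu m.left ⟨?_, congrArg CommaMorphism.left hm.2⟩)⟩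
  rw [← hj]
  exact congrArg CommaMorphism.left hm.1

include hφ hsq hj in
/-- Lifts of points through etale maps to a space. -/
theorem existsUnique_lift_chart {F : Sp S} {W : Over S} {a : (yon S).obj W ⟶ F} (ha : RepWith @Etale a)
    (σ : (yon S).obj (affObj str) ⟶ F) (q₀ : affObj str₀ ⟶ W)
    (w : (yon S).map j ≫ σ = (yon S).map q₀ ≫ a) :
    ∃! l : affObj str ⟶ W, j ≫ l = q₀ ∧ (yon S).map l ≫ a = σ := by
  obtain ⟨P, p₁, p₂, sq⟩ := exists_isPullback ha.1 σ
  have : Etale p₂.left := prop_snd sq ha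
  obtain ⟨s₀, hs₀, hs₀'⟩ := AlgSpLib.exists_lift sq ((yon S).map q₀) j w.symm
  have e₀ : s₀ ≫ p₁ = q₀ := (yon S).map_injective (by rw [Functor.map_comp]; exact hs₀)
  obtain ⟨s, ⟨hs, hs'⟩, hu⟩ := existsUnique_lift_over_etale hφ hsq j hj p₂ s₀ (𝟙 _)
    ((Category.comp_id j).trans hs₀'.symm)
  refine ⟨s ≫ p₁, ⟨by rw [← Category.assoc, hs, e₀], ?_⟩, fun m hm => ?_⟩
  · rw [Functor.map_comp, Category.assoc, sq.w, ← Category.assoc, ← Functor.map_comp, hs',
      CategoryTheory.Functor.map_id, Category.id_comp]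
  · obtain ⟨t, ht, ht'⟩ := AlgSpLib.exists_lift sq ((yon S).map m) (𝟙 _) (by
      rw [hm.2, CategoryTheory.Functor.map_id, Category.id_comp])
    have e : t ≫ p₁ = m := (yon S).map_injective (by rw [Functor.map_comp]; exact ht)
    rw [← e, hu t ⟨?_, ht'⟩]
    apply (yon S).map_injective
    apply sq.hom_ext
    · rw [← Functor.map_comp, ← Functor.map_comp, Category.assoc, e, e₀, hm.1]
    · rw [← Functor.map_comp, ← Functor.map_comp, Category.assoc, ht', Category.comp_id, hs₀']

end Groth.Agent.IsoTrans
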