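import Groth.Agent.IsoTrans.Tangent

/-!
Dual numbers and localisation.
-/

set_option autoImplicit false
set_option linter.style.haveILetI false
set_option backward.isDefEq.respectTransparency false
set_option backward.isDefEq.respectTransparency.types false

universe u

open CategoryTheory CategoryTheory.Limits AlgebraicGeometry TrivSqZeroExt

namespace Groth.Agent.IsoTrans

variable {R R' R'' : Type u} [CommRing R] [CommRing R'] [CommRing R'']

/-- The map of dual numbers of a ring map. -/
def dnMap (φ : R →+* R') : DualNumber R →+* DualNumber R' where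
  toFun x := inl (φ x.fst) + inr (φ x.snd)
  map_one' := TrivSqZeroExt.ext (by simp) (by simp)
  map_mul' x y := TrivSqZeroExt.ext (by simp) (by simp)
  map_zero' := TrivSqZeroExt.ext (by simp) (by simp)
  map_add' x y := TrivSqZeroExt.ext (by simp) (by simp)

@[simp] theorem dnMap_fst (φ : R →+* R') (x : DualNumber R) : (dnMap φ x).fst = φ x.fst := by simp [dnMap]

@[simp] theorem dnMap_snd (φ : R →+* R') (x : DualNumber R) : (dnMap φ x).snd = φ x.snd := by simp [dnMap]

theorem dnMap_inl (φ : R →+* R') : (dnMap φ).comp (dnInl R) = (dnInl R').comp φ :=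
  RingHom.ext fun r => TrivSqZeroExt.ext (dnMap_fst φ (inl r)) ((dnMap_snd φ (inl r)).trans (map_zero φ))

theorem dnMap_red (φ : R →+* R') : (dnRed R').comp (dnMap φ) = φ.comp (dnRed R) :=
  RingHom.ext fun x => dnMap_fst φ x

theorem dnMap_comp (φ : R →+* R') (ψ : R' →+* R'') : dnMap (ψ.comp φ) = (dnMap ψ).comp (dnMap φ) :=
  RingHom.ext fun x => TrivSqZeroExt.ext (by simp) (by simp)

/-- Scaling of the infinitesimal: `a + bε ↦ φ a + lam φ b ε`. -/
def dnScale (φ : R →+* R') (lam : R') : DualNumber R →+* DualNumber R' where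
  toFun x := inl (φ x.fst) + inr (lam * φ x.snd)
  map_one' := TrivSqZeroExt.ext (by simp) (by simp)
  map_mul' x y := TrivSqZeroExt.ext (by simp) (by simp; ring)
  map_zero' := TrivSqZeroExt.ext (by simp) (by simp)
  map_add' x y := TrivSqZeroExt.ext (by simp) (by simp [mul_add])

@[simp] theorem dnScale_fst (φ : R →+* R') (lam : R') (x : DualNumber R) :
    (dnScale φ lam x).fst = φ x.fst := by simp [dnScale]

@[simp] theorem dnScale_snd (φ : R →+* R') (lam : R') (x : DualNumber R) :
    (dnScale φ lam x).snd = lam * φ x.snd := by simp [dnScale]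

theorem dnMap_clear (φ : R →+* R') (f a b : R) (n m : ℕ) (z : DualNumber R') (ha : z.fst * φ f ^ n = φ a)
    (hb : z.snd * φ f ^ m = φ b) :
    z * dnMap φ (inl f ^ (n + m)) = dnMap φ (inl (a * f ^ m) + inr (b * f ^ n)) := by
  rw [TrivSqZeroExt.inl_pow]
  refine TrivSqZeroExt.ext ?_ ?_
  · simp [← ha, pow_add]; ring
  · simp [← hb, pow_add]; ring

/-- Dual numbers of a localisation are a localisation of the dual numbers. -/
theorem isLocalizationAway_dnMap (f : R) :
    @IsLocalization.Away (DualNumber R) _ (inl f) (DualNumber (Localization.Away f)) _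
      (dnMap (algebraMap R (Localization.Away f))).toAlgebra := by
  letI : Algebra (DualNumber R) (DualNumber (Localization.Away f)) :=
    (dnMap (algebraMap R (Localization.Away f))).toAlgebra
  let L := Localization.Away f
  refine (isLocalization_iff _ _).2 ⟨?_, ?_, ?_⟩
  · rintro ⟨y, n, rfl⟩
    show IsUnit (dnMap (algebraMap R L) (inl f ^ n))
    rw [map_pow]
    refine IsUnit.pow n (TrivSqZeroExt.isUnit_iff_isUnit_fst.2 ?_)
    rw [dnMap_fst]
    exact IsLocalization.Away.algebraMap_isUnit f
  · intro z
    obtain ⟨n, a, ha⟩ := IsLocalization.Away.surj f z.fst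
    obtain ⟨m, b, hb⟩ := IsLocalization.Away.surj f z.snd
    refine ⟨⟨inl (a * f ^ m) + inr (b * f ^ n), ⟨inl f ^ (n + m), _, rfl⟩⟩, ?_⟩
    exact dnMap_clear (algebraMap R L) f a b n m z ha hb
  · intro x y h
    have h₁ := congrArg TrivSqZeroExt.fst h
    have h₂ := congrArg TrivSqZeroExt.snd h
    change (dnMap _ x).fst = (dnMap _ y).fst at h₁
    change (dnMap _ x).snd = (dnMap _ y).snd at h₂
    rw [dnMap_fst, dnMap_fst] at h₁
    rw [dnMap_snd, dnMap_snd] at h₂
    obtain ⟨⟨_, n, rfl⟩, hn⟩ := IsLocalization.exists_of_eq (M := Submonoid.powers f) h₁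
    obtain ⟨⟨_, m, rfl⟩, hm⟩ := IsLocalization.exists_of_eq (M := Submonoid.powers f) h₂
    refine ⟨⟨inl f ^ (n + m), _, rfl⟩, ?_⟩
    show inl f ^ (n + m) * x = inl f ^ (n + m) * y
    rw [TrivSqZeroExt.inl_pow]
    refine TrivSqZeroExt.ext ?_ ?_
    · simp only [fst_mul, fst_inl, pow_add]
      linear_combination (f ^ m) * hn
    · simp only [TrivSqZeroExt.snd_mul, fst_inl, snd_inl, smul_eq_mul, MulOpposite.smul_eq_mul_unop,
        MulOpposite.unop_op, pow_add, zero_mul, mul_zero, add_zero, zero_add]
      linear_combination (f ^ n) * hm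

/-- The open immersion of dual numbers of a localisation. -/
theorem isOpenImmersion_dnMap (f : R) :
    IsOpenImmersion (Spec.map (CommRingCat.ofHom (dnMap (algebraMap R (Localization.Away f))))) := by
  letI : Algebra (DualNumber R) (DualNumber (Localization.Away f)) :=
    (dnMap (algebraMap R (Localization.Away f))).toAlgebra
  have : IsLocalization.Away (inl f : DualNumber R) (DualNumber (Localization.Away f)) := isLocalizationAway_dnMap f
  exact IsOpenImmersion.of_isLocalization (inl f : DualNumber R)

/-- Its image. -/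
theorem range_dnMap (f : R) :
    Set.range (Spec.map (CommRingCat.ofHom (dnMap (algebraMap R (Localization.Away f))))) =
      (PrimeSpectrum.basicOpen (inl f : DualNumber R) : Set (PrimeSpectrum (DualNumber R))) := by
  letI : Algebra (DualNumber R) (DualNumber (Localization.Away f)) :=
    (dnMap (algebraMap R (Localization.Away f))).toAlgebra
  have : IsLocalization.Away (inl f : DualNumber R) (DualNumber (Localization.Away f)) := isLocalizationAway_dnMap f
  exact PrimeSpectrum.localization_away_comap_range (DualNumber (Localization.Away f)) (inl f : DualNumber R)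

end Groth.Agent.IsoTrans
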