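import Groth.Agent.IsoTrans.PtOps
import Groth.Agent.FibBasics.Inertia

/-!
Points of the inertia over a test object: automorphisms.
-/

set_option autoImplicit false
set_option backward.isDefEq.respectTransparency false
set_option backward.isDefEq.respectTransparency.types false

universe u

open CategoryTheory CategoryTheory.Limits CategoryTheory.Functor AlgebraicGeometry Opposite AlgSp

namespace Groth.Agent.IsoTrans

open Groth.Agent Groth.Agent.FibBasics Groth.Agent.AlgSpLib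

variable {S : Scheme.{u}} {𝒴 : AlgSt.Cat S} {U : Over S}

/-- An automorphism of the object at a test morphism. -/
abbrev IPt (d : FibCat.overCat U ⥤ᵇ 𝒴) (T : Over S) : Type (u + 1) := {p : Pt d d T // p.fst = p.snd}

/-- Restriction of automorphisms. -/
noncomputable def IPt.res (h : FibCat.IsFibGrpd 𝒴.p) {d : FibCat.overCat U ⥤ᵇ 𝒴} {T' T : Over S} (g : T' ⟶ T)
    (p : IPt d T) : IPt d T' :=
  ⟨p.1.res h g, by rw [Pt.res_fst, Pt.res_snd, p.2]⟩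

theorem aut_proj (h : FibCat.IsFibGrpd 𝒴.p) {x : 𝒴.obj} {T : Over S} (hx : 𝒴.p.obj x = T) (m : x ⟶ x)
    (hm : 𝒴.p.IsHomLift (𝟙 T) m) : 𝒴.p.map m = 𝟙 _ := by
  subst hx
  simpa using IsHomLift.fac' 𝒴.p (𝟙 (𝒴.p.obj x)) m

/-- The inertia object of an automorphism. -/
noncomputable def inObj {d : FibCat.overCat U ⥤ᵇ 𝒴} {T : Over S} (h : FibCat.IsFibGrpd 𝒴.p) (p : IPt d T) :
    (FibCat.inertia (FibCat.toSelf 𝒴)).obj where
  pt := (at' d p.1.fst).1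
  aut := Fiber.fiberInclusion.mapIso (p.1.iso ≪≫ eqToIso (congrArg (at' d) p.2.symm))
  map_aut := aut_proj h (at' d p.1.fst).2 _ (p.1.iso ≪≫ eqToIso (congrArg (at' d) p.2.symm)).hom.2

/-- The object of the test fibre product. -/
noncomputable def iObj {d : FibCat.overCat U ⥤ᵇ 𝒴} {T : Over S} (h : FibCat.IsFibGrpd 𝒴.p) (p : IPt d T) :
    (FibCat.fp d (FibCat.inertiaToBase (FibCat.toSelf 𝒴))).obj :=
  ⟨{ fst := Over.mk p.1.fst, snd := inObj h p, iso := Iso.refl _ }, IsHomLift.id (at' d p.1.fst).2⟩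

theorem inObj_aut {d : FibCat.overCat U ⥤ᵇ 𝒴} {T : Over S} (h : FibCat.IsFibGrpd 𝒴.p) (a : T ⟶ U)
    (β : at' d a ≅ at' d a) : (inObj h (⟨⟨a, a, β⟩, rfl⟩ : IPt d T)).aut.hom = β.hom.1 :=
  congrArg Subtype.val (Category.comp_id β.hom)

theorem inObj_comm {d : FibCat.overCat U ⥤ᵇ 𝒴} {T' T : Over S} (h : FibCat.IsFibGrpd 𝒴.p) {g : T' ⟶ T}
    (p' : IPt d T') (p : IPt d T) (a₁ : g ≫ p.1.fst = p'.1.fst) (hsq : PtSq d d g p'.1 p.1) :
    (inObj h p').aut.hom ≫ rm d g a₁ = rm d g a₁ ≫ (inObj h p).aut.hom := by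
  obtain ⟨⟨a, b, α⟩, hab⟩ := p
  obtain ⟨⟨a', b', α'⟩, hab'⟩ := p'
  dsimp only at hab hab'
  subst hab hab'
  rw [inObj_aut h a α, inObj_aut h a' α']
  exact hsq.2.2

/-- The skeleton of the inertia over a test object. -/
noncomputable def iSkel (h : FibCat.IsFibGrpd 𝒴.p) (d : FibCat.overCat U ⥤ᵇ 𝒴) :
    Skel (FibCat.fp d (FibCat.inertiaToBase (FibCat.toSelf 𝒴))) (IPt d) where
  obj p := iObj h p
  w _ := rfl
  inj {T} p p' m hm := by
    obtain ⟨⟨a, b, α⟩, hab⟩ := p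
    obtain ⟨⟨a', b', α'⟩, hab'⟩ := p'
    dsimp only at hab hab'
    subst hab hab'
    have h₁ : (FibCat.overCat U).p.IsHomLift (𝟙 T) m.hom.fst := fp_lift_fst _ m
    have e₁ : m.hom.fst.left = 𝟙 T := by
      have := IsHomLift.fac' (FibCat.overCat U).p (𝟙 T) m.hom.fst
      simp [iObj] at this; exact this
    have w₁ : a' = a := (Category.id_comp _).symm.trans ((congrArg (· ≫ a') e₁.symm).trans (Over.w m.hom.fst))
    subst w₁
    have q₁ : m.hom.fst = 𝟙 _ := Over.OverMorphism.ext e₁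
    have hw : d.map m.hom.fst ≫ 𝟙 _ = 𝟙 _ ≫ (m.hom.snd).hom := m.hom.w
    rw [Category.comp_id, Category.id_comp, q₁, d.toFunctor.map_id] at hw
    have hc : (inObj h ⟨⟨a', a', α⟩, rfl⟩).aut.hom ≫ m.hom.snd.hom =
        m.hom.snd.hom ≫ (inObj h ⟨⟨a', a', α'⟩, rfl⟩).aut.hom := m.hom.snd.comm
    rw [← hw, inObj_aut h a' α, inObj_aut h a' α'] at hc
    refine Subtype.ext (congrArg (Pt.mk a' a') (Iso.ext (Fiber.hom_ext ?_)))
    exact ((Category.comp_id _).symm.trans hc).trans (Category.id_comp _)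
  surj x := by
    let T := x.obj.fst.left
    let fO : (Over.mk x.obj.fst.hom : (FibCat.overCat U).obj) ⟶ x.obj.fst := Over.homMk (𝟙 T) (Category.id_comp _)
    have l₁ : 𝒴.p.IsHomLift (𝟙 T) (d.map fO) := AlgStLib.slice_map_lift d _ _ _ _
    have l₂ : 𝒴.p.IsHomLift (𝟙 T) x.obj.iso.hom := x.property
    let κ : (at' d x.obj.fst.hom).1 ⟶ x.obj.snd.pt := d.map fO ≫ x.obj.iso.hom
    have lκ : 𝒴.p.IsHomLift (𝟙 T) κ := by
      show 𝒴.p.IsHomLift (𝟙 T) (d.map fO ≫ x.obj.iso.hom)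
      infer_instance
    have hz : 𝒴.p.obj x.obj.snd.pt = T := IsHomLift.codomain_eq 𝒴.p (𝟙 T) κ
    let z : 𝒴.p.Fiber T := ⟨x.obj.snd.pt, hz⟩
    let K : at' d x.obj.fst.hom ≅ z := fibIso h κ lκ
    have la : 𝒴.p.IsHomLift (𝟙 T) x.obj.snd.aut.hom := inertia_aut_lift x.obj.snd hz
    let A : z ≅ z := fibIso h (b := z) x.obj.snd.aut.hom la
    let p : IPt d T := ⟨⟨x.obj.fst.hom, x.obj.fst.hom, K ≪≫ A ≪≫ K.symm⟩, rfl⟩
    have hcomm : (inObj h p).aut.hom ≫ κ = κ ≫ x.obj.snd.aut.hom := by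
      have hK : K.inv.1 ≫ K.hom.1 = 𝟙 _ := congrArg Subtype.val K.inv_hom_id
      rw [show (inObj h p).aut.hom = (K ≪≫ A ≪≫ K.symm).hom.1 from inObj_aut h _ _]
      show (K.hom.1 ≫ A.hom.1 ≫ K.inv.1) ≫ K.hom.1 = K.hom.1 ≫ A.hom.1
      rw [Category.assoc, Category.assoc, hK]
      exact congrArg (K.hom.1 ≫ ·) (Category.comp_id _)
    refine ⟨p, fpHom fO (⟨κ, hcomm⟩ : inObj h p ⟶ x.obj.snd) ((Category.id_comp _).symm),
      fp_lift_of_fst _ _ (IsHomLift.of_fac' _ _ _ rfl rfl (by simp [fO, fpHom]; rfl))⟩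

include U in
/-- The representing space of automorphisms over a test object. -/
theorem exists_iRep (h : FibCat.IsFibGrpd 𝒴.p) {P : MorphismProperty (Sp S)}
    (hI : AlgSt.RepByAlgSpWith P (FibCat.inertiaToBase (FibCat.toSelf 𝒴))) (d : FibCat.overCat U ⥤ᵇ 𝒴) :
    ∃ (I : AlgSp.Space S) (π : I.obj ⟶ (yon S).obj U) (R : PtRep I.obj (IPt d) (fun g p => p.res h g)),
      P π ∧ ∀ {T : Over S} (σ : (yon S).obj T ⟶ I.obj), (yon S).map (R.pm σ).1.fst = σ ≫ π := by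
  obtain ⟨I, e, he, hP⟩ := hI U d
  have hg : FibCat.IsFibGrpd (FibCat.fp d (FibCat.inertiaToBase (FibCat.toSelf 𝒴))).p :=
    fp_isFibGrpd (isFibGrpd_overForget U) (inertia_isFibGrpd h (cart_of_isFibGrpd _ isFibGrpd_selfOver)) h
  obtain ⟨R, hR⟩ := (iSkel h d).exists_ptRep hg he (fun g p => p.res h g) (fun {T' T} g p => by
    obtain ⟨a₁, a₂, e⟩ := p.1.res_sq h g
    exact ⟨fpHom (Over.homMk g a₁) (⟨rm d g a₁, inObj_comm h (p.res h g) p a₁ ⟨a₁, a₂, e⟩⟩ :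
        inObj h (p.res h g) ⟶ inObj h p) ((Category.comp_id _).trans (Category.id_comp _).symm),
      fp_lift_of_fst _ _ (AlgStLib.slice_map_lift (BasedFunctor.id _) g _ _ a₁)⟩)
  refine ⟨I, _, R, hP, fun {T} σ => ?_⟩
  obtain ⟨m, hm⟩ := hR σ
  apply (J S).uliftYonedaEquiv.injective
  rw [GrothendieckTopology.uliftYonedaEquiv_comp, AlgSt.spMapOfOver_app]
  refine ULift.ext _ _ ?_
  show 𝟙 T ≫ (R.pm σ).1.fst = AlgSt.secHom _ ⟨T, (J S).uliftYonedaEquiv σ⟩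
  have hf : (FibCat.overCat U).p.IsHomLift (𝟙 T) m.hom.fst := fp_lift_fst _ m
  have hw : m.hom.fst.left ≫ (R.pm σ).1.fst = (e.obj ⟨T, (J S).uliftYonedaEquiv σ⟩).obj.fst.hom := Over.w m.hom.fst
  have hl : m.hom.fst.left = eqToHom (e.w_obj ⟨T, (J S).uliftYonedaEquiv σ⟩) ≫ 𝟙 T ≫ eqToHom rfl :=
    IsHomLift.fac' (FibCat.overCat U).p (𝟙 T) m.hom.fst
  refine Eq.trans ?_ (congrArg (eqToHom _ ≫ ·) hw)
  rw [hl]
  simp

end Groth.Agent.IsoTrans
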