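import Groth.Agent.IsoTrans.Rigid
import Mathlib

/-!
Formal unramifiedness is read on tangent vectors at geometric points.
-/

set_option autoImplicit false
set_option linter.style.haveILetI false
set_option backward.isDefEq.respectTransparency false
set_option backward.isDefEq.respectTransparency.types false

universe u

open CategoryTheory CategoryTheory.Limits AlgebraicGeometry TrivSqZeroExt

namespace Groth.Agent.IsoTrans

theorem hasEtaleRetractions_algClosed (k : Type u) [Field k] [IsAlgClosed k] : ProEtW.HasEtaleRetractions k := by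
  intro B _ _ hff het
  have : Nontrivial B := by
    rcases subsingleton_or_nontrivial B with hB | hB
    · exact absurd (Subsingleton.elim _ _)
        (Module.FaithfullyFlat.submodule_ne_top (R := k) (M := B) (m := ⊥) Ideal.bot_isMaximal)
    · exact hB
  obtain ⟨m, hm⟩ := Ideal.exists_maximal B
  letI := Ideal.Quotient.field m
  have : Algebra.FiniteType k (B ⧸ m) := Algebra.FiniteType.of_surjective (Ideal.Quotient.mkₐ k m) (Ideal.Quotient.mkₐ_surjective k m)
  have : Module.Finite k (B ⧸ m) := finite_of_finite_type_of_isJacobsonRing k _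
  have hb := IsAlgClosed.algebraMap_bijective_of_isIntegral (k := k) (K := B ⧸ m)
  exact ⟨(AlgEquiv.ofBijective (Algebra.ofId k (B ⧸ m)) hb).symm.toAlgHom.comp (Ideal.Quotient.mkₐ k m)⟩

/-- The reduction of dual numbers. -/
abbrev dnRed (R : Type u) [CommRing R] : DualNumber R →+* R := (fstHom R R R).toRingHom

/-- The constants of dual numbers. -/
abbrev dnInl (R : Type u) [CommRing R] : R →+* DualNumber R := inlHom R R

theorem dnRed_surjective (R : Type u) [CommRing R] : Function.Surjective (dnRed R) := fun r => ⟨inl r, fst_inl R r⟩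

theorem tsze_ker_sq (R M : Type u) [CommRing R] [AddCommGroup M] [Module R M] [Module Rᵐᵒᵖ M] [IsCentralScalar R M] :
    RingHom.ker (fstHom R R M).toRingHom ^ 2 = ⊥ := by
  rw [pow_two, eq_bot_iff, Ideal.mul_le]
  intro a ha b hb
  have ha : a.fst = 0 := ha
  have hb : b.fst = 0 := hb
  rw [Ideal.mem_bot]
  refine TrivSqZeroExt.ext ?_ ?_ <;> simp [ha, hb]

/-- Vanishing of tangent vectors at geometric points implies formal unramifiedness. -/
theorem formallyUnramified_of_tangents {X Y : Scheme.{u}} (f : X ⟶ Y) [LocallyOfFiniteType f]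
    (H : ∀ (k : Type u) [Field k] [IsAlgClosed k] (l : Spec (CommRingCat.of (DualNumber k)) ⟶ X),
      Spec.map (CommRingCat.ofHom (dnInl k)) ≫ Spec.map (CommRingCat.ofHom (dnRed k)) ≫ l ≫ f = l ≫ f →
      Spec.map (CommRingCat.ofHom (dnInl k)) ≫ Spec.map (CommRingCat.ofHom (dnRed k)) ≫ l = l) :
    FormallyUnramified f := by
  refine ⟨fun {U} hU {V} hV hVU => ?_⟩
  algebraize [(f.appLE U V hVU).hom]
  have : Algebra.FiniteType Γ(Y, U) Γ(X, V) := f.finiteType_appLE hU hV hVU
  show Algebra.FormallyUnramified Γ(Y, U) Γ(X, V)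
  refine ⟨?_⟩
  by_contra hne
  rw [not_subsingleton_iff_nontrivial] at hne
  obtain ⟨N, hN, -⟩ := (eq_top_or_exists_le_coatom (⊥ : Submodule Γ(X, V) Ω[Γ(X, V)⁄Γ(Y, U)])).resolve_left bot_ne_top
  have : IsSimpleModule Γ(X, V) (Ω[Γ(X, V)⁄Γ(Y, U)] ⧸ N) := isSimpleModule_iff_isCoatom.2 hN
  obtain ⟨m, hm, ⟨e⟩⟩ := isSimpleModule_iff_quot_maximal.1 this
  letI := Ideal.Quotient.field m
  let k := AlgebraicClosure (Γ(X, V) ⧸ m)
  let χ : Γ(X, V) →+* k := (algebraMap (Γ(X, V) ⧸ m) k).comp (Ideal.Quotient.mk m)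
  let π : Ω[Γ(X, V)⁄Γ(Y, U)] →ₗ[Γ(X, V)] Γ(X, V) ⧸ m := e.toLinearMap.comp N.mkQ
  let d : Γ(X, V) → k := fun b => algebraMap (Γ(X, V) ⧸ m) k (π (KaehlerDifferential.D Γ(Y, U) Γ(X, V) b))
  have hd : ∀ a b, d (a * b) = χ a * d b + χ b * d a := fun a b => by
    simp only [d, χ, Derivation.leibniz, map_add, map_smul, RingHom.comp_apply]
    rw [Algebra.smul_def, Algebra.smul_def, Ideal.Quotient.algebraMap_eq, map_mul, map_mul]
  let ψ : Γ(X, V) →+* DualNumber k :=
    { toFun := fun b => inl (χ b) + inr (d b)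
      map_one' := by
        refine TrivSqZeroExt.ext ?_ ?_ <;> simp [d, Derivation.map_one_eq_zero]
      map_mul' := fun a b => by
        refine TrivSqZeroExt.ext ?_ ?_
        · simp only [fst_mul, fst_add, fst_inl, fst_inr, add_zero, map_mul]
        · simp only [TrivSqZeroExt.snd_mul, TrivSqZeroExt.snd_add, fst_add, snd_inl, snd_inr, fst_inl, fst_inr,
            zero_add, add_zero, smul_eq_mul, MulOpposite.smul_eq_mul_unop, MulOpposite.unop_op, hd]
          ring
      map_zero' := by
        refine TrivSqZeroExt.ext ?_ ?_ <;> simp [d]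
      map_add' := fun a b => by
        refine TrivSqZeroExt.ext ?_ ?_
        · simp only [TrivSqZeroExt.fst_add, fst_inl, fst_inr, map_add]; ring
        · simp only [TrivSqZeroExt.snd_add, snd_inl, snd_inr, d, map_add]; ring }
  let L := Spec.map (CommRingCat.ofHom ψ) ≫ hV.fromSpec
  have hψ : ∀ r, ψ ((f.appLE U V hVU).hom r) = inl (χ ((f.appLE U V hVU).hom r)) := fun r => by
    have hd0 : d ((f.appLE U V hVU).hom r) = 0 := by
      have : KaehlerDifferential.D Γ(Y, U) Γ(X, V) ((f.appLE U V hVU).hom r) = 0 :=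
        (KaehlerDifferential.D Γ(Y, U) Γ(X, V)).map_algebraMap r
      simp only [d, this, map_zero]
    refine TrivSqZeroExt.ext ?_ ?_ <;> simp [ψ, hd0]
  have key := H k L (by
    simp only [L, Category.assoc, ← IsAffineOpen.SpecMap_appLE_fromSpec f hU hV hVU, ← Spec.map_comp_assoc,
      Category.assoc]
    refine congrArg (fun t => Spec.map t ≫ hU.fromSpec) (CommRingCat.hom_ext (RingHom.ext fun r => ?_))
    show inl (ψ ((f.appLE U V hVU).hom r)).fst = ψ ((f.appLE U V hVU).hom r)
    rw [hψ, fst_inl])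
  simp only [L, ← Spec.map_comp_assoc] at key
  rw [cancel_mono, Spec.map_inj] at key
  have hzero : ∀ b, d b = 0 := fun b => by
    have h := congrArg TrivSqZeroExt.snd (congr($key b))
    change (inl (ψ b).fst : DualNumber k).snd = (ψ b).snd at h
    simpa [ψ] using h.symm
  have hπ : π = 0 := by
    refine Derivation.liftKaehlerDifferential_unique _ _ (Derivation.ext fun b => ?_)
    exact (algebraMap (Γ(X, V) ⧸ m) k).injective ((hzero b).trans (map_zero _).symm)
  obtain ⟨z, hz⟩ := N.mkQ_surjective (e.symm 1)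
  have h1 : π z = 0 := by rw [hπ]; rfl
  rw [show π z = e (N.mkQ z) from rfl, hz, e.apply_symm_apply] at h1
  exact one_ne_zero h1

end Groth.Agent.IsoTrans
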