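import Groth.Agent.IsoTrans.Lifting
import Groth.Agent.IsoTrans.Tangent

/-!
Coordinates of infinitesimal automorphisms in an affine etale chart of the space of automorphisms.
-/

set_option autoImplicit false
set_option linter.style.haveILetI false
set_option backward.isDefEq.respectTransparency false
set_option backward.isDefEq.respectTransparency.types false

universe u

open CategoryTheory CategoryTheory.Limits CategoryTheory.Functor AlgebraicGeometry Opposite AlgSp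

namespace Groth.Agent.IsoTrans

open Groth.Agent Groth.Agent.FibBasics Groth.Agent.AlgSpLib

variable {S : Scheme.{u}} {k : Type u} [CommRing k] (strk : Spec (CommRingCat.of k) ⟶ S)

/-- The test object of an algebra over the base point. -/
noncomputable abbrev tst {C : Type u} [CommRing C] (g : k →+* C) : Over S :=
  affObj (Spec.map (CommRingCat.ofHom g) ≫ strk)

/-- The structure map to the base point. -/
noncomputable def cst {C : Type u} [CommRing C] (g : k →+* C) : tst strk g ⟶ affObj strk :=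
  Over.homMk (Spec.map (CommRingCat.ofHom g)) rfl

/-- The map of test objects of a map of algebras. -/
noncomputable def tmap {C C' : Type u} [CommRing C] [CommRing C'] {g : k →+* C} {g' : k →+* C'} (r : C →+* C')
    (h : r.comp g = g') : tst strk g' ⟶ tst strk g :=
  Over.homMk (Spec.map (CommRingCat.ofHom r)) (by
    show Spec.map _ ≫ Spec.map _ ≫ strk = Spec.map _ ≫ strk
    rw [← Spec.map_comp_assoc, ← CommRingCat.ofHom_comp, h])

variable {C C' C'' : Type u} [CommRing C] [CommRing C'] [CommRing C''] {g : k →+* C} {g' : k →+* C'}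
  {g'' : k →+* C''}

theorem tmap_left (r : C →+* C') (h : r.comp g = g') :
    (tmap strk r h).left = Spec.map (CommRingCat.ofHom r) := rfl

theorem tmap_comp (r : C →+* C') (h : r.comp g = g') (r' : C' →+* C'') (h' : r'.comp g' = g'') :
    tmap strk r' h' ≫ tmap strk r h = tmap strk (r'.comp r) (by rw [RingHom.comp_assoc, h, h']) :=
  Over.OverMorphism.ext (by
    show Spec.map _ ≫ Spec.map _ = Spec.map _
    rw [← Spec.map_comp]; rfl)

theorem tmap_congr {r r' : C →+* C'} (e : r = r') (h : r.comp g = g') :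
    tmap strk r h = tmap strk r' (e ▸ h) := by subst e; rfl

theorem tmap_id (h : (RingHom.id C).comp g = g) : tmap strk (RingHom.id C) h = 𝟙 _ :=
  Over.OverMorphism.ext (Spec.map_id _)

theorem tmap_cst (r : C →+* C') (h : r.comp g = g') : tmap strk r h ≫ cst strk g = cst strk g' :=
  Over.OverMorphism.ext (by
    show Spec.map _ ≫ Spec.map _ = Spec.map _
    rw [← Spec.map_comp, ← CommRingCat.ofHom_comp, h])

theorem tmap_cst_assoc' (r : C →+* C') (h : r.comp g = g') {Z : Over S} (f : affObj strk ⟶ Z) :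
    tmap strk r h ≫ cst strk g ≫ f = cst strk g' ≫ f := by rw [← Category.assoc, tmap_cst]

variable {𝒴 : AlgSt.Cat S} {U V : Over S} {v : FibCat.overCat V ⥤ᵇ 𝒴} {y : FibCat.overCat U ⥤ᵇ 𝒴}

theorem Pt.trans_refl {T : Over S} (P : Pt v y T) {b : T ⟶ U} (h : P.snd = b) :
    P.trans (Pt.refl y b) h = P := by
  obtain ⟨a, c, α⟩ := P
  dsimp only at h
  subst h
  exact congrArg (Pt.mk a c) (by simp [Pt.refl])

theorem Pt.refl_trans {T : Over S} (P : Pt v y T) {a : T ⟶ V} (h : a = P.fst) :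
    (Pt.refl v a).trans P h = P := by
  obtain ⟨a', c, α⟩ := P
  dsimp only at h
  subst h
  exact congrArg (Pt.mk a c) (by simp [Pt.refl])

theorem Pt.trans_congr {W : Over S} {z : FibCat.overCat W ⥤ᵇ 𝒴} {T : Over S} {P P' : Pt v y T} {Q Q' : Pt y z T}
    (e : P = P') (e' : Q = Q') (h : P.snd = Q.fst) : P.trans Q h = P'.trans Q' (e ▸ e' ▸ h) := by
  subst e e'; rfl

variable (h𝒴 : FibCat.IsFibGrpd 𝒴.p) {F : Sp S} {π₁ π₂ : F ⟶ (yon S).obj U} (R : FRep h𝒴 y y F π₁ π₂)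
  (b₀ : affObj strk ⟶ U)

/-- An affine etale chart of the space of automorphisms at the identical point. -/
structure AutChart where
  B : Type u
  [ringB : CommRing B]
  strB : Spec (CommRingCat.of B) ⟶ S
  a : (yon S).obj (affObj strB) ⟶ F
  etale : RepWith @Etale a
  χ : B →+* k
  w₀ : affObj strk ⟶ affObj strB
  w₀_left : w₀.left = Spec.map (CommRingCat.ofHom χ)
  w₀_eq : R.rep.pm ((yon S).map w₀ ≫ a) = Pt.refl y b₀

attribute [instance] AutChart.ringB

variable {strk h𝒴 R b₀} (A : AutChart strk h𝒴 R b₀)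

/-- The infinitesimal automorphism `X` has coordinates `ψ`. -/
def AutChart.Coord (X : Pt y y (tst strk g)) (ψ : A.B →+* C) : Prop :=
  ∃ l : tst strk g ⟶ affObj A.strB,
    l.left = Spec.map (CommRingCat.ofHom ψ) ∧ R.rep.pm ((yon S).map l ≫ A.a) = X

theorem AutChart.Coord.res {X : Pt y y (tst strk g)} {ψ : A.B →+* C} (hX : A.Coord X ψ) (r : C →+* C')
    (h : r.comp g = g') : A.Coord (X.res h𝒴 (tmap strk r h)) (r.comp ψ) := by
  obtain ⟨l, hl, hX⟩ := hX
  refine ⟨tmap strk r h ≫ l, ?_, ?_⟩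
  · show Spec.map _ ≫ l.left = _
    rw [hl, ← Spec.map_comp]; rfl
  · rw [Functor.map_comp_assoc, R.rep.natural, hX]

theorem AutChart.Coord.inj {X X' : Pt y y (tst strk g)} {ψ : A.B →+* C} (hX : A.Coord X ψ) (hX' : A.Coord X' ψ) :
    X = X' := by
  obtain ⟨l, hl, hX⟩ := hX
  obtain ⟨l', hl', hX'⟩ := hX'
  rw [← hX, ← hX', Over.OverMorphism.ext (hl.trans hl'.symm) (f := l) (g := l')]

theorem AutChart.coord_refl : A.Coord (Pt.refl y (cst strk g ≫ b₀)) (g.comp A.χ) := by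
  refine ⟨cst strk g ≫ A.w₀, ?_, ?_⟩
  · show Spec.map _ ≫ A.w₀.left = _
    rw [A.w₀_left, ← Spec.map_comp]; rfl
  · rw [Functor.map_comp_assoc, R.rep.natural, A.w₀_eq, Pt.res_refl]

variable {C₀ : Type u} [CommRing C₀] {g₀ : k →+* C₀} {φ : C →+* C₀}

theorem AutChart.Coord.unique {X : Pt y y (tst strk g)} {ψ ψ' : A.B →+* C} (hX : A.Coord X ψ)
    (hX' : A.Coord X ψ') (hφ : Function.Surjective φ) (hsq : RingHom.ker φ ^ 2 = ⊥) (hg : φ.comp g = g₀)
    (e : φ.comp ψ = φ.comp ψ') : ψ = ψ' := by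
  obtain ⟨l, hl, hl₁⟩ := hX
  obtain ⟨l', hl', hl₁'⟩ := hX'
  have ej : tmap strk φ hg ≫ l = tmap strk φ hg ≫ l' := Over.OverMorphism.ext (by
    show Spec.map _ ≫ l.left = Spec.map _ ≫ l'.left
    rw [hl, hl', ← Spec.map_comp, ← Spec.map_comp, ← CommRingCat.ofHom_comp, ← CommRingCat.ofHom_comp, e])
  obtain ⟨m, -, hm⟩ := existsUnique_lift_chart hφ hsq (tmap strk φ hg) rfl A.etale ((yon S).map l ≫ A.a)
    (tmap strk φ hg ≫ l) (by rw [Functor.map_comp_assoc])
  have e' : l' = l := (hm l' ⟨ej.symm, (R.rep.bij _).1 (hl₁'.trans hl₁.symm)⟩).trans (hm l ⟨rfl, rfl⟩).symm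
  rw [e', hl] at hl'
  exact congrArg CommRingCat.Hom.hom (Spec.map_inj.1 hl')

theorem AutChart.exists_coord (X : Pt y y (tst strk g)) (hφ : Function.Surjective φ)
    (hsq : RingHom.ker φ ^ 2 = ⊥) (hg : φ.comp g = g₀)
    (hX : X.res h𝒴 (tmap strk φ hg) = Pt.refl y (cst strk g₀ ≫ b₀)) :
    ∃ ψ : A.B →+* C, A.Coord X ψ ∧ φ.comp ψ = g₀.comp A.χ := by
  obtain ⟨σ, hσ, -⟩ := R.exists_point X
  obtain ⟨l, ⟨hl, hl'⟩, -⟩ := existsUnique_lift_chart hφ hsq (tmap strk φ hg) rfl A.etale σ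
    (cst strk g₀ ≫ A.w₀) ((R.rep.bij _).1 (by
      rw [R.rep.natural, hσ, hX, Functor.map_comp_assoc, R.rep.natural, A.w₀_eq, Pt.res_refl]))
  obtain ⟨ψ, hψ⟩ := Spec.map_surjective l.left
  refine ⟨ψ.hom, ⟨l, hψ.symm, by rw [hl', hσ]⟩, ?_⟩
  have h := congrArg CommaMorphism.left hl
  change Spec.map _ ≫ l.left = Spec.map _ ≫ A.w₀.left at h
  rw [← hψ, A.w₀_left, ← Spec.map_comp, ← Spec.map_comp] at h
  exact congrArg CommRingCat.Hom.hom (Spec.map_inj.1 h)

/-- Functoriality of trivial square-zero extensions, as ring maps. -/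
noncomputable def tsMap {R M N : Type u} [CommRing R] [AddCommGroup M] [Module R M] [Module Rᵐᵒᵖ M]
    [IsCentralScalar R M] [AddCommGroup N] [Module R N] [Module Rᵐᵒᵖ N] [IsCentralScalar R N] (f : M →ₗ[R] N) :
    TrivSqZeroExt R M →+* TrivSqZeroExt R N := (TrivSqZeroExt.map f).toRingHom

section
variable {R M N : Type u} [CommRing R] [AddCommGroup M] [Module R M] [Module Rᵐᵒᵖ M]
    [IsCentralScalar R M] [AddCommGroup N] [Module R N] [Module Rᵐᵒᵖ N] [IsCentralScalar R N] (f : M →ₗ[R] N)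

@[simp] theorem tsMap_fst (x : TrivSqZeroExt R M) : (tsMap f x).fst = x.fst := TrivSqZeroExt.fst_map f x

@[simp] theorem tsMap_snd (x : TrivSqZeroExt R M) : (tsMap f x).snd = f x.snd := TrivSqZeroExt.snd_map f x

theorem tsMap_add_snd (f₁ f₂ : M →ₗ[R] N) (x : TrivSqZeroExt R M) :
    (tsMap (f₁ + f₂) x).snd = (tsMap f₁ x).snd + (tsMap f₂ x).snd := by simp

theorem tsMap_comp_id (g : N →ₗ[R] M) (h : ∀ x, g (f x) = x) : (tsMap g).comp (tsMap f) = RingHom.id _ :=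
  RingHom.ext fun x => TrivSqZeroExt.ext (by simp) (by simp [h])

theorem tsMap_comp_zero (g : N →ₗ[R] M) (h : ∀ x, g (f x) = 0) :
    (tsMap g).comp (tsMap f) = (TrivSqZeroExt.inlHom R M).comp (TrivSqZeroExt.fstHom R R M).toRingHom :=
  RingHom.ext fun x => TrivSqZeroExt.ext (by simp) (by simp [h])

end

open TrivSqZeroExt in
/-- Composition of infinitesimal automorphisms adds coordinates. -/
theorem AutChart.snd_coord_trans {Rr : Type u} [CommRing Rr] (gR : k →+* Rr)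
    {X Y : Pt y y (tst strk ((dnInl Rr).comp gR))} (hXs : X.snd = cst strk _ ≫ b₀) (hYf : Y.fst = cst strk _ ≫ b₀)
    (hX : ∀ hg, X.res h𝒴 (tmap strk (dnRed Rr) (g' := gR) hg) = Pt.refl y (cst strk gR ≫ b₀))
    (hY : ∀ hg, Y.res h𝒴 (tmap strk (dnRed Rr) (g' := gR) hg) = Pt.refl y (cst strk gR ≫ b₀))
    {ψX ψY ψZ : A.B →+* DualNumber Rr} (cX : A.Coord X ψX) (eX : (dnRed Rr).comp ψX = gR.comp A.χ)
    (cY : A.Coord Y ψY) (eY : (dnRed Rr).comp ψY = gR.comp A.χ)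
    (cZ : A.Coord (X.trans Y (hXs.trans hYf.symm)) ψZ) (eZ : (dnRed Rr).comp ψZ = gR.comp A.χ) (b : A.B) :
    (ψZ b).snd = (ψX b).snd + (ψY b).snd := by
  let C₂ := TrivSqZeroExt Rr (Rr × Rr)
  let g₂ : k →+* C₂ := (inlHom Rr (Rr × Rr)).comp gR
  let φ₂ : C₂ →+* Rr := (fstHom Rr Rr (Rr × Rr)).toRingHom
  let i₁ : DualNumber Rr →+* C₂ := tsMap (LinearMap.inl Rr Rr Rr)
  let i₂ : DualNumber Rr →+* C₂ := tsMap (LinearMap.inr Rr Rr Rr)
  let p₁ : C₂ →+* DualNumber Rr := tsMap (LinearMap.fst Rr Rr Rr)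
  let p₂ : C₂ →+* DualNumber Rr := tsMap (LinearMap.snd Rr Rr Rr)
  let s : C₂ →+* DualNumber Rr :=
    tsMap (LinearMap.fst Rr Rr Rr + LinearMap.snd Rr Rr Rr)
  let g := (dnInl Rr).comp gR
  have hi₁ : i₁.comp g = g₂ := RingHom.ext fun c =>
    TrivSqZeroExt.ext (tsMap_fst _ _) ((tsMap_snd _ _).trans (map_zero _))
  have hi₂ : i₂.comp g = g₂ := RingHom.ext fun c =>
    TrivSqZeroExt.ext (tsMap_fst _ _) ((tsMap_snd _ _).trans (map_zero _))
  have hp₁ : p₁.comp g₂ = g := RingHom.ext fun c =>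
    TrivSqZeroExt.ext (tsMap_fst _ _) ((tsMap_snd _ _).trans (map_zero _))
  have hp₂ : p₂.comp g₂ = g := RingHom.ext fun c =>
    TrivSqZeroExt.ext (tsMap_fst _ _) ((tsMap_snd _ _).trans (map_zero _))
  have hs : s.comp g₂ = g := RingHom.ext fun c =>
    TrivSqZeroExt.ext (tsMap_fst _ _) ((tsMap_snd _ _).trans (map_zero _))
  have hr : (dnRed Rr).comp g = gR := RingHom.ext fun c =>
    rfl
  have hin : (dnInl Rr).comp gR = g := rfl
  let r0 : DualNumber Rr →+* DualNumber Rr := (dnInl Rr).comp (dnRed Rr)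
  have hr0 : r0.comp g = g := RingHom.ext fun c => by simp [r0, g]
  have res_r0 : ∀ P : Pt y y (tst strk g), (∀ hg, P.res h𝒴 (tmap strk (dnRed Rr) (g' := gR) hg) =
      Pt.refl y (cst strk gR ≫ b₀)) → P.res h𝒴 (tmap strk r0 hr0) = Pt.refl y (cst strk g ≫ b₀) := fun P hP => by
    rw [← tmap_comp strk (dnRed Rr) hr (dnInl Rr) hin, ← Pt.res_res, hP, Pt.res_refl, tmap_cst_assoc']
  have res_id' : ∀ (P : Pt y y (tst strk g)) (r : DualNumber Rr →+* DualNumber Rr) (hr : r.comp g = g),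
      r = RingHom.id _ → P.res h𝒴 (tmap strk r hr) = P := fun P r hr e => by
    subst e; rw [tmap_id, Pt.res_id]
  let Z₂ : Pt y y (tst strk g₂) := (X.res h𝒴 (tmap strk i₁ hi₁)).trans (Y.res h𝒴 (tmap strk i₂ hi₂)) (by
    rw [Pt.res_fst, Pt.res_snd, hXs, hYf, tmap_cst_assoc', tmap_cst_assoc'])
  have hφ₂ : φ₂.comp g₂ = gR := RingHom.ext fun c =>
    rfl
  have hφi₁ : φ₂.comp i₁ = dnRed Rr := RingHom.ext fun c =>
    tsMap_fst _ _
  have hφi₂ : φ₂.comp i₂ = dnRed Rr := RingHom.ext fun c =>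
    tsMap_fst _ _
  obtain ⟨ψ, cψ, eψ⟩ := A.exists_coord (φ := φ₂) Z₂ (fun r => ⟨(inl r : C₂), fst_inl (Rr × Rr) r⟩) (tsze_ker_sq Rr (Rr × Rr)) hφ₂ (by
    rw [Pt.res_trans]
    simp only [Pt.res_res, tmap_comp, tmap_congr strk hφi₁, tmap_congr strk hφi₂]
    rw [Pt.trans_congr (hX _) (hY _)]
    exact Pt.trans_refl _ rfl)
  have red : ∀ q : C₂ →+* DualNumber Rr, (dnRed Rr).comp q = φ₂ →
      (dnRed Rr).comp (q.comp ψ) = gR.comp A.χ := fun q hq => by rw [← RingHom.comp_assoc, hq, eψ]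
  have hp₁' : (dnRed Rr).comp p₁ = φ₂ := RingHom.ext fun c =>
    tsMap_fst _ _
  have hp₂' : (dnRed Rr).comp p₂ = φ₂ := RingHom.ext fun c =>
    tsMap_fst _ _
  have hs' : (dnRed Rr).comp s = φ₂ := RingHom.ext fun c =>
    tsMap_fst _ _
  have e₁₁ : p₁.comp i₁ = RingHom.id _ := tsMap_comp_id _ _ fun x => rfl
  have e₁₂ : p₁.comp i₂ = r0 := tsMap_comp_zero _ _ fun x => rfl
  have e₂₁ : p₂.comp i₁ = r0 := tsMap_comp_zero _ _ fun x => rfl
  have e₂₂ : p₂.comp i₂ = RingHom.id _ := tsMap_comp_id _ _ fun x => rfl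
  have es₁ : s.comp i₁ = RingHom.id _ := tsMap_comp_id _ _ fun x => add_zero x
  have es₂ : s.comp i₂ = RingHom.id _ := tsMap_comp_id _ _ fun x => zero_add x
  have hX₁ : Z₂.res h𝒴 (tmap strk p₁ hp₁) = X := by
    simp only [Z₂, Pt.res_trans, Pt.res_res, tmap_comp]
    rw [Pt.trans_congr (res_id' X _ _ e₁₁) (show _ = _ from (congrArg (fun m => Y.res h𝒴 m)
      (tmap_congr strk e₁₂ _)).trans (res_r0 Y hY)), Pt.trans_refl]
  have hY₂ : Z₂.res h𝒴 (tmap strk p₂ hp₂) = Y := by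
    simp only [Z₂, Pt.res_trans, Pt.res_res, tmap_comp]
    rw [Pt.trans_congr (show _ = _ from (congrArg (fun m => X.res h𝒴 m)
      (tmap_congr strk e₂₁ _)).trans (res_r0 X hX)) (res_id' Y _ _ e₂₂), Pt.refl_trans]
  have hZs : Z₂.res h𝒴 (tmap strk s hs) = X.trans Y (hXs.trans hYf.symm) := by
    simp only [Z₂, Pt.res_trans, Pt.res_res, tmap_comp]
    exact Pt.trans_congr (res_id' X _ _ es₁) (res_id' Y _ _ es₂) _
  have h1 := cX.unique A (hX₁ ▸ cψ.res A p₁ hp₁) (dnRed_surjective Rr) (tsze_ker_sq Rr Rr) hr (eX.trans (red _ hp₁').symm)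
  have h2 := cY.unique A (hY₂ ▸ cψ.res A p₂ hp₂) (dnRed_surjective Rr) (tsze_ker_sq Rr Rr) hr (eY.trans (red _ hp₂').symm)
  have h3 := cZ.unique A (hZs ▸ cψ.res A s hs) (dnRed_surjective Rr) (tsze_ker_sq Rr Rr) hr (eZ.trans (red _ hs').symm)
  rw [h1, h2, h3]
  exact tsMap_add_snd _ _ (ψ b)

end Groth.Agent.IsoTrans
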