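import Groth.Agent.IsoTrans.InertiaPt
import Groth.Agent.AlgStLib.DiagLft

/-!
Being locally of finite presentation depends only on the isomorphism classes.
-/

set_option autoImplicit false
set_option backward.isDefEq.respectTransparency false
set_option backward.isDefEq.respectTransparency.types false

universe u

open CategoryTheory CategoryTheory.Limits CategoryTheory.Functor AlgebraicGeometry Opposite AlgSp

namespace Groth.Agent.IsoTrans

open Groth.Agent Groth.Agent.FibBasics Groth.Agent.AlgSpLib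

variable {S : Scheme.{u}} {𝒳 𝒴 : AlgSt.Cat S} {U V : Over S}

/-- A morphism of sheaves from a natural map of points. -/
theorem exists_hom_of_points {A B : Sp S} (f : ∀ {T : Over S}, ((yon S).obj T ⟶ A) → ((yon S).obj T ⟶ B))
    (hf : ∀ {T' T : Over S} (g : T' ⟶ T) (σ : (yon S).obj T ⟶ A),
      f ((yon S).map g ≫ σ) = (yon S).map g ≫ f σ) :
    ∃ θ : A ⟶ B, ∀ {T : Over S} (σ : (yon S).obj T ⟶ A), σ ≫ θ = f σ := by
  let app : ∀ T : (Over S)ᵒᵖ, A.obj.obj T ⟶ B.obj.obj T := fun T =>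
    ↾fun s => (J S).uliftYonedaEquiv (f ((J S).uliftYonedaEquiv.symm s) : (yon S).obj T.unop ⟶ B)
  have hnat : ∀ ⦃T T' : (Over S)ᵒᵖ⦄ (g : T ⟶ T'), A.obj.map g ≫ app T' = app T ≫ B.obj.map g := by
    intro T T' g
    ext s
    show (J S).uliftYonedaEquiv (f ((J S).uliftYonedaEquiv.symm (A.obj.map g s))) =
      B.obj.map g ((J S).uliftYonedaEquiv (f ((J S).uliftYonedaEquiv.symm s)))
    rw [show B.obj.map g ((J S).uliftYonedaEquiv (f ((J S).uliftYonedaEquiv.symm s))) =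
        (J S).uliftYonedaEquiv ((yon S).map g.unop ≫ f ((J S).uliftYonedaEquiv.symm s)) from
      GrothendieckTopology.uliftYonedaEquiv_naturality .., ← hf]
    refine congrArg (fun t => (J S).uliftYonedaEquiv (f t)) ?_
    apply (J S).uliftYonedaEquiv.injective
    rw [← GrothendieckTopology.uliftYonedaEquiv_naturality, Equiv.apply_symm_apply, Equiv.apply_symm_apply]
    rfl
  refine ⟨ObjectProperty.homMk { app := app, naturality := hnat }, fun {T} σ => ?_⟩
  apply (J S).uliftYonedaEquiv.injective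
  rw [GrothendieckTopology.uliftYonedaEquiv_comp]
  show (J S).uliftYonedaEquiv (f ((J S).uliftYonedaEquiv.symm ((J S).uliftYonedaEquiv σ))) = _
  rw [Equiv.symm_apply_apply]

theorem hom_ext_points {A B : Sp S} {f g : A ⟶ B} (h : ∀ {T : Over S} (σ : (yon S).obj T ⟶ A), σ ≫ f = σ ≫ g) :
    f = g := by
  apply ObjectProperty.hom_ext
  apply NatTrans.ext
  funext T
  ext s
  have := congrArg (J S).uliftYonedaEquiv (h ((J S).uliftYonedaEquiv.symm s : (yon S).obj T.unop ⟶ A))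
  rw [GrothendieckTopology.uliftYonedaEquiv_comp, GrothendieckTopology.uliftYonedaEquiv_comp,
    Equiv.apply_symm_apply] at this
  exact this

theorem Pt.trans_cancel {v : FibCat.overCat V ⥤ᵇ 𝒴} {y : FibCat.overCat U ⥤ᵇ 𝒴} {T : Over S} (X Y : Pt v y T)
    (h : X.fst = Y.fst) (h' : X.snd = (X.symm.trans Y h).fst) : X.trans (X.symm.trans Y h) h' = Y := by
  obtain ⟨a, b, α⟩ := X
  obtain ⟨a', b', β⟩ := Y
  dsimp only at h
  subst h
  exact congrArg (Pt.mk a b') (by
    show α ≪≫ Iso.refl _ ≪≫ α.symm ≪≫ Iso.refl _ ≪≫ β = β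
    simp)

variable (v : FibCat.overCat V ⥤ᵇ 𝒴) (y : FibCat.overCat U ⥤ᵇ 𝒴) (w : FibCat.overCat V ⥤ᵇ 𝒳)
  (x : FibCat.overCat U ⥤ᵇ 𝒳)

/-- Two pairs of test objects with the same isomorphy relation. -/
def Corr : Prop :=
  ∀ {T : Over S} (a : T ⟶ V) (b : T ⟶ U), Nonempty (at' v a ≅ at' y b) ↔ Nonempty (at' w a ≅ at' x b)

variable {v y w x} {h𝒳 : FibCat.IsFibGrpd 𝒳.p} {h𝒴 : FibCat.IsFibGrpd 𝒴.p}

theorem FRep.exists_point {F : Sp S} {π₁ : F ⟶ (yon S).obj V} {π₂ : F ⟶ (yon S).obj U}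
    (R : FRep h𝒴 v y F π₁ π₂) {T : Over S} (p : Pt v y T) :
    ∃ σ : (yon S).obj T ⟶ F, R.rep.pm σ = p ∧ σ ≫ π₁ = (yon S).map p.fst ∧ σ ≫ π₂ = (yon S).map p.snd := by
  obtain ⟨σ, hσ⟩ := (R.rep.bij T).2 p
  exact ⟨σ, hσ, by rw [← R.fst_eq, hσ], by rw [← R.snd_eq, hσ]⟩

theorem FRep.fst_eq' {F : Sp S} {π₁ : F ⟶ (yon S).obj V} {π₂ : F ⟶ (yon S).obj U}
    (R : FRep h𝒴 v y F π₁ π₂) {T : Over S} {σ : (yon S).obj T ⟶ F} {a : T ⟶ V}
    (h : σ ≫ π₁ = (yon S).map a) : (R.rep.pm σ).fst = a :=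
  (yon S).map_injective ((R.fst_eq σ).trans h)

theorem FRep.snd_eq' {F : Sp S} {π₁ : F ⟶ (yon S).obj V} {π₂ : F ⟶ (yon S).obj U}
    (R : FRep h𝒴 v y F π₁ π₂) {T : Over S} {σ : (yon S).obj T ⟶ F} {b : T ⟶ U}
    (h : σ ≫ π₂ = (yon S).map b) : (R.rep.pm σ).snd = b :=
  (yon S).map_injective ((R.snd_eq σ).trans h)

/-- The transfer of finite presentation. -/
theorem locP_lfp_of_corr
    (hI : AlgSt.RepByAlgSpWith (LocP @LocallyOfFinitePresentation) (FibCat.inertiaToBase (FibCat.toSelf 𝒴)))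
    (hc : Corr v y w x) {F : Sp S} (hF : IsAlgSpace F) {π₁ : F ⟶ (yon S).obj V} {π₂ : F ⟶ (yon S).obj U}
    (R : FRep h𝒴 v y F π₁ π₂) {G : Sp S} (hG : IsAlgSpace G) {ρ₁ : G ⟶ (yon S).obj V} {ρ₂ : G ⟶ (yon S).obj U}
    (R' : FRep h𝒳 w x G ρ₁ ρ₂) (hl : LocP @LocallyOfFinitePresentation ρ₁) :
    LocP @LocallyOfFinitePresentation π₁ := by
  have hyU : IsAlgSpace ((yon S).obj U) := IsAlgSpace.yon_obj U
  have hyV : IsAlgSpace ((yon S).obj V) := IsAlgSpace.yon_obj V
  obtain ⟨W, a, ha, has⟩ := hF.atlas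
  obtain ⟨W', c, hc', hcs⟩ := hG.atlas
  have hyW : IsAlgSpace ((yon S).obj W) := IsAlgSpace.yon_obj W
  have hyW' : IsAlgSpace ((yon S).obj W') := IsAlgSpace.yon_obj W'
  let α := R.rep.pm a
  let β := R'.rep.pm c
  obtain ⟨ι⟩ := (hc β.fst β.snd).2 ⟨β.iso⟩
  let α' : Pt v y W' := ⟨β.fst, β.snd, ι⟩
  obtain ⟨κ⟩ := (hc α.fst α.snd).1 ⟨α.iso⟩
  obtain ⟨t, -, ht₁, ht₂⟩ := R'.exists_point ⟨α.fst, α.snd, κ⟩
  obtain ⟨I, πI, RI, hπI, hRI⟩ := exists_iRep h𝒴 hI y
  let I' := pullback πI ((yon S).map β.snd)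
  have hI' : IsAlgSpace I' := isAlgSpace_pullback _ _ I.property hyW' hyU
  let p₁ : I' ⟶ I.obj := pullback.fst _ _
  let p₂ : I' ⟶ (yon S).obj W' := pullback.snd _ _
  have hp₂ : LocP @LocallyOfFinitePresentation p₂ :=
    locP_baseChange I.property hyU hyW' (IsPullback.of_hasPullback _ _) hπI
  let qv : ∀ {T : Over S}, ((yon S).obj T ⟶ I') → (T ⟶ W') := fun {T} σ => (yon S).preimage (σ ≫ p₂)
  have hq : ∀ {T : Over S} (σ : (yon S).obj T ⟶ I'), (yon S).map (qv σ) = σ ≫ p₂ := fun σ => (yon S).map_preimage _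
  have hgfst : ∀ {T : Over S} (σ : (yon S).obj T ⟶ I'),
      (α'.res h𝒴 (qv σ)).snd = (RI.pm (σ ≫ p₁)).1.fst := fun σ => by
    rw [Pt.res_snd]
    apply (yon S).map_injective
    rw [hRI, Functor.map_comp, hq, Category.assoc, Category.assoc, pullback.condition]
  obtain ⟨θ, hθ⟩ := exists_hom_of_points (A := I') (B := F)
    (fun {T} σ => (Equiv.ofBijective _ (R.rep.bij T)).symm
      ((α'.res h𝒴 (qv σ)).trans (RI.pm (σ ≫ p₁)).1 (hgfst σ))) (fun {T' T} g σ => by
    apply (R.rep.bij T').1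
    rw [R.rep.natural]
    simp only [Equiv.ofBijective_apply_symm_apply, Pt.res_trans]
    have e₁ : qv ((yon S).map g ≫ σ) = g ≫ qv σ := (yon S).map_injective (by
      rw [hq, Functor.map_comp, hq, Category.assoc])
    have e₂ : (RI.pm (((yon S).map g ≫ σ) ≫ p₁)).1 = (RI.pm (σ ≫ p₁)).1.res h𝒴 g := by
      rw [Category.assoc, RI.natural]; rfl
    congr 1
    rw [e₁, Pt.res_res])
  have hθpm : ∀ {T : Over S} (σ : (yon S).obj T ⟶ I'),
      R.rep.pm (σ ≫ θ) = (α'.res h𝒴 (qv σ)).trans (RI.pm (σ ≫ p₁)).1 (hgfst σ) := fun σ => by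
    rw [hθ]; exact Equiv.ofBijective_apply_symm_apply _ (R.rep.bij _) _
  have hθ₁ : θ ≫ π₁ = p₂ ≫ (yon S).map β.fst := hom_ext_points fun σ => by
    rw [← Category.assoc, ← R.fst_eq, hθpm, Pt.trans_fst, Pt.res_fst, Functor.map_comp, hq, Category.assoc]
  have hβ : (yon S).map β.fst = c ≫ ρ₁ := R'.fst_eq c
  have hlβ : LocP @LocallyOfFinitePresentation ((yon S).map β.fst) := by
    rw [hβ]
    exact locP_comp hyW' hG hyV (locP_mono (fun _ _ k hk => by have : Etale k := hk; infer_instance)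
      (locP_of_repWith hc' fun A B C k m hk hm => EtLocal.comp_etale (P := @Etale) k m hk hm)) hl
  have hθl : LocP @LocallyOfFiniteType θ := by
    have h1 : LocP @LocallyOfFiniteType (θ ≫ π₁) := by
      rw [hθ₁]
      exact locP_mono (fun _ _ k hk => by have : LocallyOfFinitePresentation k := hk; infer_instance)
        (locP_comp hI' hyW' hyV hp₂ hlβ)
    exact locP_of_comp (R := ⊤) hI' hF hyV h1 (locP_top π₁) fun A B C k m hk _ => AlgStLib.lft_cancel k m hk
  let Z := pullback a θ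
  have hZ : IsAlgSpace Z := isAlgSpace_pullback _ _ hyW hI' hF
  have hzW : LocP @LocallyOfFiniteType (pullback.fst a θ) :=
    locP_baseChange hI' hF hyW (IsPullback.of_hasPullback a θ).flip hθl
  have haL : LocP @Etale a := locP_of_repWith ha fun A B C k m hk hm => EtLocal.comp_etale (P := @Etale) k m hk hm
  have hzI : LocP @LocallyOfFinitePresentation (pullback.snd a θ ≫ p₂) :=
    locP_comp hZ hI' hyW'
      (locP_mono (fun _ _ k hk => by have : Etale k := hk; infer_instance)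
        (locP_baseChange hyW hF hI' (IsPullback.of_hasPullback a θ) haL)) hp₂
  obtain ⟨W₂, q, p, sq⟩ := exists_isPullback hc'.1 t
  have hpe : Etale p.left := prop_snd sq hc'
  have hps : Surjective p.left := prop_snd sq hcs
  have e₁ : q ≫ β.fst = p ≫ α.fst := (yon S).map_injective (by
    rw [Functor.map_comp, hβ, ← Category.assoc, sq.w, Category.assoc, ht₁, Functor.map_comp])
  have e₂ : q ≫ β.snd = p ≫ α.snd := (yon S).map_injective (by
    rw [Functor.map_comp, R'.snd_eq c, ← Category.assoc, sq.w, Category.assoc, ht₂, Functor.map_comp])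
  let g : Pt y y W₂ := (α'.res h𝒴 q).symm.trans (α.res h𝒴 p) (by
    show (α'.res h𝒴 q).fst = (α.res h𝒴 p).fst
    simp only [Pt.res_fst]; exact e₁)
  obtain ⟨σI, hσI⟩ := (RI.bij W₂).2 ⟨g, by
    show (α'.res h𝒴 q).snd = (α.res h𝒴 p).snd
    simp only [Pt.res_snd]; exact e₂⟩
  let σ' : (yon S).obj W₂ ⟶ I' := pullback.lift σI ((yon S).map q) (by
    rw [← hRI, hσI, ← Functor.map_comp]
    exact congrArg (yon S).map (Pt.res_snd h𝒴 q α'))
  have hσ' : (yon S).map p ≫ a = σ' ≫ θ := by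
    apply (R.rep.bij W₂).1
    rw [hθpm, R.rep.natural]
    have hqq : qv σ' = q := (yon S).map_injective (by rw [hq]; exact pullback.lift_snd _ _ _)
    have hgg : (RI.pm (σ' ≫ p₁)).1 = g := by
      rw [show σ' ≫ p₁ = σI from pullback.lift_fst _ _ _, hσI]
    simp only [hqq, hgg, g]
    exact (Pt.trans_cancel _ _ _ _).symm
  let k : (yon S).obj W₂ ⟶ Z := pullback.lift ((yon S).map p) σ' hσ'
  have hk : LocP @LocallyOfFinitePresentation k := by
    have h1 : LocP @LocallyOfFinitePresentation (k ≫ pullback.fst a θ) := by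
      rw [pullback.lift_fst]
      exact (locP_yon_map_iff p).2 (by have := hpe; infer_instance)
    exact locP_of_comp (IsAlgSpace.yon_obj W₂) hZ hyW h1 hzW fun A B C k m hk hm =>
      locallyOfFinitePresentation_of_comp k m hk hm
  have hq' : LocP @LocallyOfFinitePresentation ((yon S).map q) := by
    have h1 := locP_comp (IsAlgSpace.yon_obj W₂) hZ hyW' hk hzI
    rwa [pullback.lift_snd_assoc, show σ' ≫ p₂ = (yon S).map q from pullback.lift_snd _ _ _] at h1
  have hpa : LocallyOfFinitePresentation (p.left ≫ α.fst.left) := by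
    rw [← Over.comp_left, ← e₁, Over.comp_left]
    have := (locP_yon_map_iff q).1 hq'
    have := (locP_yon_map_iff β.fst).1 hlβ
    infer_instance
  refine locP_of_chart ha has (repWith_id _ V) (h := α.fst) ?_
    (EtLocal.desc p.left α.fst.left hpe hps hpa)
  rw [Category.comp_id, R.fst_eq]

end Groth.Agent.IsoTrans
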