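import Groth.Agent.IsoTrans.Lfp
import Groth.Agent.AlgStLib.IsoCls
import Groth.Agent.AlgStLib.LocQCalc

/-!
Test objects corresponding under an isomorphism of presheaves of isomorphism classes.
-/

set_option autoImplicit false
set_option backward.isDefEq.respectTransparency false
set_option backward.isDefEq.respectTransparency.types false

universe u

open CategoryTheory CategoryTheory.Limits CategoryTheory.Functor AlgebraicGeometry Opposite AlgSp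

namespace Groth.Agent.IsoTrans

open Groth.Agent Groth.Agent.FibBasics Groth.Agent.AlgSpLib

variable {S : Scheme.{u}} {𝒳 𝒴 : AlgSt.Cat S} {U V : Over S}

/-- Corresponding test objects. -/
def Twin (φ : IsoNat.FIso 𝒳 𝒴) (x : FibCat.overCat U ⥤ᵇ 𝒳) (y : FibCat.overCat U ⥤ᵇ 𝒴) : Prop :=
  φ.toEquiv U (IsoNat.objCls x) = IsoNat.objCls y

variable {φ : IsoNat.FIso 𝒳 𝒴} (h𝒳 : FibCat.IsFibGrpd 𝒳.p) (h𝒴 : FibCat.IsFibGrpd 𝒴.p)

include h𝒳 in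
theorem exists_twin_left (φ : IsoNat.FIso 𝒳 𝒴) (y : FibCat.overCat U ⥤ᵇ 𝒴) :
    ∃ x : FibCat.overCat U ⥤ᵇ 𝒳, Twin φ x y := by
  have := isFibered_of_isFibGrpd _ h𝒳
  obtain ⟨ξ, hξ⟩ := Quotient.exists_rep ((φ.toEquiv U).symm (IsoNat.objCls y))
  obtain ⟨x, -, ⟨i⟩⟩ := exists_evalAtId_iso ξ
  refine ⟨x, ?_⟩
  have e : IsoNat.objCls x = IsoNat.cls ξ := Quotient.sound ⟨i⟩
  rw [Twin, e, show IsoNat.cls ξ = (φ.toEquiv U).symm (IsoNat.objCls y) from hξ, Equiv.apply_symm_apply]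

include h𝒴 in
theorem exists_twin_right (φ : IsoNat.FIso 𝒳 𝒴) (x : FibCat.overCat U ⥤ᵇ 𝒳) :
    ∃ y : FibCat.overCat U ⥤ᵇ 𝒴, Twin φ x y := by
  have := isFibered_of_isFibGrpd _ h𝒴
  obtain ⟨η, hη⟩ := Quotient.exists_rep (φ.toEquiv U (IsoNat.objCls x))
  obtain ⟨y, -, ⟨i⟩⟩ := exists_evalAtId_iso η
  refine ⟨y, ?_⟩
  have e : IsoNat.objCls y = IsoNat.cls η := Quotient.sound ⟨i⟩
  rw [Twin, e]
  exact hη.symm

include h𝒴 in
theorem Twin.cls_at {x : FibCat.overCat U ⥤ᵇ 𝒳} {y : FibCat.overCat U ⥤ᵇ 𝒴} (hxy : Twin φ x y)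
    {T : Over S} (a : T ⟶ U) : φ.toEquiv T (IsoNat.cls (at' x a)) = IsoNat.cls (at' y a) := by
  obtain ⟨η, hη⟩ := Quotient.exists_rep (φ.toEquiv T (IsoNat.cls (at' x a)))
  obtain ⟨b, hb⟩ := AlgStLib.exists_hom_transfer φ a (x' := at' x a) (x := at' x (𝟙 U))
    (rm x a (Category.comp_id a)) (rm_lift x a _) (y' := η) (y := at' y (𝟙 U)) hη.symm hxy
  obtain ⟨χ, hχ⟩ := AlgStLib.exists_compare h𝒴 a b (rm y a (Category.comp_id a)) hb (rm_lift y a _)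
  exact hη.symm.trans (Quotient.sound ⟨fibIso h𝒴 (a := η) (b := at' y a) χ.hom hχ⟩)

include h𝒴 in
theorem Twin.corr {w : FibCat.overCat V ⥤ᵇ 𝒳} {v : FibCat.overCat V ⥤ᵇ 𝒴} {x : FibCat.overCat U ⥤ᵇ 𝒳}
    {y : FibCat.overCat U ⥤ᵇ 𝒴} (hv : Twin φ w v) (hxy : Twin φ x y) : Corr v y w x := by
  intro T a b
  have h₁ := hv.cls_at h𝒴 a
  have h₂ := hxy.cls_at h𝒴 b
  constructor
  · intro h
    exact Quotient.exact ((φ.toEquiv T).injective (h₁.trans ((Quotient.sound h).trans h₂.symm)))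
  · intro h
    exact Quotient.exact (h₁.symm.trans ((congrArg (φ.toEquiv T) (Quotient.sound h)).trans h₂))

theorem Corr.symm' {v : FibCat.overCat V ⥤ᵇ 𝒴} {y : FibCat.overCat U ⥤ᵇ 𝒴} {w : FibCat.overCat V ⥤ᵇ 𝒳}
    {x : FibCat.overCat U ⥤ᵇ 𝒳} (h : Corr v y w x) : Corr w x v y := fun a b => (h a b).symm

/-- Finite presentation transfers to the twin. -/
theorem repWith_lfp_of_twin (h𝒳 : FibCat.IsFibGrpd 𝒳.p)
    (h𝒴 : AlgSt.IsAlgStack Scheme.fppfPrecoverage 𝒴)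
    (hI : AlgSt.RepByAlgSpWith (LocP @LocallyOfFinitePresentation) (FibCat.inertiaToBase (FibCat.toSelf 𝒴)))
    {x : FibCat.overCat U ⥤ᵇ 𝒳} {y : FibCat.overCat U ⥤ᵇ 𝒴} (hxy : Twin φ x y)
    (hx : AlgSt.RepByAlgSpWith (LocP @LocallyOfFinitePresentation) x) :
    AlgSt.RepByAlgSpWith (LocP @LocallyOfFinitePresentation) y := by
  intro V v
  obtain ⟨w, hw⟩ := exists_twin_left h𝒳 φ v
  obtain ⟨F, e, he⟩ := AlgStLib.rep_slices_of_diag h𝒴.isStack.1 h𝒴.diag U y V v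
  obtain ⟨G, e', he', hl⟩ := hx V w
  obtain ⟨R⟩ := exists_frep h𝒴.isStack.1 he
  obtain ⟨R'⟩ := exists_frep h𝒳 he'
  exact ⟨F, e, he, locP_lfp_of_corr hI (hw.corr h𝒴.isStack.1 hxy) F.property R G.property R' hl⟩

/-- Finite presentation transfers back from the twin. -/
theorem repWith_lfp_of_twin' (h𝒳 : AlgSt.IsAlgStack Scheme.fppfPrecoverage 𝒳)
    (h𝒴 : FibCat.IsFibGrpd 𝒴.p)
    (hI : AlgSt.RepByAlgSpWith (LocP @LocallyOfFinitePresentation) (FibCat.inertiaToBase (FibCat.toSelf 𝒳)))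
    {x : FibCat.overCat U ⥤ᵇ 𝒳} {y : FibCat.overCat U ⥤ᵇ 𝒴} (hxy : Twin φ x y)
    (hy : AlgSt.RepByAlgSpWith (LocP @LocallyOfFinitePresentation) y) :
    AlgSt.RepByAlgSpWith (LocP @LocallyOfFinitePresentation) x := by
  intro V v
  obtain ⟨w, hw⟩ := exists_twin_right h𝒴 φ v
  obtain ⟨F, e, he⟩ := AlgStLib.rep_slices_of_diag h𝒳.isStack.1 h𝒳.diag U x V v
  obtain ⟨G, e', he', hl⟩ := hy V w
  obtain ⟨R⟩ := exists_frep h𝒳.isStack.1 he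
  obtain ⟨R'⟩ := exists_frep h𝒴 he'
  exact ⟨F, e, he, locP_lfp_of_corr hI (Corr.symm' (hw.corr h𝒴 hxy)) F.property R G.property R' hl⟩

end Groth.Agent.IsoTrans
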