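import Groth.Agent.IsoTrans.MultiGlue
import Groth.Agent.IsoTrans.AtlasLift
import Groth.Agent.IsoTrans.Twin

/-!
Lifting of points of the fibre product of slices over thickenings, from the isomorphism classes.
-/

set_option autoImplicit false
set_option linter.style.haveILetI false
set_option backward.isDefEq.respectTransparency false
set_option backward.isDefEq.respectTransparency.types false

universe u

open CategoryTheory CategoryTheory.Limits CategoryTheory.Functor AlgebraicGeometry Opposite AlgSp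

namespace Groth.Agent.IsoTrans

open Groth.Agent Groth.Agent.FibBasics Groth.Agent.AlgSpLib

variable {S : Scheme.{u}} {𝒳 𝒴 : AlgSt.Cat S} {U V : Over S}

/-- `(Z - θ⁻¹) + θ = Z`. -/
theorem Pt.trans_symm_cancel {v : FibCat.overCat V ⥤ᵇ 𝒴} {y : FibCat.overCat U ⥤ᵇ 𝒴} {T : Over S}
    (Z Y : Pt v y T) (h : Z.snd = Y.snd) (h' : (Z.trans Y.symm h).snd = Y.fst) :
    (Z.trans Y.symm h).trans Y h' = Z := by
  obtain ⟨a, b, α⟩ := Z
  obtain ⟨a', b', β⟩ := Y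
  dsimp only at h
  subst h
  exact congrArg (Pt.mk a b) (by
    show (α ≪≫ Iso.refl _ ≪≫ β.symm) ≪≫ Iso.refl _ ≪≫ β = α
    simp)

variable {v : FibCat.overCat V ⥤ᵇ 𝒴} {y : FibCat.overCat U ⥤ᵇ 𝒴} {w : FibCat.overCat V ⥤ᵇ 𝒳}
  {x : FibCat.overCat U ⥤ᵇ 𝒳} {h𝒳 : FibCat.IsFibGrpd 𝒳.p} {h𝒴 : FibCat.IsFibGrpd 𝒴.p}

/-- A chart of a space over a scheme with a property. -/
theorem prop_chart {P : MorphismProperty Scheme.{u}} {W : Over S} {F : Sp S} {a : (yon S).obj W ⟶ F}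
    (ha : RepWith @Etale a) {π : F ⟶ (yon S).obj V} {k : W ⟶ V} (hk : (yon S).map k = a ≫ π) (h : LocP P π) :
    P k.left :=
  h a (𝟙 _) k ha (repWith_id _ V) (by rw [Category.comp_id, hk])

/-- The lifting property. -/
theorem exists_lift_split (hc : Corr v y w x) {F : Sp S} {π₁ : F ⟶ (yon S).obj V} {π₂ : F ⟶ (yon S).obj U}
    (R : FRep h𝒴 v y F π₁ π₂) {G : Sp S} (hG : IsAlgSpace G) {ρ₁ : G ⟶ (yon S).obj V} {ρ₂ : G ⟶ (yon S).obj U}
    (R' : FRep h𝒳 w x G ρ₁ ρ₂) (hρ : LocP @Smooth ρ₁)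
    {D : Sp S} (hD : IsAlgSpace D) {κ₁ κ₂ : D ⟶ (yon S).obj V} (RD : FRep h𝒴 v v D κ₁ κ₂) (hκ : LocP @Smooth κ₁)
    {C : Type u} [CommRing C] {C₀ : Type u} [CommRing C₀] {φ : C →+* C₀} (hφ : Function.Surjective φ)
    (hsq : RingHom.ker φ ^ 2 = ⊥) (hC : ProEtW.HasEtaleRetractions C₀)
    {str : Spec (CommRingCat.of C) ⟶ S} {str₀ : Spec (CommRingCat.of C₀) ⟶ S}
    (j : affObj str₀ ⟶ affObj str) (hj : j.left = Spec.map (CommRingCat.ofHom φ)) (a : affObj str ⟶ V)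
    (σ₀ : (yon S).obj (affObj str₀) ⟶ F) (h₀ : σ₀ ≫ π₁ = (yon S).map (j ≫ a)) :
    ∃ σ : (yon S).obj (affObj str) ⟶ F, (yon S).map j ≫ σ = σ₀ ∧ σ ≫ π₁ = (yon S).map a := by
  classical
  have hp₀ : (R.rep.pm σ₀).fst = j ≫ a := R.fst_eq' h₀
  obtain ⟨Q, e, he, hes⟩ := hD.atlas
  obtain ⟨k₁, hk₁⟩ := (yon S).map_surjective (e ≫ κ₁)
  obtain ⟨k₂, hk₂⟩ := (yon S).map_surjective (e ≫ κ₂)
  have : Smooth k₁.left := prop_chart he hk₁ hκ
  -- all automorphisms of the reduced point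
  let J : Type u := {q : affObj str₀ ⟶ Q // q ≫ k₁ = j ≫ a ∧ q ≫ k₂ = j ≫ a}
  have hJ : ∀ d : Pt v v (affObj str₀), d.fst = j ≫ a → d.snd = j ≫ a →
      ∃ q : J, RD.rep.pm ((yon S).map q.1 ≫ e) = d := by
    intro d h₁ h₂
    obtain ⟨τ, hτ, hτ₁, hτ₂⟩ := RD.exists_point d
    obtain ⟨q, hq⟩ := exists_lift_atlas hC he hes τ
    refine ⟨⟨q, ?_, ?_⟩, by rw [hq, hτ]⟩
    · apply (yon S).map_injective
      rw [Functor.map_comp, hk₁, ← Category.assoc, hq, hτ₁, h₁]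
    · apply (yon S).map_injective
      rw [Functor.map_comp, hk₂, ← Category.assoc, hq, hτ₂, h₂]
  have : Nonempty J := ⟨(hJ (Pt.refl v (j ≫ a)) rfl rfl).choose⟩
  choose l hl hl₁ using fun q : J => exists_lift_over_smooth hφ hsq j hj k₁ q.1 a q.2.1.symm
  let aq : J → (affObj str ⟶ V) := fun q => l q ≫ k₂
  have haq : ∀ q, j ≫ aq q = j ≫ a := fun q => by rw [← Category.assoc, hl, q.2.2]
  -- glue
  obtain ⟨L, hL⟩ := exists_multi_glue φ J hC hφ hsq (fun q => (aq q).left) (j.left ≫ a.left) (fun q => by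
    rw [← hj]; exact congrArg CommaMorphism.left (haq q))
  let str₁ : Spec (CommRingCat.of (multi φ J)) ⟶ S := L ≫ V.hom
  let a₁ : affObj str₁ ⟶ V := Over.homMk L rfl
  let ε : J → (affObj str ⟶ affObj str₁) := fun q => Over.homMk (Spec.map (CommRingCat.ofHom (multiEv φ J q))) (by
    show Spec.map _ ≫ L ≫ V.hom = str
    rw [← Category.assoc, hL]; exact Over.w (aq q))
  have hεa : ∀ q, ε q ≫ a₁ = aq q := fun q => Over.OverMorphism.ext (hL q)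
  let q₀ : J := Classical.arbitrary J
  let j₁ : affObj str₀ ⟶ affObj str₁ := j ≫ ε q₀
  have hj₁ : j₁.left = Spec.map (CommRingCat.ofHom (multiRed φ J q₀)) := by
    show j.left ≫ Spec.map _ = _
    rw [hj, ← Spec.map_comp]
    rfl
  have hε : ∀ q, j ≫ ε q = j₁ := fun q => Over.OverMorphism.ext (by
    rw [hj₁, multiRed_eq φ J q₀ q]
    show j.left ≫ Spec.map _ = _
    rw [hj, ← Spec.map_comp]
    rfl)
  have hj₁a : j₁ ≫ a₁ = j ≫ a := by rw [Category.assoc, hεa, haq]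
  -- lift in the comparison category
  obtain ⟨β⟩ := (hc _ _).1 ⟨(R.rep.pm σ₀).iso⟩
  obtain ⟨τ₀, -, hτ₁, hτ₂⟩ := R'.exists_point (⟨(R.rep.pm σ₀).fst, (R.rep.pm σ₀).snd, β⟩ : Pt w x _)
  obtain ⟨W, c, hce, hcs⟩ := hG.atlas
  obtain ⟨kW, hkW⟩ := (yon S).map_surjective (c ≫ ρ₁)
  have : Smooth kW.left := prop_chart hce hkW hρ
  obtain ⟨w₀, hw₀⟩ := exists_lift_atlas hC hce hcs τ₀
  obtain ⟨w₁, hw₁, hw₁'⟩ := exists_lift_over_smooth (multiRed_surjective φ J hφ q₀) (multiRed_sq φ J hsq q₀)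
    j₁ hj₁ kW w₀ a₁ (by
      apply (yon S).map_injective
      rw [hj₁a, ← hp₀, (yon S).map_comp w₀ kW, hkW, ← Category.assoc, hw₀, hτ₁])
  let X₁ := R'.rep.pm ((yon S).map w₁ ≫ c)
  have hX₁ : X₁.fst = a₁ := R'.fst_eq' (by rw [Category.assoc, ← hkW, ← Functor.map_comp, hw₁'])
  have hX₁' : j₁ ≫ X₁.snd = (R.rep.pm σ₀).snd := by
    apply (yon S).map_injective
    rw [Functor.map_comp, R'.snd_eq, ← Category.assoc, ← Category.assoc, ← Functor.map_comp, hw₁, hw₀, hτ₂]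
  obtain ⟨θ⟩ := (hc _ _).2 ⟨X₁.iso⟩
  let θ₁ : Pt v y (affObj str₁) := ⟨X₁.fst, X₁.snd, θ⟩
  let θ₀ : Pt v y (affObj str₀) := θ₁.res h𝒴 j₁
  have hθfst : θ₀.fst = j ≫ a := by
    rw [Pt.res_fst]
    exact (congrArg (j₁ ≫ ·) hX₁).trans hj₁a
  have hθsnd : (R.rep.pm σ₀).snd = θ₀.snd := by rw [Pt.res_snd]; exact hX₁'.symm
  let g : Pt v v (affObj str₀) := (R.rep.pm σ₀).trans θ₀.symm hθsnd
  obtain ⟨q, hq⟩ := hJ g hp₀ hθfst
  let r : Pt v v (affObj str) := RD.rep.pm ((yon S).map (l q) ≫ e)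
  have hr : r.res h𝒴 j = g := by
    rw [← RD.rep.natural, ← Category.assoc, ← Functor.map_comp, hl, hq]
  have hrfst : r.fst = a := RD.fst_eq' (by rw [Category.assoc, ← hk₁, ← Functor.map_comp, hl₁])
  have hrsnd : r.snd = aq q := RD.snd_eq' (by rw [Category.assoc, ← hk₂, ← Functor.map_comp])
  have hrθ : r.snd = (θ₁.res h𝒴 (ε q)).fst := by
    rw [Pt.res_fst, hrsnd]
    exact ((congrArg (ε q ≫ ·) hX₁).trans (hεa q)).symm
  obtain ⟨σ, hσ, hσ₁, -⟩ := R.exists_point (r.trans (θ₁.res h𝒴 (ε q)) hrθ)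
  refine ⟨σ, (R.rep.bij _).1 ?_, by rw [hσ₁, Pt.trans_fst, hrfst]⟩
  rw [R.rep.natural, hσ, Pt.res_trans]
  simp only [hr, Pt.res_res, hε]
  exact Pt.trans_symm_cancel (R.rep.pm σ₀) θ₀ hθsnd _

end Groth.Agent.IsoTrans
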