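import Groth.Agent.IsoTrans.SchemeCrit

/-!
Gluing arbitrarily many thickened points along their common reduction.
-/

set_option autoImplicit false
set_option linter.style.haveILetI false
set_option backward.isDefEq.respectTransparency false
set_option backward.isDefEq.respectTransparency.types false

universe u

open CategoryTheory CategoryTheory.Limits AlgebraicGeometry

namespace Groth.Agent.IsoTrans

variable {C C₀ : Type u} [CommRing C] [CommRing C₀] (φ : C →+* C₀) (ι : Type u)

/-- Families with a common reduction. -/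
def multi : Subring (ι → C) where
  carrier := {f | ∀ q q', φ (f q) = φ (f q')}
  mul_mem' {f g} hf hg q q' := by simp only [Pi.mul_apply, map_mul, hf q q', hg q q']
  one_mem' q q' := rfl
  add_mem' {f g} hf hg q q' := by simp only [Pi.add_apply, map_add, hf q q', hg q q']
  zero_mem' q q' := rfl
  neg_mem' {f} hf q q' := by simp only [Pi.neg_apply, map_neg, hf q q']

/-- A component. -/
def multiEv (q : ι) : multi φ ι →+* C := (Pi.evalRingHom (fun _ => C) q).comp (multi φ ι).subtype

/-- The common reduction. -/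
def multiRed (q : ι) : multi φ ι →+* C₀ := φ.comp (multiEv φ ι q)

theorem multiRed_eq (q q' : ι) : multiRed φ ι q = multiRed φ ι q' := RingHom.ext fun f => f.2 q q'

theorem multiRed_surjective (hφ : Function.Surjective φ) (q : ι) : Function.Surjective (multiRed φ ι q) :=
  fun x => let ⟨c, hc⟩ := hφ x; ⟨⟨fun _ => c, fun _ _ => rfl⟩, hc⟩

theorem multiRed_sq (hsq : RingHom.ker φ ^ 2 = ⊥) (q : ι) : RingHom.ker (multiRed φ ι q) ^ 2 = ⊥ := by
  rw [pow_two, eq_bot_iff, Ideal.mul_le]
  intro f hf g hg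
  rw [Ideal.mem_bot]
  refine Subtype.ext (funext fun q' => ?_)
  have hf' : φ (f.1 q') = 0 := (f.2 q' q).trans hf
  have hg' : φ (g.1 q') = 0 := (g.2 q' q).trans hg
  show f.1 q' * g.1 q' = 0
  rw [← Ideal.mem_bot, ← hsq, pow_two]
  exact Ideal.mul_mem_mul hf' hg'

/-- Gluing into a scheme. -/
theorem exists_multi_glue (hC : ProEtW.HasEtaleRetractions C₀) (hφ : Function.Surjective φ)
    (hsq : RingHom.ker φ ^ 2 = ⊥) [Nonempty ι] {V : Scheme.{u}} (l : ι → (Spec (CommRingCat.of C) ⟶ V))
    (a₀ : Spec (CommRingCat.of C₀) ⟶ V) (hl : ∀ q, Spec.map (CommRingCat.ofHom φ) ≫ l q = a₀) :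
    ∃ L : Spec (CommRingCat.of (multi φ ι)) ⟶ V,
      ∀ q, Spec.map (CommRingCat.ofHom (multiEv φ ι q)) ≫ L = l q := by
  obtain ⟨Q, _, k, a₁, hk, hka⟩ := exists_affine_lift hC a₀
  choose m hm hu using fun q => existsUnique_lift_etale' φ hφ hsq k a₁ (l q) ((hl q).trans hka.symm)
  choose r hr using fun q => (⟨Spec.preimage (m q ≫ Q.isoSpec.hom), Spec.map_preimage _⟩ :
    ∃ r : Γ(Q, ⊤) ⟶ CommRingCat.of C, Spec.map r = m q ≫ Q.isoSpec.hom)
  have hred : ∀ q q', r q ≫ CommRingCat.ofHom φ = r q' ≫ CommRingCat.ofHom φ := fun q q' => by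
    apply Spec.map_injective
    rw [Spec.map_comp, Spec.map_comp, hr, hr, ← Category.assoc, ← Category.assoc, (hm q).1, (hm q').1]
  let R : Γ(Q, ⊤) ⟶ CommRingCat.of (multi φ ι) := CommRingCat.ofHom
    ((RingHom.pi fun q => (r q).hom).codRestrict (multi φ ι) fun x q q' =>
      RingHom.congr_fun (congrArg CommRingCat.Hom.hom (hred q q')) x)
  refine ⟨Spec.map R ≫ Q.isoSpec.inv ≫ k, fun q => ?_⟩
  rw [← Category.assoc, ← Spec.map_comp]
  rw [show R ≫ CommRingCat.ofHom (multiEv φ ι q) = r q from rfl, hr, Category.assoc, Iso.hom_inv_id_assoc]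
  exact (hm q).2

end Groth.Agent.IsoTrans
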