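import Groth.Agent.IsoTrans.DnLoc

/-!
The algebra of the punctured plane: `1/(xy)` is not a sum of functions on the two charts.
-/

set_option autoImplicit false
set_option linter.style.haveILetI false
set_option backward.isDefEq.respectTransparency false
set_option backward.isDefEq.respectTransparency.types false

universe u

open MvPolynomial

namespace Groth.Agent.IsoTrans

variable (k : Type u) [Field k]

/-- The ring of the plane. -/
abbrev PlaneR : Type u := MvPolynomial (Fin 2) k

/-- The coordinate of a chart. -/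
noncomputable abbrev planeVar (i : ULift.{u} Bool) : PlaneR k := X (cond i.down 0 1)

theorem plane_coboundary_zero {A : ULift.{u} Bool → Type u} [∀ i, CommRing (A i)]
    [∀ i, Algebra (PlaneR k) (A i)] [∀ i, IsLocalization.Away (planeVar k i) (A i)] {L : Type u} [CommRing L]
    [Algebra (PlaneR k) L] [IsLocalization.Away (planeVar k ⟨true⟩ * planeVar k ⟨false⟩) L]
    (l : ∀ i, A i →+* L) (hl : ∀ i, (l i).comp (algebraMap (PlaneR k) (A i)) = algebraMap (PlaneR k) L)
    (δ : ∀ i, A i) (cst : k)
    (h : IsLocalization.Away.invSelf (S := L) (planeVar k ⟨true⟩ * planeVar k ⟨false⟩) *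
      algebraMap (PlaneR k) L (C cst) = l ⟨true⟩ (δ ⟨true⟩) - l ⟨false⟩ (δ ⟨false⟩)) : cst = 0 := by
  obtain ⟨n, a, ha⟩ := IsLocalization.Away.surj (planeVar k ⟨true⟩) (δ ⟨true⟩)
  obtain ⟨m, b, hb⟩ := IsLocalization.Away.surj (planeVar k ⟨false⟩) (δ ⟨false⟩)
  have ha' := congrArg (l ⟨true⟩) ha
  have hb' := congrArg (l ⟨false⟩) hb
  simp only [map_mul, map_pow, ← RingHom.comp_apply, hl] at ha' hb'
  have hinv := IsLocalization.Away.mul_invSelf (S := L) (planeVar k ⟨true⟩ * planeVar k ⟨false⟩)
  rw [map_mul] at hinv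
  have hne : planeVar k ⟨true⟩ * planeVar k ⟨false⟩ ≠ 0 := mul_ne_zero (X_ne_zero _) (X_ne_zero _)
  have hinj : Function.Injective (algebraMap (PlaneR k) L) :=
    IsLocalization.injective L (powers_le_nonZeroDivisors_of_noZeroDivisors hne)
  have key : C cst * (planeVar k ⟨true⟩ ^ n * planeVar k ⟨false⟩ ^ m) =
      a * (planeVar k ⟨true⟩ * planeVar k ⟨false⟩ ^ (m + 1)) -
        b * (planeVar k ⟨true⟩ ^ (n + 1) * planeVar k ⟨false⟩) := by
    apply hinj
    simp only [map_mul, map_pow, map_sub, ← ha', ← hb']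
    linear_combination (algebraMap (PlaneR k) L (planeVar k ⟨true⟩) ^ (n + 1) *
      algebraMap (PlaneR k) L (planeVar k ⟨false⟩) ^ (m + 1)) * h -
      (algebraMap (PlaneR k) L (C cst) * algebraMap (PlaneR k) L (planeVar k ⟨true⟩) ^ n *
        algebraMap (PlaneR k) L (planeVar k ⟨false⟩) ^ m) * hinv
  have e : ∀ p q : ℕ, planeVar k ⟨true⟩ ^ p * planeVar k ⟨false⟩ ^ q =
      monomial (Finsupp.single 0 p + Finsupp.single 1 q) (1 : k) := fun p q => by
    simp [planeVar, X_pow_eq_monomial, monomial_mul]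
  have h1 : planeVar k ⟨true⟩ * planeVar k ⟨false⟩ ^ (m + 1) =
      monomial (Finsupp.single 0 1 + Finsupp.single 1 (m + 1)) (1 : k) := by
    rw [← e, pow_one]
  have h2 : planeVar k ⟨true⟩ ^ (n + 1) * planeVar k ⟨false⟩ =
      monomial (Finsupp.single 0 (n + 1) + Finsupp.single 1 1) (1 : k) := by
    rw [← e, pow_one]
  rw [h1, h2, e, C_mul_monomial, mul_one] at key
  have hc := congrArg (coeff (Finsupp.single 0 n + Finsupp.single 1 m)) key
  rw [coeff_monomial, if_pos rfl, coeff_sub, coeff_mul_monomial', coeff_mul_monomial'] at hc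
  rw [if_neg, if_neg] at hc
  · simpa using hc
  · intro hle
    have := hle 0
    simp at this
  · intro hle
    have := hle 1
    simp at this

end Groth.Agent.IsoTrans
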