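import Groth.Agent.IsoTrans.Untwist
import Groth.Agent.IsoTrans.PlaneRing

/-!
Infinitesimal automorphisms die under an isomorphism with the classes of a rigid object: the punctured plane.
-/

set_option autoImplicit false
set_option linter.style.haveILetI false
set_option backward.isDefEq.respectTransparency false
set_option backward.isDefEq.respectTransparency.types false

universe u

open CategoryTheory CategoryTheory.Limits CategoryTheory.Functor AlgebraicGeometry Opposite AlgSp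

namespace Groth.Agent.IsoTrans

open Groth.Agent Groth.Agent.FibBasics Groth.Agent.AlgSpLib

variable {S : Scheme.{u}} (k : Type u) [Field k] (strk : Spec (CommRingCat.of k) ⟶ S)

/-- The ring of a chart of the punctured plane. -/
abbrev planeA (i : ULift.{u} Bool) : Type u := Localization.Away (planeVar k i)

/-- The ring of the overlap. -/
abbrev planeL : Type u := Localization.Away (planeVar k ⟨true⟩ * planeVar k ⟨false⟩)

theorem planeL_isUnit (i : ULift.{u} Bool) :
    IsUnit (algebraMap (PlaneR k) (planeL k) (planeVar k i)) := by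
  have h := IsLocalization.Away.algebraMap_isUnit (S := planeL k) (planeVar k ⟨true⟩ * planeVar k ⟨false⟩)
  rw [map_mul] at h
  obtain ⟨_ | _⟩ := i
  · exact isUnit_of_mul_isUnit_right h
  · exact isUnit_of_mul_isUnit_left h

/-- The restriction to the overlap. -/
noncomputable def planeRes (i : ULift.{u} Bool) : planeA k i →+* planeL k :=
  IsLocalization.Away.lift (planeVar k i) (planeL_isUnit k i)

theorem planeRes_comp (i : ULift.{u} Bool) :
    (planeRes k i).comp (algebraMap (PlaneR k) (planeA k i)) = algebraMap (PlaneR k) (planeL k) :=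
  IsLocalization.Away.lift_comp _ _

theorem dn_hom_r (A : Type u) [CommRing A] (g : k →+* A) : (dnRed A).comp ((dnInl A).comp g) = g :=
  RingHom.ext fun _ => rfl

/-- The thickened test object of an algebra. -/
noncomputable abbrev dtst {A : Type u} [CommRing A] (g : k →+* A) : Over S := tst strk ((dnInl A).comp g)

/-- The reduction. -/
noncomputable abbrev jTst {A : Type u} [CommRing A] (g : k →+* A) : tst strk g ⟶ dtst k strk g :=
  tmap strk (dnRed A) (dn_hom_r k A g)

/-- The retraction. -/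
noncomputable abbrev rTst {A : Type u} [CommRing A] (g : k →+* A) : dtst k strk g ⟶ tst strk g :=
  tmap strk (dnInl A) rfl

theorem jTst_rTst {A : Type u} [CommRing A] (g : k →+* A) : jTst k strk g ≫ rTst k strk g = 𝟙 _ := by
  rw [tmap_comp, tmap_congr strk (RingHom.ext fun _ => rfl : (dnRed A).comp (dnInl A) = RingHom.id A), tmap_id]

variable {A B : Type u} [CommRing A] [CommRing B] {gA : k →+* A} {gB : k →+* B}

/-- The thickened map of a map of algebras. -/
noncomputable abbrev dtmap (φ : A →+* B) (h : φ.comp gA = gB) : dtst k strk gB ⟶ dtst k strk gA :=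
  tmap strk (dnMap φ) (by rw [← RingHom.comp_assoc, dnMap_inl, RingHom.comp_assoc, h])

theorem jTst_dtmap (φ : A →+* B) (h : φ.comp gA = gB) :
    jTst k strk gB ≫ dtmap k strk φ h = tmap strk φ h ≫ jTst k strk gA := by
  rw [tmap_comp, tmap_comp]
  exact tmap_congr strk (dnMap_red φ) _

theorem dtmap_rTst (φ : A →+* B) (h : φ.comp gA = gB) :
    dtmap k strk φ h ≫ rTst k strk gA = rTst k strk gB ≫ tmap strk φ h := by
  rw [tmap_comp, tmap_comp]
  exact tmap_congr strk (dnMap_inl φ) _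

theorem dtmap_comp_eq {L : Type u} [CommRing L] {gL : k →+* L} (φ : A →+* B) (h : φ.comp gA = gB) (ψ : B →+* L)
    (h' : ψ.comp gB = gL) (χ : A →+* L) (h'' : χ.comp gA = gL) (e : ψ.comp φ = χ) :
    dtmap k strk ψ h' ≫ dtmap k strk φ h = dtmap k strk χ h'' := by
  subst e
  rw [tmap_comp]
  exact tmap_congr strk (dnMap_comp φ ψ).symm _

theorem dnScale_inl (gA : k →+* A) (lam : A) :
    (dnScale gA lam).comp ((dnInl k).comp (RingHom.id k)) = (dnInl A).comp gA :=
  RingHom.ext fun c => TrivSqZeroExt.ext (by simp) (by simp)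

/-- The test map scaling the infinitesimal. -/
noncomputable def scaleTst (gA : k →+* A) (lam : A) : dtst k strk gA ⟶ dtst k strk (RingHom.id k) :=
  tmap strk (dnScale gA lam) (dnScale_inl k gA lam)

theorem jTst_scaleTst (gA : k →+* A) (lam : A) :
    jTst k strk gA ≫ scaleTst k strk gA lam = tmap strk gA (RingHom.comp_id gA) ≫ jTst k strk (RingHom.id k) := by
  rw [scaleTst, tmap_comp, tmap_comp]
  exact tmap_congr strk (RingHom.ext fun c => dnScale_fst gA lam c) _

theorem scaleTst_cst (gA : k →+* A) (lam : A) {Z : Over S} (f : affObj strk ⟶ Z) :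
    scaleTst k strk gA lam ≫ cst strk ((dnInl k).comp (RingHom.id k)) ≫ f = cst strk ((dnInl A).comp gA) ≫ f :=
  tmap_cst_assoc' strk _ _ f

theorem coord_scaleTst {𝒵 : AlgSt.Cat S} {U₀ : Over S} {hp : FibCat.IsFibGrpd 𝒵.p} {y : FibCat.overCat U₀ ⥤ᵇ 𝒵} {F : Sp S}
    {π₁ π₂ : F ⟶ (yon S).obj U₀} {R : FRep hp y y F π₁ π₂} {b₀ : affObj strk ⟶ U₀} (A' : AutChart strk hp R b₀)
    (gA : k →+* A) (lam : A) {X : Pt y y (dtst k strk (RingHom.id k))} {ψ : A'.B →+* DualNumber k}
    (cX : A'.Coord X ψ) : A'.Coord (X.res hp (scaleTst k strk gA lam)) ((dnScale gA lam).comp ψ) :=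
  cX.res A' _ _

theorem dtmap_cst (φ : A →+* B) (h : φ.comp gA = gB) {Z : Over S} (f : affObj strk ⟶ Z) :
    dtmap k strk φ h ≫ cst strk ((dnInl A).comp gA) ≫ f = cst strk ((dnInl B).comp gB) ≫ f :=
  tmap_cst_assoc' strk _ _ f

/-- The constants of the plane. -/
noncomputable abbrev planeC : k →+* PlaneR k := MvPolynomial.C

/-- The constants of a chart. -/
noncomputable abbrev planeCA (i : ULift.{u} Bool) : k →+* planeA k i :=
  (algebraMap (PlaneR k) (planeA k i)).comp (planeC k)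

/-- The constants of the overlap. -/
noncomputable abbrev planeCL : k →+* planeL k := (algebraMap (PlaneR k) (planeL k)).comp (planeC k)

theorem planeRes_C (i : ULift.{u} Bool) : (planeRes k i).comp (planeCA k i) = planeCL k := by
  rw [← RingHom.comp_assoc, planeRes_comp]

/-- A chart in the thickened plane. -/
noncomputable abbrev planeM (i : ULift.{u} Bool) : dtst k strk (planeCA k i) ⟶ dtst k strk (planeC k) :=
  dtmap k strk (algebraMap (PlaneR k) (planeA k i)) rfl

/-- A chart in the plane. -/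
noncomputable abbrev planeM₀ (i : ULift.{u} Bool) : tst strk (planeCA k i) ⟶ tst strk (planeC k) :=
  tmap strk (algebraMap (PlaneR k) (planeA k i)) rfl

theorem planeM₀_open (i : ULift.{u} Bool) : IsOpenImmersion (planeM₀ k strk i).left :=
  IsOpenImmersion.of_isLocalization (planeVar k i)

theorem planeM_open (i : ULift.{u} Bool) : IsOpenImmersion (planeM k strk i).left :=
  isOpenImmersion_dnMap (planeVar k i)

/-- The punctured thickened plane. -/
noncomputable def planeOpen : (dtst k strk (planeC k)).left.Opens :=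
  ⟨⋃ i, Set.range (planeM k strk i).left, isOpen_iUnion fun i =>
    haveI := planeM_open k strk i
    (planeM k strk i).left.isOpenEmbedding.isOpen_range⟩

/-- The punctured plane. -/
noncomputable def planeOpen₀ : (tst strk (planeC k)).left.Opens :=
  (jTst k strk (planeC k)).left ⁻¹ᵁ planeOpen k strk

theorem range_planeM₀ (i : ULift.{u} Bool) :
    Set.range (planeM₀ k strk i).left ⊆ Set.range (planeOpen₀ k strk).ι := by
  rw [Scheme.Opens.range_ι]
  rintro _ ⟨z, rfl⟩
  show (jTst k strk (planeC k)).left ((planeM₀ k strk i).left z) ∈ planeOpen k strk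
  rw [← Scheme.Hom.comp_apply, ← Over.comp_left, ← jTst_dtmap, Over.comp_left, Scheme.Hom.comp_apply]
  exact Set.mem_iUnion.2 ⟨i, ⟨_, rfl⟩⟩

theorem range_planeM (i : ULift.{u} Bool) :
    Set.range (planeM k strk i).left ⊆ Set.range (planeOpen k strk).ι := by
  rw [Scheme.Opens.range_ι]
  exact fun z hz => Set.mem_iUnion.2 ⟨i, hz⟩

theorem range_ι_rTst :
    Set.range ((planeOpen k strk).ι ≫ (rTst k strk (planeC k)).left) ⊆ Set.range (planeOpen₀ k strk).ι := by
  rintro _ ⟨z, rfl⟩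
  obtain ⟨i, q, hq⟩ := Set.mem_iUnion.1 z.2
  rw [Scheme.Hom.comp_apply, show (planeOpen k strk).ι z = z.1 from rfl, ← hq, ← Scheme.Hom.comp_apply,
    ← Over.comp_left, dtmap_rTst, Over.comp_left, Scheme.Hom.comp_apply]
  exact range_planeM₀ k strk i ⟨_, rfl⟩

theorem range_ι_jTst :
    Set.range ((planeOpen₀ k strk).ι ≫ (jTst k strk (planeC k)).left) ⊆ Set.range (planeOpen k strk).ι := by
  rw [Scheme.Opens.range_ι]
  rintro _ ⟨z, rfl⟩
  exact z.2

/-- Lifting into an open subscheme over the base. -/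
theorem exists_lift_openOver {T X : Over S} (f : T ⟶ X) (O : X.left.Opens) (h : Set.range f.left ⊆ Set.range O.ι) :
    ∃ g : T ⟶ openOver X O, g ≫ openOverι X O = f :=
  ⟨Over.homMk (IsOpenImmersion.lift O.ι f.left h) (by
    show IsOpenImmersion.lift O.ι f.left h ≫ O.ι ≫ X.hom = T.hom
    rw [← Category.assoc, IsOpenImmersion.lift_fac, Over.w]),
    Over.OverMorphism.ext (IsOpenImmersion.lift_fac O.ι f.left h)⟩

theorem openOverι_cancel {T X : Over S} {O : X.left.Opens} {f g : T ⟶ openOver X O}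
    (h : f ≫ openOverι X O = g ≫ openOverι X O) : f = g :=
  Over.OverMorphism.ext ((cancel_mono O.ι).1 (congrArg CommaMorphism.left h))

theorem range_planeL :
    Set.range (dtmap k strk (algebraMap (PlaneR k) (planeL k)) (gA := planeC k) (gB := planeCL k) rfl).left =
      Set.range (planeM k strk ⟨true⟩).left ∩ Set.range (planeM k strk ⟨false⟩).left := by
  erw [range_dnMap, range_dnMap, range_dnMap]
  rw [show (TrivSqZeroExt.inl (planeVar k ⟨true⟩ * planeVar k ⟨false⟩) : DualNumber (PlaneR k)) =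
    TrivSqZeroExt.inl (planeVar k ⟨true⟩) * TrivSqZeroExt.inl (planeVar k ⟨false⟩) from map_mul (dnInl (PlaneR k)) _ _,
    PrimeSpectrum.basicOpen_mul]
  rfl

/-- The thickened covering of the punctured plane, with the embeddings into the thickened plane. -/
theorem exists_planeCover : ∃ (K : ThickCover S) (ι : K.P ⟶ dtst k strk (planeC k))
    (eQ : ∀ i, K.Q i = dtst k strk (planeCA k i)) (eQ₀ : ∀ i, K.Q₀ i = tst strk (planeCA k i))
    (eO : K.O = dtst k strk (planeCL k)) (eO₀ : K.O₀ = tst strk (planeCL k)),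
      K.r ≫ K.j ≫ ι = ι ≫ rTst k strk (planeC k) ≫ jTst k strk (planeC k) ∧
      (∀ i, K.c i ≫ ι = eqToHom (eQ i) ≫ planeM k strk i) ∧
      (∀ i, K.jQ i = eqToHom (eQ₀ i) ≫ jTst k strk (planeCA k i) ≫ eqToHom (eQ i).symm) ∧
      (∀ i, K.u i = eqToHom eO ≫ dtmap k strk (planeRes k i) (planeRes_C k i) ≫ eqToHom (eQ i).symm) ∧
      K.jO = eqToHom eO₀ ≫ jTst k strk (planeCL k) ≫ eqToHom eO.symm ∧
      ∀ {T : Over S} (w w' : T ⟶ K.O), w ≫ K.cO = w' ≫ K.cO → w = w' := by
  let X := dtst k strk (planeC k)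
  let X₀ := tst strk (planeC k)
  let O := planeOpen k strk
  let O₀ := planeOpen₀ k strk
  choose c hc using fun i => exists_lift_openOver (planeM k strk i) O (range_planeM k strk i)
  choose c₀ hc₀ using fun i => exists_lift_openOver (planeM₀ k strk i) O₀ (range_planeM₀ k strk i)
  obtain ⟨j, hj⟩ := exists_lift_openOver (openOverι X₀ O₀ ≫ jTst k strk (planeC k)) O (range_ι_jTst k strk)
  obtain ⟨r, hr⟩ := exists_lift_openOver (openOverι X O ≫ rTst k strk (planeC k)) O₀ (range_ι_rTst k strk)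
  let u := fun i => dtmap k strk (planeRes k i) (planeRes_C k i)
  let m := dtmap k strk (algebraMap (PlaneR k) (planeL k)) (gA := planeC k) (gB := planeCL k) rfl
  have hu : ∀ i, u i ≫ planeM k strk i = m := fun i =>
    dtmap_comp_eq k strk (algebraMap (PlaneR k) (planeA k i)) rfl (planeRes k i) (planeRes_C k i)
      (algebraMap (PlaneR k) (planeL k)) rfl (planeRes_comp k i)
  have hm : IsOpenImmersion m.left := isOpenImmersion_dnMap (planeVar k ⟨true⟩ * planeVar k ⟨false⟩)
  have hopen : ∀ i, IsOpenImmersion (c i).left := fun i => by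
    have : IsOpenImmersion ((c i).left ≫ O.ι) := by
      rw [show (c i).left ≫ O.ι = (planeM k strk i).left from congrArg CommaMorphism.left (hc i)]
      exact planeM_open k strk i
    exact IsOpenImmersion.of_comp (c i).left O.ι
  have hopen₀ : ∀ i, IsOpenImmersion (c₀ i).left := fun i => by
    have : IsOpenImmersion ((c₀ i).left ≫ O₀.ι) := by
      rw [show (c₀ i).left ≫ O₀.ι = (planeM₀ k strk i).left from congrArg CommaMorphism.left (hc₀ i)]
      exact planeM₀_open k strk i
    exact IsOpenImmersion.of_comp (c₀ i).left O₀.ι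
  let K : ThickCover S :=
    { P := openOver X O
      P₀ := openOver X₀ O₀
      j := j
      r := r
      Q := fun i => dtst k strk (planeCA k i)
      Q₀ := fun i => tst strk (planeCA k i)
      c := c
      c₀ := c₀
      open_c := hopen
      cover_c := fun z => by
        obtain ⟨i, q, hq⟩ := Set.mem_iUnion.1 z.2
        refine ⟨i, q, ?_⟩
        apply Subtype.ext
        exact (congrArg (fun f : _ ⟶ X.left => f q) (congrArg CommaMorphism.left (hc i))).trans hq
      open_c₀ := hopen₀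
      cover_c₀ := fun z => by
        obtain ⟨i, q, hq⟩ := Set.mem_iUnion.1 z.2
        refine ⟨i, (rTst k strk (planeCA k i)).left q, ?_⟩
        apply Subtype.ext
        refine (congrArg (fun f : _ ⟶ X₀.left => f ((rTst k strk (planeCA k i)).left q))
          (congrArg CommaMorphism.left (hc₀ i))).trans ?_
        rw [← Scheme.Hom.comp_apply, ← Over.comp_left, ← dtmap_rTst, Over.comp_left, Scheme.Hom.comp_apply, hq,
          ← Scheme.Hom.comp_apply, ← Over.comp_left, jTst_rTst]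
        rfl
      jQ := fun i => jTst k strk (planeCA k i)
      rQ := fun i => rTst k strk (planeCA k i)
      jc := fun i => openOverι_cancel (by rw [Category.assoc, hc, jTst_dtmap, Category.assoc, hj, reassoc_of% (hc₀ i)])
      rc := fun i => openOverι_cancel (by rw [Category.assoc, hc₀, ← dtmap_rTst, Category.assoc, hr, reassoc_of% (hc i)])
      jr := openOverι_cancel (by rw [Category.assoc, hr, reassoc_of% hj, jTst_rTst, Category.comp_id, Category.id_comp])
      jrQ := fun i => jTst_rTst k strk _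
      O := dtst k strk (planeCL k)
      O₀ := tst strk (planeCL k)
      jO := jTst k strk (planeCL k)
      rO := rTst k strk (planeCL k)
      u := u
      u₀ := fun i => tmap strk (planeRes k i) (planeRes_C k i)
      uc := openOverι_cancel (by rw [Category.assoc, Category.assoc, hc, hc, hu, hu])
      uj := fun i => jTst_dtmap k strk _ _
      ur := fun i => dtmap_rTst k strk _ _
      factor := fun {T} v hv => by
        have hv' : v ⟨true⟩ ≫ planeM k strk ⟨true⟩ = v ⟨false⟩ ≫ planeM k strk ⟨false⟩ := by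
          rw [← hc, ← hc, reassoc_of% hv]
        let t := v ⟨true⟩ ≫ planeM k strk ⟨true⟩
        have hsub : Set.range t.left ⊆ Set.range m.left := by
          rw [range_planeL]
          rintro _ ⟨z, rfl⟩
          exact ⟨⟨_, rfl⟩, ⟨(v ⟨false⟩).left z, by
            rw [← Scheme.Hom.comp_apply, ← Over.comp_left, ← hv']⟩⟩
        let w : T ⟶ dtst k strk (planeCL k) := Over.homMk (IsOpenImmersion.lift m.left t.left hsub) (by
          rw [← Over.w m, ← Category.assoc, IsOpenImmersion.lift_fac, Over.w])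
        have hwm : w ≫ m = t := Over.OverMorphism.ext (IsOpenImmersion.lift_fac _ _ _)
        refine ⟨w, fun i => ?_⟩
        have := planeM_open k strk i
        refine Over.OverMorphism.ext ((cancel_mono (planeM k strk i).left).1 ?_)
        rw [← Over.comp_left, ← Over.comp_left, Category.assoc, hu, hwm]
        obtain ⟨_ | _⟩ := i
        · rw [← hv']
        · rfl }
  refine ⟨K, openOverι X O, fun _ => rfl, fun _ => rfl, rfl, rfl, ?_, fun i => ?_, fun i => ?_, fun i => ?_, ?_, ?_⟩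
  · show r ≫ j ≫ openOverι X O = _
    rw [hj, reassoc_of% hr]
  · simpa using hc i
  · simp [K]
  · simp [K, u]
  · simp [K]
  · intro T w w' h
    have h' := congrArg (· ≫ openOverι X O) h
    simp only [ThickCover.cO, Category.assoc] at h'
    rw [show K.c ⟨true⟩ ≫ openOverι X O = planeM k strk ⟨true⟩ from hc _, show K.u ⟨true⟩ = u ⟨true⟩ from rfl, hu] at h'
    exact Over.OverMorphism.ext ((cancel_mono m.left).1 (congrArg CommaMorphism.left h'))

variable {𝒳 𝒴 : AlgSt.Cat S} {U : Over S}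

/-- An affine chart of the automorphisms at the identical point. -/
theorem exists_autChart [IsAlgClosed k] {hp : FibCat.IsFibGrpd 𝒴.p} {y : FibCat.overCat U ⥤ᵇ 𝒴} {F : Sp S}
    {π₁ π₂ : F ⟶ (yon S).obj U} (R : FRep hp y y F π₁ π₂) (b₀ : affObj strk ⟶ U) (hF : IsAlgSpace F) :
    Nonempty (AutChart strk hp R b₀) := by
  -- an affine chart at the identical point
  obtain ⟨W, a, ha, has⟩ := hF.atlas
  obtain ⟨σ, hσ, -⟩ := R.exists_point (Pt.refl y b₀)
  obtain ⟨q, hq⟩ := exists_lift_atlas (hasEtaleRetractions_algClosed k) ha has σ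
  obtain ⟨Ω, hΩ, hqΩ, -⟩ := exists_isAffineOpen_mem_and_subset (X := W.left) (U := ⊤)
    (x := q.left (IsLocalRing.closedPoint k)) trivial
  have : IsAffine Ω.toScheme := hΩ
  obtain ⟨g, hg⟩ := exists_lift_openOver q Ω (by
    rw [Scheme.Opens.range_ι]
    rintro _ ⟨z, rfl⟩
    obtain rfl : z = IsLocalRing.closedPoint k := Subsingleton.elim (α := PrimeSpectrum k) _ _
    exact hqΩ)
  let B : CommRingCat.{u} := Γ(Ω.toScheme, ⊤)
  let strB : Spec (CommRingCat.of B) ⟶ S := (Scheme.isoSpec Ω.toScheme).inv ≫ Ω.ι ≫ W.hom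
  let κB : affObj strB ⟶ openOver W Ω := Over.homMk (Scheme.isoSpec Ω.toScheme).inv rfl
  let κB' : openOver W Ω ⟶ affObj strB := Over.homMk (Scheme.isoSpec Ω.toScheme).hom (by
    show _ ≫ (Scheme.isoSpec Ω.toScheme).inv ≫ Ω.ι ≫ W.hom = _
    rw [Iso.hom_inv_id_assoc]; rfl)
  obtain ⟨χ, hχ⟩ := Spec.map_surjective (g ≫ κB').left
  have : IsOpenImmersion (openOverι W Ω).left := inferInstanceAs (IsOpenImmersion Ω.ι)
  have hκ : κB' ≫ κB = 𝟙 _ := Over.OverMorphism.ext (Scheme.isoSpec Ω.toScheme).hom_inv_id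
  exact ⟨
    { B := B
      strB := strB
      a := (yon S).map (κB ≫ openOverι W Ω) ≫ a
      etale := repWith_comp ((repWith_yon_map_iff @Etale _).2 (by
        show Etale ((Scheme.isoSpec Ω.toScheme).inv ≫ Ω.ι)
        infer_instance)) ha
      χ := χ.hom
      w₀ := g ≫ κB'
      w₀_left := hχ.symm
      w₀_eq := by
        rw [← Functor.map_comp_assoc, Category.assoc, reassoc_of% hκ, hg, hq, hσ] }⟩

/-- Coordinates of a scaled infinitesimal automorphism, read on a thickened covering. -/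
theorem exists_coord_cover (h𝒳 : FibCat.IsFibGrpd 𝒳.p) (h𝒴 : AlgSt.IsAlgStack Scheme.fppfPrecoverage 𝒴)
    {y : FibCat.overCat U ⥤ᵇ 𝒴} {x : FibCat.overCat U ⥤ᵇ 𝒳}
    (hc : ∀ {V : Over S} (H : FibCat.overCat V ⥤ᵇ 𝒴), ∃ D : FibCat.overCat V ⥤ᵇ 𝒳, Corr H y D x)
    (hx : AlgSt.RepByAlgSpWith (LocP @FormallyUnramified) x) {b₀ : affObj strk ⟶ U}
    {F : Sp S} {π₁ π₂ : F ⟶ (yon S).obj U} {R : FRep h𝒴.isStack.1 y y F π₁ π₂}
    (A : AutChart strk h𝒴.isStack.1 R b₀)
    {R₀ : Type u} [CommRing R₀] {gR : k →+* R₀} {A' : ULift.{u} Bool → Type u} [∀ i, CommRing (A' i)]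
    {gA : ∀ i, k →+* A' i} {L : Type u} [CommRing L] {gL : k →+* L} (res : ∀ i, A' i →+* L)
    (hres : ∀ i, (res i).comp (gA i) = gL) {alg : ∀ i, R₀ →+* A' i} (halg : ∀ i, (alg i).comp gR = gA i)
    (K : ThickCover S) (ι : K.P ⟶ dtst k strk gR)
    (eQ : ∀ i, K.Q i = dtst k strk (gA i)) (eQ₀ : ∀ i, K.Q₀ i = tst strk (gA i))
    (eO : K.O = dtst k strk gL) (eO₀ : K.O₀ = tst strk gL)
    (hrj : K.r ≫ K.j ≫ ι = ι ≫ rTst k strk gR ≫ jTst k strk gR)
    (hcι : ∀ i, K.c i ≫ ι = eqToHom (eQ i) ≫ dtmap k strk (alg i) (halg i))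
    (hjQ : ∀ i, K.jQ i = eqToHom (eQ₀ i) ≫ jTst k strk (gA i) ≫ eqToHom (eQ i).symm)
    (hu : ∀ i, K.u i = eqToHom eO ≫ dtmap k strk (res i) (hres i) ≫ eqToHom (eQ i).symm)
    (hjO : K.jO = eqToHom eO₀ ≫ jTst k strk gL ≫ eqToHom eO.symm)
    (hOm : ∀ {T : Over S} (w w' : T ⟶ K.O), w ≫ K.cO = w' ≫ K.cO → w = w') (lam : L)
    {h : Pt y y (dtst k strk (RingHom.id k))} (h₁ : h.fst = cst strk _ ≫ b₀) (h₂ : h.snd = cst strk _ ≫ b₀)
    (h₀ : h.res h𝒴.isStack.1 (jTst k strk (RingHom.id k)) = Pt.refl y (cst strk (RingHom.id k) ≫ b₀))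
    {ψ : A.B →+* DualNumber k} (cψ : A.Coord h ψ) (eψ : (dnRed k).comp ψ = (RingHom.id k).comp A.χ) (b : A.B) :
    ∃ δ : ∀ i, A' i, lam * gL (ψ b).snd = res ⟨true⟩ (δ ⟨true⟩) - res ⟨false⟩ (δ ⟨false⟩) := by
  have hp := h𝒴.isStack.1
  let κ := h.res hp (scaleTst k strk gL lam)
  let bP : K.P ⟶ U := ι ≫ cst strk ((dnInl R₀).comp gR) ≫ b₀
  have hbP : K.r ≫ K.j ≫ bP = bP := by
    simp only [bP]
    rw [reassoc_of% hrj, tmap_cst_assoc', tmap_cst_assoc']
  have hcb : ∀ i, K.c i ≫ bP = eqToHom (eQ i) ≫ cst strk ((dnInl (A' i)).comp (gA i)) ≫ b₀ := fun i => by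
    show K.c i ≫ ι ≫ _ = _
    rw [← Category.assoc, hcι i, Category.assoc]
    exact congrArg (eqToHom (eQ i) ≫ ·) (dtmap_cst k strk _ _ b₀)
  have hOb : eqToHom eO.symm ≫ K.cO ≫ bP = cst strk ((dnInl L).comp gL) ≫ b₀ := by
    simp only [ThickCover.cO, Category.assoc, hcb, hu, eqToHom_trans_assoc, eqToHom_refl, Category.id_comp,
      dtmap_cst]
  have hOb' : K.cO ≫ bP = eqToHom eO ≫ cst strk ((dnInl L).comp gL) ≫ b₀ := by
    rw [← hOb, eqToHom_trans_assoc, eqToHom_refl, Category.id_comp]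
  have hκ₀ : (κ.res hp (eqToHom eO)).res hp K.jO = Pt.refl y (K.jO ≫ K.cO ≫ bP) := by
    simp only [κ, Pt.res_res, hjO, hOb', Category.assoc, eqToHom_trans_assoc, eqToHom_refl, Category.id_comp,
      tmap_cst_assoc', jTst_scaleTst]
    rw [← Pt.res_res, ← Pt.res_res, h₀, Pt.res_refl, Pt.res_refl, tmap_cst_assoc']
  obtain ⟨φ, hφ₁, hφ₂, hφ₀, hh, hκφ⟩ := exists_coboundary K h𝒳 h𝒴 (fun H => hc H)
    (fun V v => let ⟨G, e, he, _⟩ := hx V v; ⟨G, e, he⟩)
    (fun D P P' hPf hP0 => by
      obtain ⟨G, eG, heG, hρ⟩ := hx K.P D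
      obtain ⟨RG⟩ := exists_frep h𝒳 heG
      have inv : ∀ Z : Pt D x K.O, Z = (Z.res h𝒳 (eqToHom eO.symm)).res h𝒳 (eqToHom eO) := fun Z => by
        rw [Pt.res_res, eqToHom_trans, eqToHom_refl, Pt.res_id]
      rw [inv P, inv P']
      congr 1
      refine pt_eq_of_unramified G.property RG hρ (dnRed_surjective L) (tsze_ker_sq _ _)
        (jTst k strk gL) rfl ?_ (by rw [Pt.res_fst, Pt.res_fst, hPf])
      have h0 := congrArg (fun Z => Z.res h𝒳 (eqToHom eO₀.symm)) hP0
      simp only [Pt.res_res, hjO, eqToHom_trans_assoc, eqToHom_refl, Category.id_comp] at h0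
      rw [Pt.res_res, Pt.res_res, h0])
    bP hbP hOm (κ.res hp (eqToHom eO))
    (by rw [Pt.res_fst, hOb', Pt.res_fst, h₁, scaleTst_cst]) (by rw [Pt.res_snd, hOb', Pt.res_snd, h₂, scaleTst_cst])
    hκ₀
  let P' : ∀ i, Pt y y (dtst k strk (gA i)) := fun i => (φ i).res hp (eqToHom (eQ i).symm)
  have hP₁ : ∀ i, (P' i).fst = cst strk _ ≫ b₀ := fun i => by
    rw [Pt.res_fst, hφ₁, hcb, eqToHom_trans_assoc, eqToHom_refl, Category.id_comp]
  have hP₂ : ∀ i, (P' i).snd = cst strk _ ≫ b₀ := fun i => by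
    rw [Pt.res_snd, hφ₂, hcb, eqToHom_trans_assoc, eqToHom_refl, Category.id_comp]
  have hP₀ : ∀ i hg, (P' i).res hp (tmap strk (dnRed (A' i)) (g' := gA i) hg) =
      Pt.refl y (cst strk (gA i) ≫ b₀) := fun i hg => by
    have h0 := congrArg (fun Z => Z.res hp (eqToHom (eQ₀ i).symm)) (hφ₀ i)
    simp only [Pt.res_res, hjQ, hcb, Pt.res_refl, Category.assoc, eqToHom_trans_assoc, eqToHom_refl,
      Category.id_comp, tmap_cst_assoc'] at h0
    simpa only [P', Pt.res_res] using h0
  choose ζ cζ eζ using fun i => A.exists_coord (P' i) (dnRed_surjective (A' i)) (tsze_ker_sq _ _)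
    (dn_hom_r k _ (gA i)) (hP₀ i _)
  have cres : ∀ i, A.Coord ((P' i).res hp (dtmap k strk (res i) (hres i)))
      ((dnMap (res i)).comp (ζ i)) := fun i => (cζ i).res A _ _
  have eres : ∀ i, (dnRed L).comp ((dnMap (res i)).comp (ζ i)) = gL.comp A.χ := fun i => by
    rw [← RingHom.comp_assoc, dnMap_red, RingHom.comp_assoc, eζ, ← RingHom.comp_assoc, hres]
  have hκ' : κ = ((P' ⟨true⟩).res hp (dtmap k strk (res ⟨true⟩) (hres _))).trans
      ((P' ⟨false⟩).res hp (dtmap k strk (res ⟨false⟩) (hres _))).symm (by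
        rw [Pt.res_snd, hP₂, Pt.symm_fst, Pt.res_snd, hP₂, dtmap_cst, dtmap_cst]) := by
    have h0 := congrArg (fun Z => Z.res hp (eqToHom eO.symm)) hκφ
    simp only [Pt.res_res, Pt.res_trans, Pt.res_symm, hu, eqToHom_trans_assoc, eqToHom_trans, eqToHom_refl,
      Category.id_comp, Pt.res_id] at h0
    simpa only [P', Pt.res_res] using h0
  let Xt := (P' ⟨true⟩).res hp (dtmap k strk (res ⟨true⟩) (hres _))
  let Yf := (P' ⟨false⟩).res hp (dtmap k strk (res ⟨false⟩) (hres _))
  have hredX : ∀ (i : ULift.{u} Bool) hg, ((P' i).res hp (dtmap k strk (res i) (hres i))).res hp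
      (tmap strk (dnRed L) (g' := gL) hg) = Pt.refl y (cst strk gL ≫ b₀) := fun i hg => by
    rw [Pt.res_res, jTst_dtmap k strk (res i) (hres i), ← Pt.res_res, hP₀, Pt.res_refl, tmap_cst_assoc']
  have hκf : κ.fst = cst strk _ ≫ b₀ := by rw [Pt.res_fst, h₁, scaleTst_cst]
  have hYf : Yf.fst = cst strk _ ≫ b₀ := by rw [Pt.res_fst, hP₁, dtmap_cst]
  have hκs : κ.snd = cst strk _ ≫ b₀ := by rw [Pt.res_snd, h₂, scaleTst_cst]
  have hκ0 : ∀ hg, κ.res hp (tmap strk (dnRed L) (g' := gL) hg) =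
      Pt.refl y (cst strk gL ≫ b₀) := fun hg => by
    rw [hκ', Pt.res_trans, Pt.trans_congr (hredX _ hg)
      ((Pt.res_symm hp _ _).trans ((congrArg Pt.symm (hredX _ hg)).trans (Pt.refl_symm _)))]
    exact Pt.trans_refl _ _
  have cκ : A.Coord κ ((dnScale gL lam).comp ψ) := coord_scaleTst k strk A gL lam cψ
  have eκ : (dnRed L).comp ((dnScale gL lam).comp ψ) = gL.comp A.χ := by
    rw [← RingHom.comp_assoc, show (dnRed L).comp (dnScale gL lam) = gL.comp (dnRed k) from
      RingHom.ext fun c => dnScale_fst _ _ c, RingHom.comp_assoc, eψ]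
    rfl
  have hsum : Xt = κ.trans Yf (hκs.trans hYf.symm) := by
    rw [Pt.trans_congr hκ' rfl]
    exact (Pt.trans_symm_cancel Xt Yf _ _).symm
  have key := A.snd_coord_trans gL hκs hYf hκ0 (hredX _) cκ eκ (cres ⟨false⟩) (eres _) (hsum ▸ (show A.Coord Xt _ from cres ⟨true⟩))
    (eres _) b
  simp only [RingHom.comp_apply, dnMap_snd, dnScale_snd] at key
  exact ⟨fun i => (ζ i b).snd, eq_sub_of_add_eq key.symm⟩

/-- Infinitesimal automorphisms are trivial when the classes are those of a rigid object. -/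
theorem pt_eq_refl_of_twins [IsAlgClosed k] (h𝒳 : FibCat.IsFibGrpd 𝒳.p)
    (h𝒴 : AlgSt.IsAlgStack Scheme.fppfPrecoverage 𝒴)
    {y : FibCat.overCat U ⥤ᵇ 𝒴} {x : FibCat.overCat U ⥤ᵇ 𝒳}
    (hc : ∀ {V : Over S} (H : FibCat.overCat V ⥤ᵇ 𝒴), ∃ D : FibCat.overCat V ⥤ᵇ 𝒳, Corr H y D x)
    (hx : AlgSt.RepByAlgSpWith (LocP @FormallyUnramified) x) (b₀ : affObj strk ⟶ U)
    (h : Pt y y (dtst k strk (RingHom.id k))) (h₁ : h.fst = cst strk _ ≫ b₀) (h₂ : h.snd = cst strk _ ≫ b₀)
    (h₀ : h.res h𝒴.isStack.1 (jTst k strk (RingHom.id k)) = Pt.refl y (cst strk (RingHom.id k) ≫ b₀)) :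
    h = Pt.refl y (cst strk _ ≫ b₀) := by
  have hp := h𝒴.isStack.1
  obtain ⟨F, eF, heF⟩ := AlgStLib.rep_slices_of_diag hp h𝒴.diag U y U y
  obtain ⟨R⟩ := exists_frep hp heF
  obtain ⟨A⟩ := exists_autChart k strk R b₀ F.property
  -- coordinates of `h`
  obtain ⟨ψ, cψ, eψ⟩ := A.exists_coord h (dnRed_surjective k) (tsze_ker_sq k k) (dn_hom_r k k _) h₀
  suffices hd : ∀ b, (ψ b).snd = 0 by
    have e : ψ = ((dnInl k).comp (RingHom.id k)).comp A.χ :=
      RingHom.ext fun b => TrivSqZeroExt.ext (RingHom.congr_fun eψ b) (hd b)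
    exact cψ.inj A (e ▸ A.coord_refl)
  -- the twisted family over the punctured plane
  obtain ⟨K, ι, eQ, eQ₀, eO, eO₀, hrj, hcι, hjQ, hu, hjO, hOm⟩ := exists_planeCover k strk
  intro b
  obtain ⟨δ, hδ⟩ := exists_coord_cover k strk h𝒳 h𝒴 hc hx A (planeRes k) (planeRes_C k) (fun _ => rfl) K ι eQ eQ₀
    eO eO₀ hrj hcι hjQ hu hjO hOm (IsLocalization.Away.invSelf (planeVar k ⟨true⟩ * planeVar k ⟨false⟩)) h₁ h₂ h₀
    cψ eψ b
  exact plane_coboundary_zero k (planeRes k) (planeRes_comp k) δ _ hδ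

end Groth.Agent.IsoTrans
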