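import Groth.Agent.IsoTrans.Skel

/-!
Points of fibre products of slices: pairs of maps with an isomorphism in the fibre.
-/

set_option autoImplicit false
set_option backward.isDefEq.respectTransparency false
set_option backward.isDefEq.respectTransparency.types false

universe u

open CategoryTheory CategoryTheory.Limits CategoryTheory.Functor AlgebraicGeometry Opposite AlgSp

namespace Groth.Agent.IsoTrans

open Groth.Agent Groth.Agent.FibBasics Groth.Agent.AlgSpLib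

variable {S : Scheme.{u}} {𝒴 : AlgSt.Cat S} {U V W : Over S}

/-- The object of a slice functor at a test morphism. -/
abbrev at' (v : FibCat.overCat V ⥤ᵇ 𝒴) {T : Over S} (a : T ⟶ V) : 𝒴.p.Fiber T :=
  ⟨v.obj (Over.mk a), v.w_obj _⟩

/-- Restriction of test morphisms. -/
abbrev rm (v : FibCat.overCat V ⥤ᵇ 𝒴) {T' T : Over S} (g : T' ⟶ T) {a : T ⟶ V} {a' : T' ⟶ V}
    (h : g ≫ a = a') : (at' v a').1 ⟶ (at' v a).1 :=
  v.map (Over.homMk g h : (Over.mk a' : (FibCat.overCat V).obj) ⟶ Over.mk a)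

theorem rm_lift (v : FibCat.overCat V ⥤ᵇ 𝒴) {T' T : Over S} (g : T' ⟶ T) {a : T ⟶ V} {a' : T' ⟶ V}
    (h : g ≫ a = a') : 𝒴.p.IsHomLift g (rm v g h) :=
  AlgStLib.slice_map_lift v g a a' h

theorem rm_id (v : FibCat.overCat V ⥤ᵇ 𝒴) {T : Over S} {a : T ⟶ V} (h : 𝟙 T ≫ a = a) :
    rm v (𝟙 T) h = 𝟙 (at' v a).1 :=
  (congrArg v.toFunctor.map (Over.OverMorphism.ext rfl : _ = 𝟙 _)).trans (v.toFunctor.map_id _)

/-- An isomorphism in a fibre from a morphism over the identity. -/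
noncomputable def fibIso (h : FibCat.IsFibGrpd 𝒴.p) {T : Over S} {a b : 𝒴.p.Fiber T} (m : a.1 ⟶ b.1)
    (hm : 𝒴.p.IsHomLift (𝟙 T) m) : a ≅ b where
  hom := ⟨m, hm⟩
  inv := ⟨(inv_lift h m hm).choose, (inv_lift h m hm).choose_spec.1⟩
  hom_inv_id := Fiber.hom_ext (inv_lift h m hm).choose_spec.2.1
  inv_hom_id := Fiber.hom_ext (inv_lift h m hm).choose_spec.2.2

/-- A point of the fibre product of two slices. -/
structure Pt (v : FibCat.overCat V ⥤ᵇ 𝒴) (y : FibCat.overCat U ⥤ᵇ 𝒴) (T : Over S) : Type (u + 1) where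
  fst : T ⟶ V
  snd : T ⟶ U
  iso : at' v fst ≅ at' y snd

variable {v : FibCat.overCat V ⥤ᵇ 𝒴} {y : FibCat.overCat U ⥤ᵇ 𝒴} {z : FibCat.overCat W ⥤ᵇ 𝒴}

/-- The object of a point. -/
def ptObj {T : Over S} (p : Pt v y T) : (FibCat.fp v y).obj :=
  ⟨{ fst := Over.mk p.fst
     snd := Over.mk p.snd
     iso := Fiber.fiberInclusion.mapIso p.iso }, p.iso.hom.2⟩

theorem ptExt {T : Over S} {p q : Pt v y T} (h₁ : p.fst = q.fst) (h₂ : p.snd = q.snd)
    (h : p.iso.hom.1 ≫ rm y (𝟙 T) ((Category.id_comp _).trans h₂.symm) =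
      rm v (𝟙 T) ((Category.id_comp _).trans h₁.symm) ≫ q.iso.hom.1) : p = q := by
  obtain ⟨a, b, α⟩ := p
  obtain ⟨a', b', α'⟩ := q
  dsimp only at h₁ h₂
  subst h₁ h₂
  rw [rm_id, rm_id, Category.comp_id, Category.id_comp] at h
  exact congrArg (Pt.mk a b) (Iso.ext (Fiber.hom_ext h))

variable (v y) in
/-- Compatibility of points along a morphism. -/
def PtSq {T' T : Over S} (g : T' ⟶ T) (p' : Pt v y T') (p : Pt v y T) : Prop :=
  ∃ (h₁ : g ≫ p.fst = p'.fst) (h₂ : g ≫ p.snd = p'.snd),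
    p'.iso.hom.1 ≫ rm y g h₂ = rm v g h₁ ≫ p.iso.hom.1

/-- The skeleton of the fibre product of two slices. -/
noncomputable def ptSkel (h : FibCat.IsFibGrpd 𝒴.p) (v : FibCat.overCat V ⥤ᵇ 𝒴)
    (y : FibCat.overCat U ⥤ᵇ 𝒴) : Skel (FibCat.fp v y) (Pt v y) where
  obj := ptObj
  w _ := rfl
  inj {T} p p' m hm := by
    have h₁ : (FibCat.overCat V).p.IsHomLift (𝟙 T) m.hom.fst := fp_lift_fst _ m
    have h₂ : (FibCat.overCat U).p.IsHomLift (𝟙 T) m.hom.snd := fp_lift_snd _ m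
    have e₁ : m.hom.fst.left = 𝟙 T := by
      have := IsHomLift.fac' (FibCat.overCat V).p (𝟙 T) m.hom.fst
      simp [ptObj] at this; exact this
    have e₂ : m.hom.snd.left = 𝟙 T := by
      have := IsHomLift.fac' (FibCat.overCat U).p (𝟙 T) m.hom.snd
      simp [ptObj] at this; exact this
    have w₁ : m.hom.fst.left ≫ p'.fst = p.fst := Over.w m.hom.fst
    have w₂ : m.hom.snd.left ≫ p'.snd = p.snd := Over.w m.hom.snd
    replace w₁ : p'.fst = p.fst := (Category.id_comp _).symm.trans ((congrArg (· ≫ p'.fst) e₁.symm).trans w₁)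
    replace w₂ : p'.snd = p.snd := (Category.id_comp _).symm.trans ((congrArg (· ≫ p'.snd) e₂.symm).trans w₂)
    refine ptExt w₁.symm w₂.symm ?_
    have hw : v.map m.hom.fst ≫ p'.iso.hom.1 = p.iso.hom.1 ≫ y.map m.hom.snd := m.hom.w
    have q₁ : m.hom.fst = Over.homMk (𝟙 T) ((Category.id_comp _).trans w₁) := Over.OverMorphism.ext e₁
    have q₂ : m.hom.snd = Over.homMk (𝟙 T) ((Category.id_comp _).trans w₂) := Over.OverMorphism.ext e₂
    rw [q₁, q₂] at hw
    exact hw.symm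
  surj x := by
    let T := x.obj.fst.left
    have hT : x.obj.snd.left = T := fp_snd_proj x
    let sO : (Over.mk (eqToHom hT.symm ≫ x.obj.snd.hom) : (FibCat.overCat U).obj) ⟶ x.obj.snd :=
      Over.homMk (eqToHom hT.symm) rfl
    let sI : x.obj.snd ⟶ (Over.mk (eqToHom hT.symm ≫ x.obj.snd.hom) : (FibCat.overCat U).obj) :=
      Over.homMk (eqToHom hT) (by simp)
    let fI : x.obj.fst ⟶ (Over.mk x.obj.fst.hom : (FibCat.overCat V).obj) := Over.homMk (𝟙 T) (Category.id_comp _)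
    let fO : (Over.mk x.obj.fst.hom : (FibCat.overCat V).obj) ⟶ x.obj.fst := Over.homMk (𝟙 T) (Category.id_comp _)
    have hf : fI ≫ fO = 𝟙 _ := Over.OverMorphism.ext (Category.comp_id _)
    have hs : sI ≫ sO = 𝟙 _ := Over.OverMorphism.ext (show eqToHom hT ≫ eqToHom hT.symm = 𝟙 _ by simp)
    have l₁ : 𝒴.p.IsHomLift (𝟙 T) (v.map fO) := AlgStLib.slice_map_lift v _ _ _ _
    have l₂ : 𝒴.p.IsHomLift (𝟙 T) x.obj.iso.hom := x.property
    have l₃ : 𝒴.p.IsHomLift (𝟙 T) (y.map sI) := by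
      have l : (FibCat.overCat U).p.IsHomLift (𝟙 T) sI := IsHomLift.of_fac' _ _ _ hT rfl (by simp [sI]; rfl)
      exact (BasedFunctor.isHomLift_iff y _ _).2 l
    have l : 𝒴.p.IsHomLift (𝟙 T) ((v.map fO ≫ x.obj.iso.hom) ≫ y.map sI) := AlgStLib.lift₃ l₁ (by infer_instance) l₃
    let p : Pt v y T :=
      { fst := x.obj.fst.hom
        snd := eqToHom hT.symm ≫ x.obj.snd.hom
        iso := fibIso h _ (show 𝒴.p.IsHomLift (𝟙 T) ((v.map fO ≫ x.obj.iso.hom) ≫ y.map sI) from l) }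
    refine ⟨p, fpHom fO sO ?_, fp_lift_of_fst _ _ (IsHomLift.of_fac' _ _ _ rfl rfl (by simp [fO, fpHom]; rfl))⟩
    show v.map fO ≫ x.obj.iso.hom = ((v.map fO ≫ x.obj.iso.hom) ≫ y.map sI) ≫ y.map sO
    rw [Category.assoc, ← y.toFunctor.map_comp, hs, y.toFunctor.map_id, Category.comp_id]

theorem ptSq_iff (h : FibCat.IsFibGrpd 𝒴.p) {T' T : Over S} (g : T' ⟶ T) (p' : Pt v y T') (p : Pt v y T) :
    PtSq v y g p' p ↔ (ptSkel h v y).Res g p' p := by
  constructor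
  · rintro ⟨h₁, h₂, e⟩
    exact ⟨fpHom (Over.homMk g h₁) (Over.homMk g h₂) e.symm,
      fp_lift_of_fst _ _ (AlgStLib.slice_map_lift (BasedFunctor.id _) g _ _ h₁)⟩
  · rintro ⟨m, hm⟩
    have h₁ : (FibCat.overCat V).p.IsHomLift g m.hom.fst := fp_lift_fst _ m
    have h₂ : (FibCat.overCat U).p.IsHomLift g m.hom.snd := fp_lift_snd _ m
    have e₁ : m.hom.fst.left = g := by
      have := IsHomLift.fac' (FibCat.overCat V).p g m.hom.fst
      simp [ptObj, ptSkel] at this; exact this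
    have e₂ : m.hom.snd.left = g := by
      have := IsHomLift.fac' (FibCat.overCat U).p g m.hom.snd
      simp [ptObj, ptSkel] at this; exact this
    have w₁ : g ≫ p.fst = p'.fst := e₁ ▸ Over.w m.hom.fst
    have w₂ : g ≫ p.snd = p'.snd := e₂ ▸ Over.w m.hom.snd
    refine ⟨w₁, w₂, ?_⟩
    have hw : v.map m.hom.fst ≫ p.iso.hom.1 = p'.iso.hom.1 ≫ y.map m.hom.snd := m.hom.w
    have q₁ : m.hom.fst = Over.homMk g w₁ := Over.OverMorphism.ext e₁
    have q₂ : m.hom.snd = Over.homMk g w₂ := Over.OverMorphism.ext e₂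
    rw [q₁, q₂] at hw
    exact hw.symm

end Groth.Agent.IsoTrans
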