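import Groth.Agent.IsoTrans.Pt
import Groth.Agent.AlgStLib.RepCalc

/-!
Restriction, composition and inversion of points; points of representing spaces.
-/

set_option autoImplicit false
set_option backward.isDefEq.respectTransparency false
set_option backward.isDefEq.respectTransparency.types false

universe u

open CategoryTheory CategoryTheory.Limits CategoryTheory.Functor AlgebraicGeometry Opposite AlgSp

namespace Groth.Agent.IsoTrans

open Groth.Agent Groth.Agent.FibBasics Groth.Agent.AlgSpLib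

variable {S : Scheme.{u}} {𝒴 : AlgSt.Cat S} {U V W : Over S}
variable {v : FibCat.overCat V ⥤ᵇ 𝒴} {y : FibCat.overCat U ⥤ᵇ 𝒴} {z : FibCat.overCat W ⥤ᵇ 𝒴}
variable (h : FibCat.IsFibGrpd 𝒴.p)

include h in
theorem fp_grpd : FibCat.IsFibGrpd (FibCat.fp v y).p :=
  fp_isFibGrpd (isFibGrpd_overForget V) (isFibGrpd_overForget U) h

include h in
theorem exists_ptSq {T' T : Over S} (g : T' ⟶ T) (p : Pt v y T) : ∃ p', PtSq v y g p' p :=
  ((ptSkel h v y).exists_res (fp_grpd h) g p).imp fun p' hp' => (ptSq_iff h g p' p).2 hp'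

/-- Restriction of a point. -/
noncomputable def Pt.res {T' T : Over S} (g : T' ⟶ T) (p : Pt v y T) : Pt v y T' :=
  (exists_ptSq h g p).choose

theorem Pt.res_sq {T' T : Over S} (g : T' ⟶ T) (p : Pt v y T) : PtSq v y g (p.res h g) p :=
  (exists_ptSq h g p).choose_spec

theorem Pt.res_eq {T' T : Over S} {g : T' ⟶ T} {p : Pt v y T} {p' : Pt v y T'} (hp : PtSq v y g p' p) :
    p.res h g = p' :=
  (ptSkel h v y).res_unique (fp_grpd h) ((ptSq_iff h _ _ _).1 (p.res_sq h g)) ((ptSq_iff h _ _ _).1 hp)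

@[simp] theorem Pt.res_fst {T' T : Over S} (g : T' ⟶ T) (p : Pt v y T) : (p.res h g).fst = g ≫ p.fst :=
  (p.res_sq h g).1.symm

@[simp] theorem Pt.res_snd {T' T : Over S} (g : T' ⟶ T) (p : Pt v y T) : (p.res h g).snd = g ≫ p.snd :=
  (p.res_sq h g).2.1.symm

theorem rm_comp (v : FibCat.overCat V ⥤ᵇ 𝒴) {T'' T' T : Over S} (f : T'' ⟶ T') (g : T' ⟶ T) {a : T ⟶ V}
    {a' : T' ⟶ V} {a'' : T'' ⟶ V} (h₁ : f ≫ a' = a'') (h₂ : g ≫ a = a') :
    rm v f h₁ ≫ rm v g h₂ = rm v (f ≫ g) ((Category.assoc _ _ _).trans ((congrArg (f ≫ ·) h₂).trans h₁)) :=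
  (v.toFunctor.map_comp _ _).symm.trans (congrArg v.toFunctor.map (Over.OverMorphism.ext rfl))

theorem Pt.res_res {T'' T' T : Over S} (f : T'' ⟶ T') (g : T' ⟶ T) (p : Pt v y T) :
    (p.res h g).res h f = p.res h (f ≫ g) := by
  obtain ⟨a₁, a₂, e⟩ := p.res_sq h g
  obtain ⟨b₁, b₂, e'⟩ := (p.res h g).res_sq h f
  refine (p.res_eq h ⟨?_, ?_, ?_⟩).symm
  · rw [Category.assoc, a₁, b₁]
  · rw [Category.assoc, a₂, b₂]
  · rw [← rm_comp y f g b₂ a₂, ← rm_comp v f g b₁ a₁, Category.assoc, ← e, ← Category.assoc, e', Category.assoc]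

theorem Pt.res_id {T : Over S} (p : Pt v y T) : p.res h (𝟙 T) = p :=
  p.res_eq h ⟨Category.id_comp _, Category.id_comp _, by rw [rm_id, rm_id]; simp⟩

/-- The inverse point. -/
def Pt.symm {T : Over S} (p : Pt v y T) : Pt y v T := ⟨p.snd, p.fst, p.iso.symm⟩

theorem Pt.res_symm {T' T : Over S} (g : T' ⟶ T) (p : Pt v y T) : p.symm.res h g = (p.res h g).symm := by
  obtain ⟨a₁, a₂, e⟩ := p.res_sq h g
  refine p.symm.res_eq h ⟨a₂, a₁, ?_⟩
  show (p.res h g).iso.inv.1 ≫ rm v g a₁ = rm y g a₂ ≫ p.iso.inv.1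
  have i₁ : (p.res h g).iso.inv.1 ≫ (p.res h g).iso.hom.1 = 𝟙 _ :=
    congrArg Subtype.val (p.res h g).iso.inv_hom_id
  have i₂ : p.iso.hom.1 ≫ p.iso.inv.1 = 𝟙 _ := congrArg Subtype.val p.iso.hom_inv_id
  calc (p.res h g).iso.inv.1 ≫ rm v g a₁
      = (p.res h g).iso.inv.1 ≫ (rm v g a₁ ≫ p.iso.hom.1) ≫ p.iso.inv.1 := by
        rw [Category.assoc]
        exact congrArg ((p.res h g).iso.inv.1 ≫ ·) (((congrArg (rm v g a₁ ≫ ·) i₂)).trans (Category.comp_id _)).symm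
    _ = (p.res h g).iso.inv.1 ≫ ((p.res h g).iso.hom.1 ≫ rm y g a₂) ≫ p.iso.inv.1 := by rw [e]
    _ = rm y g a₂ ≫ p.iso.inv.1 := by
        simp only [← Category.assoc]
        rw [show ((p.res h g).iso.inv.1 ≫ (p.res h g).iso.hom.1) ≫ rm y g a₂ = rm y g a₂ from
          (congrArg (· ≫ rm y g a₂) i₁).trans (Category.id_comp _)]

/-- The composite of two points. -/
def Pt.trans {T : Over S} (p : Pt v y T) (q : Pt y z T) (hpq : p.snd = q.fst) : Pt v z T :=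
  ⟨p.fst, q.snd, p.iso ≪≫ eqToIso (congrArg (at' y) hpq) ≪≫ q.iso⟩

@[simp] theorem Pt.trans_fst {T : Over S} (p : Pt v y T) (q : Pt y z T) (hpq : p.snd = q.fst) :
    (p.trans q hpq).fst = p.fst := rfl

@[simp] theorem Pt.trans_snd {T : Over S} (p : Pt v y T) (q : Pt y z T) (hpq : p.snd = q.fst) :
    (p.trans q hpq).snd = q.snd := rfl

theorem Pt.sq_trans {T' T : Over S} {g : T' ⟶ T} {p : Pt v y T} {p' : Pt v y T'} {q : Pt y z T}
    {q' : Pt y z T'} (hp : PtSq v y g p' p) (hq : PtSq y z g q' q) (h₁ : p.snd = q.fst) (h₂ : p'.snd = q'.fst) :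
    PtSq v z g (p'.trans q' h₂) (p.trans q h₁) := by
  obtain ⟨a, b, α⟩ := p
  obtain ⟨b₂, c, β⟩ := q
  obtain ⟨a', b', α'⟩ := p'
  obtain ⟨b₂', c', β'⟩ := q'
  dsimp only at h₁ h₂
  subst h₁ h₂
  obtain ⟨ha, hb, e₁⟩ := hp
  obtain ⟨hb', hc, e₂⟩ := hq
  dsimp only at ha hb hb' hc e₁ e₂
  refine ⟨ha, hc, ?_⟩
  have hc₁ : ∀ {T : Over S} {A B C : 𝒴.p.Fiber T} (f : A ⟶ B) (k : B ⟶ C), (f ≫ k).1 = f.1 ≫ k.1 :=
    fun _ _ => rfl
  show ((α' ≪≫ Iso.refl _ ≪≫ β').hom).1 ≫ rm z g hc = rm v g ha ≫ ((α ≪≫ Iso.refl _ ≪≫ β).hom).1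
  rw [Iso.trans_hom, Iso.trans_hom, Iso.trans_hom, Iso.trans_hom, Iso.refl_hom, Category.id_comp, Iso.refl_hom,
    Category.id_comp, hc₁, hc₁, Category.assoc, e₂, ← Category.assoc, e₁, Category.assoc]

theorem Pt.res_trans {T' T : Over S} (g : T' ⟶ T) (p : Pt v y T) (q : Pt y z T) (hpq : p.snd = q.fst) :
    (p.trans q hpq).res h g = (p.res h g).trans (q.res h g) (by simp [hpq]) :=
  (p.trans q hpq).res_eq h (Pt.sq_trans (p.res_sq h g) (q.res_sq h g) hpq _)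

/-- The identical point. -/
def Pt.refl (v : FibCat.overCat V ⥤ᵇ 𝒴) {T : Over S} (a : T ⟶ V) : Pt v v T := ⟨a, a, Iso.refl _⟩

theorem Pt.res_refl {T' T : Over S} (g : T' ⟶ T) (a : T ⟶ V) :
    (Pt.refl v a).res h g = Pt.refl v (g ≫ a) :=
  (Pt.refl v a).res_eq h ⟨rfl, rfl, (Category.id_comp _).trans (Category.comp_id _).symm⟩

/-- A representing space of the fibre product of two slices, with its projections. -/
structure FRep (v : FibCat.overCat V ⥤ᵇ 𝒴) (y : FibCat.overCat U ⥤ᵇ 𝒴) (F : Sp S)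
    (π₁ : F ⟶ (yon S).obj V) (π₂ : F ⟶ (yon S).obj U) where
  rep : PtRep F (Pt v y) (fun g p => p.res h g)
  fst_eq : ∀ {T : Over S} (σ : (yon S).obj T ⟶ F), (yon S).map (rep.pm σ).fst = σ ≫ π₁
  snd_eq : ∀ {T : Over S} (σ : (yon S).obj T ⟶ F), (yon S).map (rep.pm σ).snd = σ ≫ π₂

include h in
theorem exists_frep {F : Sp S} {e : AlgSt.ofSp F ⥤ᵇ FibCat.fp v y} (he : FibCat.IsEquivOver e) :
    Nonempty (FRep h v y F (AlgSt.spMapOfOver (BasedFunctor.comp e (FibCat.fpFst v y)))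
      (AlgSt.spMapOfOver (BasedFunctor.comp e (FibCat.fpSnd v y)))) := by
  obtain ⟨P, hP⟩ := (ptSkel h v y).exists_ptRep (fp_grpd h) he (fun g p => p.res h g)
    (fun g p => (ptSq_iff h _ _ _).1 (p.res_sq h g))
  have key : ∀ {A : Over S} (Φ : AlgSt.ofSp F ⥤ᵇ FibCat.overCat A) {T : Over S} (σ : (yon S).obj T ⟶ F)
      (a : T ⟶ A) (m : Φ.obj ⟨T, (J S).uliftYonedaEquiv σ⟩ ⟶ (Over.mk a : (FibCat.overCat A).obj)),
      (FibCat.overCat A).p.IsHomLift (𝟙 T) m → (yon S).map a = σ ≫ AlgSt.spMapOfOver Φ := by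
    intro A Φ T σ a m hm
    apply (J S).uliftYonedaEquiv.injective
    rw [GrothendieckTopology.uliftYonedaEquiv_comp, AlgSt.spMapOfOver_app]
    refine ULift.ext _ _ ?_
    show 𝟙 T ≫ a = AlgSt.secHom Φ ⟨T, (J S).uliftYonedaEquiv σ⟩
    have hw : m.left ≫ a = (Φ.obj ⟨T, (J S).uliftYonedaEquiv σ⟩).hom := Over.w m
    have hl : m.left = eqToHom (Φ.w_obj _) ≫ 𝟙 T ≫ eqToHom rfl :=
      IsHomLift.fac' (FibCat.overCat A).p (𝟙 T) m
    rw [AlgSt.secHom, ← hw, hl]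
    simp
  refine ⟨⟨P, fun {T} σ => ?_, fun {T} σ => ?_⟩⟩
  · obtain ⟨m, hm⟩ := hP σ
    exact key _ σ _ m.hom.fst (fp_lift_fst _ m)
  · obtain ⟨m, hm⟩ := hP σ
    exact key _ σ _ m.hom.snd (fp_lift_snd _ m)

end Groth.Agent.IsoTrans
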