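import Groth.Agent.IsoTrans.AtlasLift
import Groth.Agent.AlgSpLib.AffineDescent
import Groth.Agent.AlgSpLib.Glue

/-!
Points of spaces formally unramified over a scheme are rigid along thickenings.
-/

set_option autoImplicit false
set_option linter.style.haveILetI false
set_option backward.isDefEq.respectTransparency false
set_option backward.isDefEq.respectTransparency.types false

universe u

open CategoryTheory CategoryTheory.Limits AlgebraicGeometry Opposite AlgSp

namespace Groth.Agent.IsoTrans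

open Groth.Agent Groth.Agent.AlgSpLib

/-- Uniqueness of lifts along formally unramified morphisms for a square-zero surjection. -/
theorem hom_ext_sq_zero {C C₀ : Type u} [CommRing C] [CommRing C₀] (φ : C →+* C₀) (hφ : Function.Surjective φ)
    (hsq : RingHom.ker φ ^ 2 = ⊥) {X Y : Scheme.{u}} (f : X ⟶ Y) [FormallyUnramified f]
    {g₁ g₂ : Spec (CommRingCat.of C) ⟶ X}
    (h : Spec.map (CommRingCat.ofHom φ) ≫ g₁ = Spec.map (CommRingCat.ofHom φ) ≫ g₂)
    (hf : g₁ ≫ f = g₂ ≫ f) : g₁ = g₂ := by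
  have : IsClosedImmersion (Spec.map (CommRingCat.ofHom φ)) := IsClosedImmersion.spec_of_surjective _ hφ
  refine AlgebraicGeometry.FormallyUnramified.hom_ext _ ⟨2, ?_⟩ f h hf
  apply Scheme.IdealSheafData.ext_of_isAffine
  simp only [pow_two, Scheme.IdealSheafData.ideal_mul, Pi.mul_apply, Scheme.Hom.ker_apply,
    show (0 : (Spec (CommRingCat.of C)).IdealSheafData) = ⊥ from rfl,
    Scheme.IdealSheafData.ideal_bot, Pi.bot_apply]
  rw [eq_bot_iff, Ideal.mul_le]
  intro a ha b hb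
  rw [Ideal.mem_bot]
  let e := Scheme.ΓSpecIso (CommRingCat.of C)
  have key : ∀ x, x ∈ RingHom.ker (Spec.map (CommRingCat.ofHom φ)).appTop.hom → e.hom x ∈ RingHom.ker φ := by
    intro x hx
    have hn := congr($(Scheme.ΓSpecIso_naturality (CommRingCat.ofHom φ)) x)
    rw [RingHom.mem_ker]
    exact hn.symm.trans ((congrArg (Scheme.ΓSpecIso (CommRingCat.of C₀)).hom (RingHom.mem_ker.1 hx)).trans
      (map_zero (Scheme.ΓSpecIso (CommRingCat.of C₀)).hom.hom))
  apply e.commRingCatIsoToRingEquiv.injective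
  rw [map_zero, map_mul, ← Ideal.mem_bot, ← hsq, pow_two]
  exact Ideal.mul_mem_mul (key a ha) (key b hb)

variable {S : Scheme.{u}}

/-- Rigidity of points along thickenings. -/
theorem eq_of_unramified {F : Sp S} (hF : IsAlgSpace F) {V : Over S} {π : F ⟶ (yon S).obj V}
    (hπ : LocP @FormallyUnramified π) {C C₀ : Type u} [CommRing C] [CommRing C₀] {φ : C →+* C₀}
    (hφ : Function.Surjective φ) (hsq : RingHom.ker φ ^ 2 = ⊥) {str : Spec (CommRingCat.of C) ⟶ S}
    {str₀ : Spec (CommRingCat.of C₀) ⟶ S} (j : affObj str₀ ⟶ affObj str)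
    (hj : j.left = Spec.map (CommRingCat.ofHom φ)) {σ σ' : (yon S).obj (affObj str) ⟶ F}
    (h₀ : (yon S).map j ≫ σ = (yon S).map j ≫ σ') (h₁ : σ ≫ π = σ' ≫ π) : σ = σ' := by
  obtain ⟨W, a, ha, has⟩ := hF.atlas
  obtain ⟨f, hf⟩ := (yon S).map_surjective (a ≫ π)
  have : FormallyUnramified f.left := hπ a (𝟙 _) f ha (repWith_id _ V) (by rw [Category.comp_id, hf])
  obtain ⟨P, p₁, p₂, sq⟩ := exists_isPullback ha.1 σ
  have he : Etale p₂.left := prop_snd sq ha
  have hs : Surjective p₂.left := prop_snd sq has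
  have := effectiveEpi_chart ((repWith_yon_map_iff @Etale p₂).2 he) ((repWith_yon_map_iff @Surjective p₂).2 hs)
  rw [← cancel_epi ((yon S).map p₂)]
  refine hom_ext_openCover (fun O : P.left.affineOpens => openOverι P O.1) (fun O => ?_) (fun z => ?_) fun O => ?_
  · exact inferInstanceAs (IsOpenImmersion O.1.ι)
  · obtain ⟨_, ⟨O, hO, rfl⟩, hz, -⟩ := P.left.isBasis_affineOpens.exists_subset_of_mem_open (Set.mem_univ z) isOpen_univ
    exact ⟨⟨O, hO⟩, ⟨z, hz⟩, rfl⟩
  -- an affine piece etale over the test ring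
  let A : CommRingCat.{u} := Γ(↑O.1, ⊤)
  have : IsAffine O.1.toScheme := O.2
  let k : Spec A ⟶ P.left := (Scheme.isoSpec O.1.toScheme).inv ≫ O.1.ι
  obtain ⟨g, hg⟩ : ∃ g : CommRingCat.of C ⟶ A, Spec.map g = k ≫ p₂.left := ⟨_, Spec.map_preimage _⟩
  let I : Ideal A := (RingHom.ker φ).map g.hom
  let ψ : A →+* A ⧸ I := Ideal.Quotient.mk I
  let g₀ : C₀ →+* A ⧸ I := φ.liftOfSurjective hφ ⟨ψ.comp g.hom, fun x hx => by
    simp only [RingHom.mem_ker, RingHom.comp_apply] at hx ⊢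
    exact Ideal.Quotient.eq_zero_iff_mem.2 (Ideal.mem_map_of_mem _ (RingHom.mem_ker.2 hx))⟩
  have hg₀ : g₀.comp φ = ψ.comp g.hom := RingHom.liftOfSurjective_comp _ hφ _
  let T : Over S := affObj (k ≫ P.hom)
  let T₀ : Over S := affObj (Spec.map (CommRingCat.ofHom ψ) ≫ k ≫ P.hom)
  let i : T₀ ⟶ T := Over.homMk (Spec.map (CommRingCat.ofHom ψ)) rfl
  let kk : T ⟶ P := Over.homMk k rfl
  let q : T₀ ⟶ affObj str₀ := Over.homMk (Spec.map (CommRingCat.ofHom g₀)) (by
    show Spec.map _ ≫ str₀ = Spec.map (CommRingCat.ofHom ψ) ≫ k ≫ P.hom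
    have hjw : j.left ≫ str = str₀ := Over.w j
    rw [← hjw, ← Category.assoc, hj, ← Spec.map_comp, ← CommRingCat.ofHom_comp, hg₀, CommRingCat.ofHom_comp,
      Spec.map_comp, ← Over.w p₂, Category.assoc]
    simp only [← Category.assoc, CommRingCat.ofHom_hom]
    rw [hg, Category.assoc]
    rfl)
  have hq : q ≫ j = i ≫ kk ≫ p₂ := Over.OverMorphism.ext (by
    show Spec.map _ ≫ j.left = Spec.map _ ≫ k ≫ p₂.left
    rw [hj, ← Spec.map_comp, ← CommRingCat.ofHom_comp, hg₀, CommRingCat.ofHom_comp, Spec.map_comp,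
      CommRingCat.ofHom_hom, hg])
  have hI : RingHom.ker ψ ^ 2 = ⊥ := by rw [Ideal.mk_ker, ← Ideal.map_pow, hsq, Ideal.map_bot]
  have hl₁ : (yon S).map (kk ≫ p₁) ≫ a = (yon S).map (kk ≫ p₂) ≫ σ := by
    rw [Functor.map_comp, Category.assoc, sq.w, ← Category.assoc, ← Functor.map_comp]
  obtain ⟨l₂, ⟨hl₂, hl₂'⟩, -⟩ := existsUnique_lift_chart Ideal.Quotient.mk_surjective hI i rfl ha
    ((yon S).map (kk ≫ p₂) ≫ σ') (i ≫ kk ≫ p₁) (by
      have e : ∀ s : (yon S).obj (affObj str) ⟶ F,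
          (yon S).map i ≫ (yon S).map (kk ≫ p₂) ≫ s = (yon S).map q ≫ (yon S).map j ≫ s := fun s => by
        rw [← Functor.map_comp_assoc, ← Functor.map_comp_assoc, hq]
      rw [Functor.map_comp_assoc (yon S) i (kk ≫ p₁), hl₁, e, e, h₀])
  have hfl : l₂ ≫ f = (kk ≫ p₁) ≫ f := (yon S).map_injective (by
    refine ((yon S).map_comp _ _).trans (Eq.trans ?_ ((yon S).map_comp _ _).symm)
    rw [hf, reassoc_of% hl₂', reassoc_of% hl₁, h₁])
  have e : l₂ = kk ≫ p₁ := Over.OverMorphism.ext (hom_ext_sq_zero ψ Ideal.Quotient.mk_surjective hI f.left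
    (congrArg CommaMorphism.left hl₂) (congrArg CommaMorphism.left hfl))
  have hT : (yon S).map (kk ≫ p₂) ≫ σ = (yon S).map (kk ≫ p₂) ≫ σ' := by rw [← hl₁, ← e, hl₂']
  let iso : openOver P O.1 ⟶ T := Over.homMk (Scheme.isoSpec O.1.toScheme).hom (by
    show _ ≫ k ≫ P.hom = O.1.ι ≫ P.hom
    simp [k])
  have hiso : iso ≫ kk = openOverι P O.1 := Over.OverMorphism.ext (by
    show (Scheme.isoSpec O.1.toScheme).hom ≫ k = O.1.ι
    simp [k])
  have h := congrArg ((yon S).map iso ≫ ·) hT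
  simp only [← Category.assoc, ← Functor.map_comp] at h
  rwa [hiso, Functor.map_comp, Category.assoc, Category.assoc] at h

end Groth.Agent.IsoTrans
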