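import Mathlib
import Groth.Prelude.Def_ProEtW
import Groth.Agent.FSmooth.Criterion

/-!
Schemes over the spectrum of a ring with etale retractions.
-/

set_option autoImplicit false
set_option linter.style.haveILetI false
set_option backward.isDefEq.respectTransparency false
set_option backward.isDefEq.respectTransparency.types false

universe u

open CategoryTheory CategoryTheory.Limits AlgebraicGeometry

namespace Groth.Agent.IsoTrans

variable {C : Type u} [CommRing C]

/-- A surjective etale map to the spectrum of a ring with etale retractions has a section. -/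
theorem exists_section_of_etale_surjective (h : ProEtW.HasEtaleRetractions C) {P : Scheme.{u}}
    (k : P ⟶ Spec (CommRingCat.of C)) [Etale k] [Surjective k] :
    ∃ s : Spec (CommRingCat.of C) ⟶ P, s ≫ k = 𝟙 _ := by
  classical
  obtain ⟨t, ht⟩ := isCompact_univ.elim_finite_subcover (ι := P.affineOpens)
    (fun O => k '' (O.1 : Set ↥P)) (fun O => k.isOpenMap _ O.1.isOpen) (by
      intro x _
      obtain ⟨p, rfl⟩ := k.surjective x
      obtain ⟨O, hO, hp, -⟩ := exists_isAffineOpen_mem_and_subset (X := P) (x := p) (U := ⊤) trivial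
      exact Set.mem_iUnion.2 ⟨⟨O, hO⟩, p, hp, rfl⟩)
  let Y : t → Scheme.{u} := fun i => (i.1.1 : P.Opens).toScheme
  have : ∀ i, IsAffine (Y i) := fun i => i.1.2
  let j : ∐ Y ⟶ P := Sigma.desc fun i : t => (i.1.1 : P.Opens).ι
  have hj : Etale j := IsZariskiLocalAtSource.sigmaDesc (P := @Etale)
    (fun i => inferInstanceAs (Etale (i.1.1 : P.Opens).ι))
  let k' := (∐ Y).isoSpec.inv ≫ j ≫ k
  have hk' : Surjective k' := by
    refine ⟨fun x => ?_⟩
    obtain ⟨O, hO, p, hp, rfl⟩ := Set.mem_iUnion₂.1 (ht (Set.mem_univ x))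
    refine ⟨(∐ Y).isoSpec.hom (Sigma.ι Y ⟨O, hO⟩ ⟨p, hp⟩), ?_⟩
    rw [← Scheme.Hom.comp_apply, ← Scheme.Hom.comp_apply]
    simp only [k', Category.assoc, Iso.hom_inv_id_assoc]
    simp only [← Category.assoc, j, Sigma.ι_desc]
    rfl
  have hk'e : Etale k' := inferInstanceAs (Etale ((∐ Y).isoSpec.inv ≫ j ≫ k))
  let φ := Spec.preimage k'
  have hφ : Spec.map φ = k' := Spec.map_preimage _
  letI := φ.hom.toAlgebra
  have het : φ.hom.Etale := (HasRingHomProperty.Spec_iff (P := @Etale)).1 (by rw [hφ]; exact hk'e)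
  haveI : Algebra.Etale C Γ(∐ Y, ⊤) := het
  have hff : Module.FaithfullyFlat C Γ(∐ Y, ⊤) := by
    refine Module.FaithfullyFlat.of_comap_surjective fun p => ?_
    obtain ⟨q, hq⟩ := hk'.surj p
    exact ⟨q, by rw [← hφ] at hq; exact hq⟩
  obtain ⟨r⟩ := h Γ(∐ Y, ⊤) hff inferInstance
  refine ⟨Spec.map (CommRingCat.ofHom r.toRingHom) ≫ (∐ Y).isoSpec.inv ≫ j, ?_⟩
  rw [Category.assoc, Category.assoc, show (∐ Y).isoSpec.inv ≫ j ≫ k = Spec.map φ from hφ.symm, ← Spec.map_comp,
    ← Spec.map_id]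
  congr 1
  exact CommRingCat.hom_ext (RingHom.ext fun x => r.commutes x)

/-- Points with values in a ring with etale retractions lift to affine schemes etale over the target. -/
theorem exists_affine_lift (h : ProEtW.HasEtaleRetractions C) {P : Scheme.{u}}
    (p : Spec (CommRingCat.of C) ⟶ P) :
    ∃ (Q : Scheme.{u}) (_ : IsAffine Q) (j : Q ⟶ P) (q : Spec (CommRingCat.of C) ⟶ Q),
      Etale j ∧ q ≫ j = p := by
  classical
  obtain ⟨t, ht⟩ := (isCompact_range p.continuous).elim_finite_subcover (ι := P.affineOpens)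
    (fun O => (O.1 : Set ↥P)) (fun O => O.1.isOpen) (by
      intro x _
      obtain ⟨O, hO, hp, -⟩ := exists_isAffineOpen_mem_and_subset (X := P) (x := x) (U := ⊤) trivial
      exact Set.mem_iUnion.2 ⟨⟨O, hO⟩, hp⟩)
  let Y : t → Scheme.{u} := fun i => (i.1.1 : P.Opens).toScheme
  have : ∀ i, IsAffine (Y i) := fun i => i.1.2
  let j : ∐ Y ⟶ P := Sigma.desc fun i : t => (i.1.1 : P.Opens).ι
  have hj : Etale j := IsZariskiLocalAtSource.sigmaDesc (P := @Etale)
    (fun i => inferInstanceAs (Etale (i.1.1 : P.Opens).ι))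
  have hs : Surjective (pullback.fst p j) := by
    refine ⟨fun x => ?_⟩
    obtain ⟨O, hO, hx⟩ := Set.mem_iUnion₂.1 (ht ⟨x, rfl⟩)
    obtain ⟨z, hz, -⟩ := Scheme.Pullback.exists_preimage_pullback (f := p) (g := j) x
      (Sigma.ι Y ⟨O, hO⟩ ⟨p x, hx⟩) (by
        rw [← Scheme.Hom.comp_apply (Sigma.ι Y ⟨O, hO⟩) j]; simp only [j, Sigma.ι_desc]; rfl)
    exact ⟨z, hz⟩
  obtain ⟨s, hs'⟩ := exists_section_of_etale_surjective h (pullback.fst p j)
  exact ⟨_, inferInstanceAs (IsAffine (∐ Y)), j, s ≫ pullback.snd p j, hj, by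
    rw [Category.assoc, ← pullback.condition, ← Category.assoc, hs', Category.id_comp]⟩

variable (I : Ideal C)

/-- The closed subscheme of a quotient. -/
noncomputable abbrev thick : Spec (CommRingCat.of (C ⧸ I)) ⟶ Spec (CommRingCat.of C) :=
  Spec.map (CommRingCat.ofHom (Ideal.Quotient.mk I))

/-- Lifting along smooth morphisms. -/
theorem exists_lift_smooth (hI : I ^ 2 = ⊥) {X Y : Scheme.{u}} (f : X ⟶ Y) [Smooth f]
    (a : Spec (CommRingCat.of (C ⧸ I)) ⟶ X) (b : Spec (CommRingCat.of C) ⟶ Y) (w : thick I ≫ b = a ≫ f) :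
    ∃ l : Spec (CommRingCat.of C) ⟶ X, thick I ≫ l = a ∧ l ≫ f = b :=
  ((Groth.FSmooth.smooth_iff f).1 inferInstance).2 C I hI a b w

/-- Lifting along etale morphisms. -/
theorem existsUnique_lift_etale (hI : I ^ 2 = ⊥) {X Y : Scheme.{u}} (f : X ⟶ Y) [Etale f]
    (a : Spec (CommRingCat.of (C ⧸ I)) ⟶ X) (b : Spec (CommRingCat.of C) ⟶ Y) (w : thick I ≫ b = a ≫ f) :
    ∃! l : Spec (CommRingCat.of C) ⟶ X, thick I ≫ l = a ∧ l ≫ f = b :=
  ((Groth.FSmooth.etale_iff f).1 inferInstance).2 C I hI a b w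

end Groth.Agent.IsoTrans
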