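import Groth.Agent.IsoTrans.SmoothCrit
import Groth.Agent.IsoTrans.Split

/-!
Smoothness of morphisms of schemes tested on thickenings of rings with etale retractions.
-/

set_option autoImplicit false
set_option linter.style.haveILetI false
set_option backward.isDefEq.respectTransparency false
set_option backward.isDefEq.respectTransparency.types false

universe u

open CategoryTheory CategoryTheory.Limits AlgebraicGeometry

namespace Groth.Agent.IsoTrans

/-- Lifting along smooth morphisms for a surjection with square-zero kernel. -/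
theorem exists_lift_smooth' {A A₀ : Type u} [CommRing A] [CommRing A₀] (φ : A →+* A₀)
    (hφ : Function.Surjective φ) (hsq : RingHom.ker φ ^ 2 = ⊥) {X Y : Scheme.{u}} (f : X ⟶ Y) [Smooth f]
    (a : Spec (CommRingCat.of A₀) ⟶ X) (b : Spec (CommRingCat.of A) ⟶ Y)
    (w : Spec.map (CommRingCat.ofHom φ) ≫ b = a ≫ f) :
    ∃ l : Spec (CommRingCat.of A) ⟶ X, Spec.map (CommRingCat.ofHom φ) ≫ l = a ∧ l ≫ f = b := by
  let e : CommRingCat.of (A ⧸ RingHom.ker φ) ≅ CommRingCat.of A₀ :=
    (RingHom.quotientKerEquivOfSurjective hφ).toCommRingCatIso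
  have he : CommRingCat.ofHom (Ideal.Quotient.mk (RingHom.ker φ)) ≫ e.hom = CommRingCat.ofHom φ := rfl
  have he' : Spec.map e.hom ≫ thick (RingHom.ker φ) = Spec.map (CommRingCat.ofHom φ) := by
    rw [← Spec.map_comp, he]
  obtain ⟨l, hl, hl'⟩ := exists_lift_smooth (RingHom.ker φ) hsq f (inv (Spec.map e.hom) ≫ a) b (by
    rw [← cancel_epi (Spec.map e.hom), ← Category.assoc, he', Category.assoc, IsIso.hom_inv_id_assoc, w])
  exact ⟨l, by rw [← he', Category.assoc, hl, IsIso.hom_inv_id_assoc], hl'⟩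

/-- Lifting along etale morphisms for a surjection with square-zero kernel. -/
theorem existsUnique_lift_etale' {A A₀ : Type u} [CommRing A] [CommRing A₀] (φ : A →+* A₀)
    (hφ : Function.Surjective φ) (hsq : RingHom.ker φ ^ 2 = ⊥) {X Y : Scheme.{u}} (f : X ⟶ Y) [Etale f]
    (a : Spec (CommRingCat.of A₀) ⟶ X) (b : Spec (CommRingCat.of A) ⟶ Y)
    (w : Spec.map (CommRingCat.ofHom φ) ≫ b = a ≫ f) :
    ∃! l : Spec (CommRingCat.of A) ⟶ X, Spec.map (CommRingCat.ofHom φ) ≫ l = a ∧ l ≫ f = b := by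
  let e : CommRingCat.of (A ⧸ RingHom.ker φ) ≅ CommRingCat.of A₀ :=
    (RingHom.quotientKerEquivOfSurjective hφ).toCommRingCatIso
  have he : CommRingCat.ofHom (Ideal.Quotient.mk (RingHom.ker φ)) ≫ e.hom = CommRingCat.ofHom φ := rfl
  have he' : Spec.map e.hom ≫ thick (RingHom.ker φ) = Spec.map (CommRingCat.ofHom φ) := by
    rw [← Spec.map_comp, he]
  obtain ⟨l, ⟨hl, hl'⟩, hu⟩ := existsUnique_lift_etale (RingHom.ker φ) hsq f (inv (Spec.map e.hom) ≫ a) b (by
    rw [← cancel_epi (Spec.map e.hom), ← Category.assoc, he', Category.assoc, IsIso.hom_inv_id_assoc, w])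
  refine ⟨l, ⟨by rw [← he', Category.assoc, hl, IsIso.hom_inv_id_assoc], hl'⟩, fun m hm => hu m ⟨?_, hm.2⟩⟩
  rw [← cancel_epi (Spec.map e.hom), ← Category.assoc, he', IsIso.hom_inv_id_assoc, hm.1]

/-- A morphism locally of finite presentation with liftings over rings with etale retractions is smooth. -/
theorem smooth_of_split_lifts {X Y : Scheme.{u}} (f : X ⟶ Y) [LocallyOfFinitePresentation f]
    (H : ∀ (C : Type u) [CommRing C] (I : Ideal C), I ^ 2 = ⊥ → ProEtW.HasEtaleRetractions (C ⧸ I) →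
      ∀ (a : Spec (CommRingCat.of (C ⧸ I)) ⟶ X) (b : Spec (CommRingCat.of C) ⟶ Y), thick I ≫ b = a ≫ f →
        ∃ l : Spec (CommRingCat.of C) ⟶ X, thick I ≫ l = a ∧ l ≫ f = b) : Smooth f := by
  refine ⟨fun {V} hV {U} hU hUV => ?_⟩
  letI := (f.appLE V U hUV).hom.toAlgebra
  haveI : Algebra.FinitePresentation Γ(Y, V) Γ(X, U) := f.finitePresentation_appLE hV hU hUV
  refine (⟨formallySmooth_of_split_lifts fun Q _ _ I hI hQ s => ?_, inferInstance⟩ :
    Algebra.Smooth Γ(Y, V) Γ(X, U))
  have hs : f.appLE V U hUV ≫ CommRingCat.ofHom s.toRingHom =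
      CommRingCat.ofHom (algebraMap Γ(Y, V) (Q ⧸ I)) := CommRingCat.hom_ext s.comp_algebraMap
  obtain ⟨l, hl1, hl2⟩ := H Q I hI hQ (Spec.map (CommRingCat.ofHom s.toRingHom) ≫ hU.fromSpec)
    (Spec.map (CommRingCat.ofHom (algebraMap Γ(Y, V) Q)) ≫ hV.fromSpec) (by
      rw [thick, ← Spec.map_comp_assoc, Category.assoc,
        ← IsAffineOpen.SpecMap_appLE_fromSpec f hV hU hUV, ← Spec.map_comp_assoc, hs]
      rfl)
  have hrange : Set.range l ⊆ Set.range hU.fromSpec := by
    rintro _ ⟨z, rfl⟩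
    obtain ⟨z', rfl⟩ : z ∈ Set.range (thick I) := by
      show z ∈ Set.range (PrimeSpectrum.comap (Ideal.Quotient.mk I))
      rw [range_comap_of_surjective _ (Ideal.Quotient.mk I) Ideal.Quotient.mk_surjective, Ideal.mk_ker]
      intro x hx
      refine (z : PrimeSpectrum Q).isPrime.mem_of_pow_mem 2 ?_
      have := Ideal.pow_mem_pow hx 2
      rw [hI, Ideal.mem_bot] at this
      rw [this]
      exact zero_mem _
    rw [← Scheme.Hom.comp_apply, hl1, Scheme.Hom.comp_apply]
    exact ⟨_, rfl⟩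
  let t : Γ(X, U) ⟶ CommRingCat.of Q := Spec.preimage (IsOpenImmersion.lift hU.fromSpec l hrange)
  have ht : Spec.map t ≫ hU.fromSpec = l := by
    rw [Spec.map_preimage, IsOpenImmersion.lift_fac]
  have htc : f.appLE V U hUV ≫ t = CommRingCat.ofHom (algebraMap Γ(Y, V) Q) := by
    apply Spec.map_injective
    rw [← cancel_mono hV.fromSpec, Spec.map_comp, Category.assoc,
      IsAffineOpen.SpecMap_appLE_fromSpec f hV hU hUV, reassoc_of% ht, hl2]
  refine ⟨{ t.hom with commutes' := fun r => congr($htc r) }, ?_⟩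
  have h : t ≫ CommRingCat.ofHom (Ideal.Quotient.mk I) = CommRingCat.ofHom s.toRingHom := by
    apply Spec.map_injective
    rw [← cancel_mono hU.fromSpec, Spec.map_comp, Category.assoc, ht]
    exact hl1
  exact AlgHom.ext fun z => congr($h z)

end Groth.Agent.IsoTrans
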