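import Groth.Agent.IsoTrans.Lifting
import Groth.Agent.AlgStLib.StkProps

/-!
Smoothness transfers along isomorphisms of presheaves of isomorphism classes.
-/

set_option autoImplicit false
set_option linter.style.haveILetI false
set_option backward.isDefEq.respectTransparency false
set_option backward.isDefEq.respectTransparency.types false

universe u

open CategoryTheory CategoryTheory.Limits CategoryTheory.Functor AlgebraicGeometry Opposite AlgSp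

namespace Groth.Agent.IsoTrans

open Groth.Agent Groth.Agent.FibBasics Groth.Agent.AlgSpLib Groth.Agent.AlgStLib

variable {S : Scheme.{u}} {𝒳 𝒴 : AlgSt.Cat S} {U V : Over S}
variable {v : FibCat.overCat V ⥤ᵇ 𝒴} {y : FibCat.overCat U ⥤ᵇ 𝒴} {w : FibCat.overCat V ⥤ᵇ 𝒳}
  {x : FibCat.overCat U ⥤ᵇ 𝒳} {h𝒳 : FibCat.IsFibGrpd 𝒳.p} {h𝒴 : FibCat.IsFibGrpd 𝒴.p}

/-- Smoothness over a smooth chart. -/
theorem locP_smooth_of_corr (hc : Corr v y w x) {F : Sp S} (hF : IsAlgSpace F) {π₁ : F ⟶ (yon S).obj V}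
    {π₂ : F ⟶ (yon S).obj U} (R : FRep h𝒴 v y F π₁ π₂) (hlfp : LocP @LocallyOfFinitePresentation π₁)
    {G : Sp S} (hG : IsAlgSpace G) {ρ₁ : G ⟶ (yon S).obj V} {ρ₂ : G ⟶ (yon S).obj U}
    (R' : FRep h𝒳 w x G ρ₁ ρ₂) (hρ : LocP @Smooth ρ₁)
    {D : Sp S} (hD : IsAlgSpace D) {κ₁ κ₂ : D ⟶ (yon S).obj V} (RD : FRep h𝒴 v v D κ₁ κ₂)
    (hκ : LocP @Smooth κ₁) : LocP @Smooth π₁ := by
  obtain ⟨W, a, ha, has⟩ := hF.atlas
  obtain ⟨f, hf⟩ := (yon S).map_surjective (a ≫ π₁)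
  have : LocallyOfFinitePresentation f.left := prop_chart ha hf hlfp
  refine locP_of_chart ha has (repWith_id _ V) (h := f) (by rw [Category.comp_id, hf])
    (smooth_of_split_lifts f.left fun C _ I hI hC q₀ b hw => ?_)
  let str : Spec (CommRingCat.of C) ⟶ S := b ≫ V.hom
  let str₀ : Spec (CommRingCat.of (C ⧸ I)) ⟶ S := q₀ ≫ W.hom
  let j : affObj str₀ ⟶ affObj str := Over.homMk (thick I) (by
    show thick I ≫ b ≫ V.hom = q₀ ≫ W.hom
    rw [← Category.assoc, hw, Category.assoc, Over.w f])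
  let q : affObj str₀ ⟶ W := Over.homMk q₀ rfl
  let b' : affObj str ⟶ V := Over.homMk b rfl
  have hsq : RingHom.ker (Ideal.Quotient.mk I) ^ 2 = ⊥ := by rw [Ideal.mk_ker, hI]
  have hqb : j ≫ b' = q ≫ f := Over.OverMorphism.ext hw
  obtain ⟨σ, hσ, hσ₁⟩ := exists_lift_split hc R hG R' hρ hD RD hκ Ideal.Quotient.mk_surjective hsq hC j rfl b'
    ((yon S).map q ≫ a) (by rw [Category.assoc, ← hf, ← Functor.map_comp, hqb])
  obtain ⟨l, ⟨hl, hl'⟩, -⟩ := existsUnique_lift_chart Ideal.Quotient.mk_surjective hsq j rfl ha σ q hσ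
  have h2 : l ≫ f = b' := (yon S).map_injective (by rw [Functor.map_comp, hf, ← Category.assoc, hl', hσ₁])
  exact ⟨l.left, congrArg CommaMorphism.left hl, congrArg CommaMorphism.left h2⟩

/-- Smoothness transfers to the twin, given finite presentation. -/
theorem repWith_smooth_of_corr (h𝒳 : FibCat.IsFibGrpd 𝒳.p)
    (h𝒴 : AlgSt.IsAlgStack Scheme.fppfPrecoverage 𝒴) {y : FibCat.overCat U ⥤ᵇ 𝒴} {x : FibCat.overCat U ⥤ᵇ 𝒳}
    (hc : ∀ {V : Over S} (v : FibCat.overCat V ⥤ᵇ 𝒴), ∃ w : FibCat.overCat V ⥤ᵇ 𝒳, Corr v y w x)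
    (hlfp : AlgSt.RepByAlgSpWith (LocP @LocallyOfFinitePresentation) y)
    (hx : AlgSt.RepByAlgSpWith (LocP @Smooth) x) : AlgSt.RepByAlgSpWith (LocP @Smooth) y := by
  obtain ⟨Z, z, hz, hzs⟩ := h𝒴.atlas
  let V₀ : AlgSp.Space S := ⟨_, IsAlgSpace.yon_obj Z⟩
  let z' := BasedFunctor.comp (AlgSt.toOverCat Z) z
  have hy : AlgSt.RepByAlgSp1 y := AlgStLib.rep_slices_of_diag h𝒴.isStack.1 h𝒴.diag U y
  obtain ⟨A, a, e, he, ⟨i⟩, -⟩ := exists_space_rep (P := ⊤)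
    (fun _ _ _ _ _ _ _ _ _ _ _ _ _ _ _ => iff_of_true trivial fun _ => trivial) (isFibGrpd_overForget U)
    h𝒴.isStack.1 (rep1_iff.1 hy) V₀ z'
  refine repWith_of_fppf_baseChange (z := z') isLocalOnBase_fppf_locP (isFibGrpd_overForget U) h𝒴.isStack.1
    (Stk.isFibGrpd_ofPsh _) hy
    (fppfMor_of_smooth ((repWith_comp_equiv (toOverCat_isEquivOver Z)).2 hz)
      ((repWith_comp_equiv (toOverCat_isEquivOver Z)).2 hzs))
    (repWith_fpFst_of_space_rep (fun _ _ _ _ h₁ h₁' _ h₂' _ _ _ _ sq ha => locP_baseChange h₁ h₁' h₂' sq ha)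
      a he i ?_)
  let e₀ := BasedFunctor.comp e (fpMapFst (AlgSt.toOverCat Z) z y)
  have he₀ : FibCat.IsEquivOver e₀ :=
    isEquivOver_comp he (fpMapFst_isEquivOver _ _ _ (toOverCat_isEquivOver Z))
  have hπ : AlgSt.spMapOfOver (BasedFunctor.comp e₀ (FibCat.fpFst z y)) = a.hom := by
    rw [← spMapOf_ofOverCat]
    refine (spMapOf_congr ?_).trans ((spMapOf_congr i).trans (spMapOf_ofSpMap a.hom))
    exact eqToIso (based_ext rfl)
  obtain ⟨R⟩ := exists_frep h𝒴.isStack.1 he₀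
  obtain ⟨w, hw⟩ := hc z
  obtain ⟨G, e', he', hρ⟩ := hx Z w
  obtain ⟨R'⟩ := exists_frep h𝒳 he'
  obtain ⟨D, eD, heD, hκ⟩ := hz Z z
  obtain ⟨RD⟩ := exists_frep h𝒴.isStack.1 heD
  have hl : LocP @LocallyOfFinitePresentation (AlgSt.spMapOfOver (BasedFunctor.comp e₀ (FibCat.fpFst z y))) := by
    obtain ⟨F₁, e₁, he₁, h₁⟩ := hlfp Z z
    exact prop_of_rep_over isLocalOnBase_fppf_locP he₁ he₀ _ h₁
  have := locP_smooth_of_corr hw A.property R hl G.property R' hρ D.property RD hκ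
  rwa [hπ] at this

end Groth.Agent.IsoTrans
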