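import Groth.Agent.EtRetr.Build
import Groth.Agent.HenselLib.LiftEtalePair
import Mathlib.RingTheory.Smooth.Basic
import Mathlib.RingTheory.Flat.FaithfullyFlat.Basic
import Mathlib.Algebra.MvPolynomial.PDeriv
import Mathlib.RingTheory.Spectrum.Prime.RingHom

/-!
Formal smoothness of finitely presented algebras tested on rings with etale retractions.
-/

set_option autoImplicit false
set_option linter.style.haveILetI false

universe u

open TensorProduct MvPolynomial

namespace Groth.Agent.IsoTrans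

variable {A : Type u} [CommRing A]

/-- First order Taylor formula for two algebra maps with square-zero difference. -/
theorem taylor_sq_zero {σ : Type} [Fintype σ] {Q : Type u} [CommRing Q] [Algebra A Q] (J : Ideal Q)
    (hJ : J ^ 2 = ⊥) (φ ψ : MvPolynomial σ A →ₐ[A] Q) (h : ∀ j, ψ (X j) - φ (X j) ∈ J)
    (p : MvPolynomial σ A) :
    ψ p - φ p = ∑ j, φ (pderiv j p) * (ψ (X j) - φ (X j)) := by
  classical
  induction p using MvPolynomial.induction_on with
  | C a => simp [show (C a : MvPolynomial σ A) = algebraMap A _ a from rfl]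
  | add p q hp hq =>
    simp only [map_add, add_mul, Finset.sum_add_distrib, ← hp, ← hq]
    ring
  | mul_X p i hp =>
    have hm : ψ p - φ p ∈ J := hp ▸ J.sum_mem fun j _ => J.mul_mem_left _ (h j)
    have h0 : (ψ p - φ p) * (ψ (X i) - φ (X i)) = 0 := by
      rw [← Ideal.mem_bot, ← hJ, pow_two]
      exact Ideal.mul_mem_mul hm (h i)
    simp only [pderiv_mul, map_add, map_mul, add_mul, Finset.sum_add_distrib, pderiv_X]
    have h1 : ∑ j, φ (pderiv j p) * φ (X i) * (ψ (X j) - φ (X j)) = (ψ p - φ p) * φ (X i) := by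
      rw [hp, Finset.sum_mul]
      exact Finset.sum_congr rfl fun j _ => by ring
    have h2 : ∑ j, φ p * φ ((Pi.single j 1 : σ → MvPolynomial σ A) i) * (ψ (X j) - φ (X j)) = φ p * (ψ (X i) - φ (X i)) := by
      rw [Finset.sum_eq_single i]
      · simp
      · intro j _ hj; simp [Pi.single_eq_of_ne (Ne.symm hj)]
      · simp
    rw [h1, h2]
    linear_combination h0

/-- Linear equations with coefficients in `Q` and unknowns in an ideal descend along faithfully flat algebras. -/
theorem exists_solution {Q C : Type u} [CommRing Q] [CommRing C] [Algebra Q C] [Module.FaithfullyFlat Q C]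
    (I : Ideal Q) {m n : ℕ} (a : Fin m → Fin n → Q) (v : Fin m → Q) (r : Fin n → C)
    (hr : ∀ j, r j ∈ I.map (algebraMap Q C))
    (h : ∀ l, ∑ j, algebraMap Q C (a l j) * r j = algebraMap Q C (v l)) :
    ∃ r₀ : Fin n → Q, (∀ j, r₀ j ∈ I) ∧ ∀ l, ∑ j, a l j * r₀ j = v l := by
  classical
  let Φ : (Fin n → Q) →ₗ[Q] (Fin m → Q) := Matrix.mulVecLin (Matrix.of a)
  let T : Submodule Q (Fin n → Q) := Submodule.pi Set.univ fun _ => I
  let M := (Fin m → Q) ⧸ T.map Φ
  let q : (Fin m → Q) →ₗ[Q] M := (T.map Φ).mkQ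
  let Ψ : (Fin m → C) →ₗ[C] C ⊗[Q] M :=
    ∑ l, (LinearMap.toSpanSingleton C _ ((1 : C) ⊗ₜ[Q] q (Pi.single l 1))).comp (LinearMap.proj l)
  have hΨ : ∀ w : Fin m → Q, Ψ (fun l => algebraMap Q C (w l)) = (1 : C) ⊗ₜ q w := by
    intro w
    conv_rhs => rw [pi_eq_sum_univ' w, map_sum, TensorProduct.tmul_sum]
    rw [LinearMap.sum_apply]
    refine Finset.sum_congr rfl fun l _ => ?_
    rw [map_smul, TensorProduct.tmul_smul, ← algebraMap_smul C (w l)]
    rfl
  suffices hv : q v = 0 by
    obtain ⟨r₀, hr₀, hv'⟩ := (Submodule.Quotient.mk_eq_zero _).1 hv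
    exact ⟨r₀, fun j => hr₀ j trivial, fun l => congrFun hv' l⟩
  apply Module.FaithfullyFlat.one_tmul_eq_zero_iff Q M (A := C) (q v) |>.1
  rw [← hΨ]
  let Ξ : (Fin n → C) →ₗ[C] (Fin m → C) := Matrix.mulVecLin (Matrix.of fun l j => algebraMap Q C (a l j))
  rw [show (fun l => algebraMap Q C (v l)) = Ξ r from funext fun l => (h l).symm, pi_eq_sum_univ' r,
    map_sum, map_sum]
  refine Finset.sum_eq_zero fun j _ => ?_
  rw [map_smul, map_smul]
  let K : Ideal C := Submodule.comap (LinearMap.toSpanSingleton C _ (Ψ (Ξ (Pi.single j 1)))) ⊥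
  suffices r j ∈ K from this
  refine (Ideal.map_le_iff_le_comap.2 fun g hg => ?_) (hr j)
  show algebraMap Q C g • Ψ (Ξ (Pi.single j 1)) = 0
  rw [← map_smul, ← map_smul]
  have e : Ξ (algebraMap Q C g • Pi.single j 1) = fun l => algebraMap Q C (Φ (Pi.single j g) l) := by
    ext l
    simp [Ξ, Φ, Matrix.mulVec, dotProduct, Pi.single_apply, mul_comm, Algebra.smul_def]
  rw [e, hΨ, show q (Φ (Pi.single j g)) = 0 from (Submodule.Quotient.mk_eq_zero _).2
    ⟨_, fun i _ => ?_, rfl⟩, TensorProduct.tmul_zero]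
  by_cases hi : i = j
  · subst hi; simpa using hg
  · simp [hi]

/-- Etale retractions pass to quotients by nil ideals. -/
theorem hasEtaleRetractions_quotient {C : Type u} [CommRing C] (I : Ideal C) (hI : I ≤ nilradical C)
    (h : ProEtW.HasEtaleRetractions C) : ProEtW.HasEtaleRetractions (C ⧸ I) := by
  intro B₀ _ _ hff het
  letI : Algebra C B₀ := ((algebraMap (C ⧸ I) B₀).comp (Ideal.Quotient.mk I)).toAlgebra
  haveI : IsScalarTower C (C ⧸ I) B₀ := .of_algebraMap_eq' rfl
  obtain ⟨B, _, _, π, hB, hπ, hker⟩ := HenselLib.exists_etale_lift_quotient (I := I) B₀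
  have hBff : Module.FaithfullyFlat C B := by
    haveI : Module.Flat C B := inferInstance
    refine Module.FaithfullyFlat.of_comap_surjective fun p => ?_
    obtain ⟨p₀, rfl⟩ : p ∈ Set.range (PrimeSpectrum.comap (Ideal.Quotient.mk I)) := by
      rw [range_comap_of_surjective _ (Ideal.Quotient.mk I) Ideal.Quotient.mk_surjective, Ideal.mk_ker]
      exact fun x hx => (hI.trans (nilradical_le_prime p.asIdeal)) hx
    obtain ⟨P, rfl⟩ := PrimeSpectrum.comap_surjective_of_faithfullyFlat (A := C ⧸ I) (B := B₀) p₀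
    refine ⟨PrimeSpectrum.comap π.toRingHom P, ?_⟩
    rw [← PrimeSpectrum.comap_comp_apply, ← PrimeSpectrum.comap_comp_apply]
    congr 1
    exact π.comp_algebraMap
  obtain ⟨r⟩ := h B hBff hB
  have hr : ∀ x, π x = 0 → Ideal.Quotient.mk I (r x) = 0 := fun x hx =>
    Ideal.Quotient.eq_zero_iff_mem.2 <| by
      have h1 : r x ∈ (I.map (algebraMap C B)).map r.toRingHom := Ideal.mem_map_of_mem _ (hker x hx)
      rw [Ideal.map_map, show r.toRingHom.comp (algebraMap C B) = RingHom.id C from r.comp_algebraMap] at h1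
      simpa using h1
  let r₀ : B₀ →ₐ[C] C ⧸ I := AlgHom.liftOfSurjective π hπ ((Ideal.Quotient.mkₐ C I).comp r) hr
  refine ⟨{ r₀.toRingHom with commutes' := fun x => ?_ }⟩
  obtain ⟨c, rfl⟩ := Ideal.Quotient.mk_surjective x
  exact r₀.commutes c

/-- A finitely presented algebra is formally smooth if square-zero lifting holds for rings with etale
retractions. -/
theorem formallySmooth_of_split_lifts {B : Type u} [CommRing B] [Algebra A B] [Algebra.FinitePresentation A B]
    (H : ∀ (C : Type u) [CommRing C] [Algebra A C] (I : Ideal C), I ^ 2 = ⊥ →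
      ProEtW.HasEtaleRetractions (C ⧸ I) → ∀ s₀ : B →ₐ[A] C ⧸ I,
      ∃ s : B →ₐ[A] C, (Ideal.Quotient.mkₐ A I).comp s = s₀) :
    Algebra.FormallySmooth A B := by
  classical
  obtain ⟨n, π, hπ, hK⟩ := Algebra.FinitePresentation.out (R := A) (A := B)
  set K := RingHom.ker π.toRingHom with hKdef
  obtain ⟨m, k, hk⟩ := Submodule.fg_iff_exists_fin_generating_family.1 hK
  have hkK : ∀ l, k l ∈ K := fun l => hk ▸ Submodule.subset_span ⟨l, rfl⟩
  set Q := MvPolynomial (Fin n) A ⧸ K ^ 2
  obtain ⟨C, _, _, hff, -, hC⟩ := EtRetr.exists_hasEtaleRetractions Q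
  letI : Algebra A C := ((algebraMap Q C).comp (algebraMap A Q)).toAlgebra
  haveI : IsScalarTower A Q C := ⟨fun a x y => by
    simp only [Algebra.smul_def, map_mul, mul_assoc]; rfl⟩
  let I : Ideal Q := K.map (Ideal.Quotient.mk (K ^ 2))
  have hI : I ^ 2 = ⊥ := by rw [← Ideal.map_pow, Ideal.map_quotient_self]
  set IC : Ideal C := I.map (algebraMap Q C)
  have hIC : IC ^ 2 = ⊥ := by rw [← Ideal.map_pow, hI, Ideal.map_bot]
  have hICn : IC ≤ nilradical C := fun x hx =>
    ⟨2, by have := Ideal.pow_mem_pow hx 2; rwa [hIC, Ideal.mem_bot] at this⟩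
  let qC : MvPolynomial (Fin n) A →ₐ[A] C :=
    (IsScalarTower.toAlgHom A Q C).comp (Ideal.Quotient.mkₐ A (K ^ 2))
  have hqK : ∀ p, π p = 0 → qC p ∈ IC := fun p hp =>
    Ideal.mem_map_of_mem (algebraMap Q C) (Ideal.mem_map_of_mem (Ideal.Quotient.mk (K ^ 2)) hp)
  let s₀ : B →ₐ[A] C ⧸ IC := AlgHom.liftOfSurjective π hπ ((Ideal.Quotient.mkₐ A IC).comp qC)
    fun p hp => Ideal.Quotient.eq_zero_iff_mem.2 (hqK p hp)
  obtain ⟨s, hs⟩ := H C IC hIC (hasEtaleRetractions_quotient IC hICn hC) s₀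
  have hmem : ∀ p, qC p - s (π p) ∈ IC := fun p => by
    rw [← Ideal.Quotient.eq]
    exact ((AlgHom.congr_fun hs (π p)).trans
      (AlgHom.liftOfSurjective_apply π hπ ((Ideal.Quotient.mkₐ A IC).comp qC) _ p)).symm
  let r : Fin n → C := fun j => qC (X j) - s (π (X j))
  let q : MvPolynomial (Fin n) A →ₐ[A] Q := Ideal.Quotient.mkₐ A (K ^ 2)
  have hkey : ∀ l, ∑ j, algebraMap Q C (q (pderiv j (k l))) * r j = algebraMap Q C (q (k l)) := by
    intro l
    have h1 := taylor_sq_zero IC hIC qC (s.comp π) (fun j => (neg_sub (qC (X j)) _) ▸ IC.neg_mem (hmem (X j))) (k l)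
    simp only [AlgHom.comp_apply, show π (k l) = 0 from hkK l, map_zero, zero_sub] at h1
    rw [← neg_inj, ← Finset.sum_neg_distrib]
    refine Eq.trans (Finset.sum_congr rfl fun j _ => ?_) h1.symm
    simp only [r, ← mul_neg, neg_sub]
    rfl
  obtain ⟨r₀, hr₀, hsol⟩ := exists_solution I (fun l j => q (pderiv j (k l))) (fun l => q (k l)) r
    (fun j => hmem (X j)) hkey
  let g : MvPolynomial (Fin n) A →ₐ[A] Q := aeval fun j => q (X j) - r₀ j
  have hg : ∀ j, g (X j) - q (X j) ∈ I := fun j => by simpa [g] using I.neg_mem (hr₀ j)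
  have hgK : ∀ p, π p = 0 → g p = 0 := by
    intro p hp
    have : K ≤ RingHom.ker g.toRingHom := by
      refine hk.symm.trans_le (Submodule.span_le.2 ?_)
      rintro _ ⟨l, rfl⟩
      have h1 := taylor_sq_zero I hI q g hg (k l)
      have h2 : ∑ j, q (pderiv j (k l)) * (g (X j) - q (X j)) = - q (k l) := by
        rw [← hsol l, ← Finset.sum_neg_distrib]
        exact Finset.sum_congr rfl fun j _ => by simp [g]; exact mul_neg _ _
      rw [h2, sub_eq_iff_eq_add] at h1
      simpa using h1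
    exact this hp
  let σ : B →ₐ[A] Q := AlgHom.liftOfSurjective π hπ g fun p hp => hgK p hp
  refine Algebra.FormallySmooth.of_split π σ ?_
  refine AlgHom.ext fun b => ?_
  obtain ⟨p, rfl⟩ := hπ b
  show π.kerSquareLift (σ (π p)) = π p
  rw [show σ (π p) = g p from AlgHom.liftOfSurjective_apply π hπ g (fun p hp => hgK p hp) p]
  have hπg : (π.kerSquareLift.comp g) = π := by
    refine MvPolynomial.algHom_ext fun j => ?_
    obtain ⟨z, hz, hz'⟩ : ∃ z ∈ K, Ideal.Quotient.mk (K ^ 2) z = r₀ j :=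
      (Ideal.mem_map_iff_of_surjective _ Ideal.Quotient.mk_surjective).1 (hr₀ j)
    simp only [AlgHom.comp_apply, g, aeval_X, q, map_sub, ← hz']
    show π (X j) - π z = π (X j)
    rw [show π z = 0 from hz, sub_zero]
  exact AlgHom.congr_fun hπg p

end Groth.Agent.IsoTrans
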