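import Groth.Agent.IsoTrans.Twin
import Groth.Agent.AlgStLib.StkProps

/-!
Finite presentation of representable morphisms depends only on the isomorphism classes.
-/

set_option autoImplicit false
set_option backward.isDefEq.respectTransparency false
set_option backward.isDefEq.respectTransparency.types false

universe u

open CategoryTheory CategoryTheory.Limits CategoryTheory.Functor AlgebraicGeometry Opposite AlgSp

namespace Groth.Agent.IsoTrans

open Groth.Agent Groth.Agent.FibBasics Groth.Agent.AlgSpLib Groth.Agent.AlgStLib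

variable {S : Scheme.{u}} {𝒳 𝒴 𝒳' 𝒴' : AlgSt.Cat S}

theorem twin_comp {f : 𝒳 ⥤ᵇ 𝒴} {f' : 𝒳' ⥤ᵇ 𝒴'} (φ : IsoNat.FIsoSq f f') {U : Over S}
    {x : FibCat.overCat U ⥤ᵇ 𝒳} {y : FibCat.overCat U ⥤ᵇ 𝒳'} (h : Twin φ.src x y) :
    Twin φ.tgt (BasedFunctor.comp x f) (BasedFunctor.comp y f') :=
  (φ.comm U (IsoNat.objCls x)).trans (congrArg (IsoNat.mapCls f' U) h)

theorem repWith_lfp_of_sq (h𝒳 : AlgSt.IsAlgStack Scheme.fppfPrecoverage 𝒳)
    (h𝒳i : AlgSt.RepByAlgSpWith (LocP @LocallyOfFinitePresentation) (FibCat.inertiaToBase (FibCat.toSelf 𝒳)))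
    (h𝒴 : FibCat.IsFibGrpd 𝒴.p) (h𝒳' : AlgSt.IsAlgStack Scheme.fppfPrecoverage 𝒳')
    (h𝒴' : AlgSt.IsAlgStack Scheme.fppfPrecoverage 𝒴')
    (h𝒴'i : AlgSt.RepByAlgSpWith (LocP @LocallyOfFinitePresentation) (FibCat.inertiaToBase (FibCat.toSelf 𝒴')))
    {f : 𝒳 ⥤ᵇ 𝒴} {f' : 𝒳' ⥤ᵇ 𝒴'} (φ : IsoNat.FIsoSq f f') (hf' : AlgSt.RepByAlgSp1 f')
    (hf : AlgSt.RepByAlgSpWith (LocP @LocallyOfFinitePresentation) f) :
    AlgSt.RepByAlgSpWith (LocP @LocallyOfFinitePresentation) f' := by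
  obtain ⟨U, p', hp', hp's⟩ := h𝒳'.atlas
  obtain ⟨p, hp⟩ := exists_twin_left h𝒳.isStack.1 φ.src p'
  have hp'l : AlgSt.RepByAlgSpWith (LocP @LocallyOfFinitePresentation) p' :=
    repWith_mono_prop (fun _ _ _ _ _ ha => locP_mono (fun _ _ k hk => by have : Smooth k := hk; infer_instance) ha) hp'
  have hpl := repWith_lfp_of_twin' h𝒳 h𝒳'.isStack.1 h𝒳i hp hp'l
  have hq : AlgSt.RepByAlgSpWith (LocP @LocallyOfFinitePresentation) (BasedFunctor.comp p f) :=
    repWith_comp_stk (fun _ _ _ hX hY hZ _ _ ha hb => locP_comp hX hY hZ ha hb) isLocalOnBase_fppf_locP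
      (isFibGrpd_overForget U) h𝒳.isStack.1 hpl hf
  have hq' := repWith_lfp_of_twin h𝒴 h𝒴' h𝒴'i (twin_comp φ hp) hq
  exact repWith_of_comp_cover isLocalOnBase_fppf_locP isLocalOnBase_fppf_locP
    (fun X' X Y hX' hX hY a b ha has hab => locP_of_comp_surjective hX' hX hY has ha hab
      fun A B C k m hk hs h => @SourceDescent.locallyOfFinitePresentation_of_comp _ _ _ k m hk hs h)
    (isFibGrpd_overForget U) h𝒳'.isStack.1 hf' hp' hp's hq'

end Groth.Agent.IsoTrans
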