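import Groth.Agent.IsoTrans.Smooth
import Groth.Agent.IsoTrans.Stmt76

/-!
Smooth charts and properties read on them transfer along isomorphisms of presheaves of isomorphism classes.
-/

set_option autoImplicit false
set_option linter.style.haveILetI false
set_option backward.isDefEq.respectTransparency false
set_option backward.isDefEq.respectTransparency.types false

universe u

open CategoryTheory CategoryTheory.Limits CategoryTheory.Functor AlgebraicGeometry Opposite AlgSp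

namespace Groth.Agent.IsoTrans

open Groth.Agent Groth.Agent.FibBasics Groth.Agent.AlgSpLib Groth.Agent.AlgStLib

variable {S : Scheme.{u}} {𝒳 𝒴 : AlgSt.Cat S} {U : Over S} {φ : IsoNat.FIso 𝒳 𝒴}

theorem lfp_of_smooth {x : FibCat.overCat U ⥤ᵇ 𝒳} (hx : AlgSt.RepByAlgSpWith (LocP @Smooth) x) :
    AlgSt.RepByAlgSpWith (LocP @LocallyOfFinitePresentation) x :=
  repWith_mono_prop (fun _ _ _ _ _ ha => locP_mono (fun _ _ k hk => by have : Smooth k := hk; infer_instance) ha) hx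

theorem repWith_smooth_of_twin (h𝒳 : FibCat.IsFibGrpd 𝒳.p) (h𝒴 : AlgSt.IsAlgStack Scheme.fppfPrecoverage 𝒴)
    (hI : AlgSt.RepByAlgSpWith (LocP @LocallyOfFinitePresentation) (FibCat.inertiaToBase (FibCat.toSelf 𝒴)))
    {x : FibCat.overCat U ⥤ᵇ 𝒳} {y : FibCat.overCat U ⥤ᵇ 𝒴} (hxy : Twin φ x y)
    (hx : AlgSt.RepByAlgSpWith (LocP @Smooth) x) :
    AlgSt.RepByAlgSpWith (LocP @LocallyOfFinitePresentation) y ∧ AlgSt.RepByAlgSpWith (LocP @Smooth) y := by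
  have hl := repWith_lfp_of_twin h𝒳 h𝒴 hI hxy (lfp_of_smooth hx)
  refine ⟨hl, repWith_smooth_of_corr h𝒳 h𝒴 (fun {V} v => ?_) hl hx⟩
  obtain ⟨w, hw⟩ := exists_twin_left h𝒳 φ v
  exact ⟨w, hw.corr h𝒴.isStack.1 hxy⟩

theorem repWith_smooth_of_twin' (h𝒳 : AlgSt.IsAlgStack Scheme.fppfPrecoverage 𝒳) (h𝒴 : FibCat.IsFibGrpd 𝒴.p)
    (hI : AlgSt.RepByAlgSpWith (LocP @LocallyOfFinitePresentation) (FibCat.inertiaToBase (FibCat.toSelf 𝒳)))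
    {x : FibCat.overCat U ⥤ᵇ 𝒳} {y : FibCat.overCat U ⥤ᵇ 𝒴} (hxy : Twin φ x y)
    (hy : AlgSt.RepByAlgSpWith (LocP @Smooth) y) :
    AlgSt.RepByAlgSpWith (LocP @Smooth) x := by
  have hl := repWith_lfp_of_twin' h𝒳 h𝒴 hI hxy (lfp_of_smooth hy)
  refine repWith_smooth_of_corr h𝒴 h𝒳 (fun {V} v => ?_) hl hy
  obtain ⟨w, hw⟩ := exists_twin_right h𝒴 φ v
  exact ⟨w, Corr.symm' (hw.corr h𝒴 hxy)⟩

theorem repWith_surjective_of_twin (h𝒳 : FibCat.IsFibGrpd 𝒳.p) (h𝒴 : AlgSt.IsAlgStack Scheme.fppfPrecoverage 𝒴)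
    {x : FibCat.overCat U ⥤ᵇ 𝒳} {y : FibCat.overCat U ⥤ᵇ 𝒴} (hxy : Twin φ x y)
    (hx : AlgSt.RepByAlgSpWith IsSurjectiveMor x) : AlgSt.RepByAlgSpWith IsSurjectiveMor y := by
  intro V v
  obtain ⟨w, hw⟩ := exists_twin_left h𝒳 φ v
  obtain ⟨F, e, he⟩ := rep_slices_of_diag h𝒴.isStack.1 h𝒴.diag U y V v
  obtain ⟨G, e', he', hs⟩ := hx V w
  obtain ⟨R⟩ := exists_frep h𝒴.isStack.1 he
  obtain ⟨R'⟩ := exists_frep h𝒳 he'
  refine ⟨F, e, he, fun t => ?_⟩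
  obtain ⟨z, hz⟩ := hs t
  obtain ⟨p, hp⟩ := exists_ofPt z
  let t₀ : ↥p.pt.left := (IsLocalRing.closedPoint p.K : PrimeSpectrum p.K)
  let P := R'.rep.pm p.toHom
  obtain ⟨ι⟩ := ((hw.corr h𝒴.isStack.1 hxy) P.fst P.snd).2 ⟨P.iso⟩
  obtain ⟨σ, -, hσ, -⟩ := R.exists_point ⟨P.fst, P.snd, ι⟩
  refine ⟨Points.ofPt σ t₀, ?_⟩
  rw [← hz, ← hp t₀, Points.map_ofPt, hσ, R'.fst_eq, ← Points.map_ofPt]

theorem twin_of_iso {𝒵 : AlgSt.Cat S} (h : FibCat.IsFibGrpd 𝒵.p) {a b : FibCat.overCat U ⥤ᵇ 𝒵}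
    (e : IsoNat.objCls a = IsoNat.objCls b) : Nonempty (a ≅ b) := by
  obtain ⟨i⟩ : Nonempty ((FibCat.evalAtId 𝒵 U).obj a ≅ (FibCat.evalAtId 𝒵 U).obj b) := Quotient.exact e
  have := evalAtId_isEquivalence (U := U) h
  exact ⟨(FibCat.evalAtId 𝒵 U).preimageIso i⟩

theorem locQ_of_sq' {𝒳' 𝒴' : AlgSt.Cat S} (h𝒳 : AlgSt.IsAlgStack Scheme.fppfPrecoverage 𝒳)
    (h𝒴 : AlgSt.IsAlgStack Scheme.fppfPrecoverage 𝒴)
    (h𝒳' : AlgSt.IsAlgStack Scheme.fppfPrecoverage 𝒳')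
    (h𝒳'i : AlgSt.RepByAlgSpWith (LocP @LocallyOfFinitePresentation) (FibCat.inertiaToBase (FibCat.toSelf 𝒳')))
    (h𝒴' : AlgSt.IsAlgStack Scheme.fppfPrecoverage 𝒴')
    (h𝒴'i : AlgSt.RepByAlgSpWith (LocP @LocallyOfFinitePresentation) (FibCat.inertiaToBase (FibCat.toSelf 𝒴')))
    {f : 𝒳 ⥤ᵇ 𝒴} {f' : 𝒳' ⥤ᵇ 𝒴'} (φ : IsoNat.FIsoSq f f') {P : MorphismProperty (Sp S)}
    (hf : AlgSt.LocQ P f) : AlgSt.LocQ P f' := by
  obtain ⟨U, V, x, y, k, α, hx, hxs, hy, hk⟩ := hf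
  obtain ⟨x', hx'⟩ := exists_twin_right h𝒳'.isStack.1 φ.src x
  obtain ⟨y', hy'⟩ := exists_twin_right h𝒴'.isStack.1 φ.tgt y
  have e : IsoNat.objCls (BasedFunctor.comp x' f') = IsoNat.objCls (BasedFunctor.comp (AlgSt.overMap k) y') := by
    have h₁ := twin_comp φ hx'
    have h₂ : IsoNat.objCls (BasedFunctor.comp x f) = IsoNat.objCls (BasedFunctor.comp (AlgSt.overMap k) y) :=
      Quotient.sound ⟨(FibCat.evalAtId 𝒴 U).mapIso α⟩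
    exact h₁.symm.trans ((congrArg (φ.tgt.toEquiv U) h₂).trans (hy'.cls_at h𝒴'.isStack.1 (𝟙 U ≫ k)))
  obtain ⟨α'⟩ := twin_of_iso h𝒴'.isStack.1 e
  exact ⟨U, V, x', y', k, α', (repWith_smooth_of_twin h𝒳.isStack.1 h𝒳' h𝒳'i hx' hx).2,
    repWith_surjective_of_twin h𝒳.isStack.1 h𝒳' hx' hxs, (repWith_smooth_of_twin h𝒴.isStack.1 h𝒴' h𝒴'i hy' hy).2, hk⟩

end Groth.Agent.IsoTrans
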