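import Groth.Agent.IsoTrans.Lifting
import Groth.Agent.IsoTrans.Rigid

/-!
Two infinitesimally close points with the same first projection have the same second projection, read on
isomorphism classes.
-/

set_option autoImplicit false
set_option linter.style.haveILetI false
set_option backward.isDefEq.respectTransparency false
set_option backward.isDefEq.respectTransparency.types false

universe u

open CategoryTheory CategoryTheory.Limits CategoryTheory.Functor AlgebraicGeometry Opposite AlgSp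

namespace Groth.Agent.IsoTrans

open Groth.Agent Groth.Agent.FibBasics Groth.Agent.AlgSpLib

variable {S : Scheme.{u}} {𝒳 𝒴 : AlgSt.Cat S} {U V : Over S}
variable {v : FibCat.overCat V ⥤ᵇ 𝒴} {y : FibCat.overCat U ⥤ᵇ 𝒴} {w : FibCat.overCat V ⥤ᵇ 𝒳}
  {x : FibCat.overCat U ⥤ᵇ 𝒳} {h𝒳 : FibCat.IsFibGrpd 𝒳.p} {h𝒴 : FibCat.IsFibGrpd 𝒴.p}

/-- Rigidity of points of a fibre product of slices. -/
theorem pt_eq_of_unramified {G : Sp S} (hG : IsAlgSpace G) {ρ₁ : G ⟶ (yon S).obj V} {ρ₂ : G ⟶ (yon S).obj U}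
    (R : FRep h𝒳 w x G ρ₁ ρ₂) (hρ : LocP @FormallyUnramified ρ₁)
    {C C₀ : Type u} [CommRing C] [CommRing C₀] {φ : C →+* C₀}
    (hφ : Function.Surjective φ) (hsq : RingHom.ker φ ^ 2 = ⊥) {str : Spec (CommRingCat.of C) ⟶ S}
    {str₀ : Spec (CommRingCat.of C₀) ⟶ S} (j : affObj str₀ ⟶ affObj str)
    (hj : j.left = Spec.map (CommRingCat.ofHom φ)) {P P' : Pt w x (affObj str)}
    (h₀ : P.res h𝒳 j = P'.res h𝒳 j) (h₁ : P.fst = P'.fst) : P = P' := by
  obtain ⟨σ, hσ, hσ₁, -⟩ := R.exists_point P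
  obtain ⟨σ', hσ', hσ₁', -⟩ := R.exists_point P'
  have e : σ = σ' := eq_of_unramified hG hρ hφ hsq j hj ((R.rep.bij _).1 (by
    rw [R.rep.natural, R.rep.natural, hσ, hσ', h₀])) (by rw [hσ₁, hσ₁', h₁])
  rw [← hσ, ← hσ', e]

/-- Equality of second projections. -/
theorem snd_eq_of_corr (hc : Corr v y w x) {F : Sp S} (hF : IsAlgSpace F) {π₁ : F ⟶ (yon S).obj V}
    {π₂ : F ⟶ (yon S).obj U} (R : FRep h𝒴 v y F π₁ π₂) {G : Sp S} (hG : IsAlgSpace G)
    {ρ₁ : G ⟶ (yon S).obj V} {ρ₂ : G ⟶ (yon S).obj U} (R' : FRep h𝒳 w x G ρ₁ ρ₂)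
    (hρ : LocP @FormallyUnramified ρ₁) {C C₀ : Type u} [CommRing C] [CommRing C₀] {φ : C →+* C₀}
    (hφ : Function.Surjective φ) (hsq : RingHom.ker φ ^ 2 = ⊥) (hC : ProEtW.HasEtaleRetractions C₀)
    {str : Spec (CommRingCat.of C) ⟶ S} {str₀ : Spec (CommRingCat.of C₀) ⟶ S}
    (j : affObj str₀ ⟶ affObj str) (hj : j.left = Spec.map (CommRingCat.ofHom φ)) {P P' : Pt v y (affObj str)}
    (h₀ : P.res h𝒴 j = P'.res h𝒴 j) (h₁ : P.fst = P'.fst) : P.snd = P'.snd := by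
  obtain ⟨W, a, ha, has⟩ := hF.atlas
  let Q : ULift.{u} Bool → Pt v y (affObj str) := fun q => cond q.down P P'
  have hQj : ∀ q, (Q q).res h𝒴 j = P.res h𝒴 j := fun ⟨q⟩ => by cases q <;> [exact h₀.symm; rfl]
  have hQf : ∀ q, (Q q).fst = P.fst := fun ⟨q⟩ => by cases q <;> [exact h₁.symm; rfl]
  obtain ⟨τ₀, hτ₀, -⟩ := R.exists_point (P.res h𝒴 j)
  obtain ⟨q₀, hq₀⟩ := exists_lift_atlas hC ha has τ₀
  choose τ hτ hτ₁ hτ₂ using fun q => R.exists_point (Q q)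
  choose l hl hu using fun q => existsUnique_lift_chart hφ hsq j hj ha (τ q) q₀ ((R.rep.bij _).1 (by
    rw [R.rep.natural, hτ, hQj, hq₀, hτ₀]))
  obtain ⟨L, hL⟩ := exists_multi_glue φ (ULift.{u} Bool) hC hφ hsq (fun q => (l q).left) q₀.left (fun q => by
    rw [← hj]; exact congrArg CommaMorphism.left (hl q).1)
  let str₁ : Spec (CommRingCat.of (multi φ (ULift.{u} Bool))) ⟶ S := L ≫ W.hom
  let L' : affObj str₁ ⟶ W := Over.homMk L rfl
  let ε : ULift.{u} Bool → (affObj str ⟶ affObj str₁) := fun q =>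
    Over.homMk (Spec.map (CommRingCat.ofHom (multiEv φ _ q))) (by
      show Spec.map _ ≫ L ≫ W.hom = str
      rw [← Category.assoc, hL]; exact Over.w (l q))
  have hεL : ∀ q, ε q ≫ L' = l q := fun q => Over.OverMorphism.ext (hL q)
  let θ : Pt v y (affObj str₁) := R.rep.pm ((yon S).map L' ≫ a)
  have hθ : ∀ q, θ.res h𝒴 (ε q) = Q q := fun q => by
    rw [← R.rep.natural, ← Functor.map_comp_assoc, hεL, (hl q).2, hτ]
  have hθf : ∀ q, ε q ≫ θ.fst = P.fst := fun q => by rw [← Pt.res_fst h𝒴, hθ, hQf]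
  have hθs : ∀ q, ε q ≫ θ.snd = (Q q).snd := fun q => by rw [← Pt.res_snd h𝒴, hθ]
  obtain ⟨β⟩ := (hc θ.fst θ.snd).1 ⟨θ.iso⟩
  let γ : Pt w x (affObj str₁) := ⟨θ.fst, θ.snd, β⟩
  have hjε : ∀ q q', j ≫ ε q = j ≫ ε q' := fun q q' => Over.OverMorphism.ext (by
    show j.left ≫ Spec.map _ = j.left ≫ Spec.map _
    rw [hj, ← Spec.map_comp, ← Spec.map_comp]
    exact congrArg (fun r => Spec.map (CommRingCat.ofHom r)) (multiRed_eq φ _ q q'))
  have key : γ.res h𝒳 (ε ⟨true⟩) = γ.res h𝒳 (ε ⟨false⟩) := pt_eq_of_unramified hG R' hρ hφ hsq j hj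
    (by rw [Pt.res_res, Pt.res_res, hjε]) (by simp only [Pt.res_fst]; exact (hθf _).trans (hθf _).symm)
  have h := congrArg Pt.snd key
  simp only [Pt.res_snd] at h
  exact (hθs ⟨true⟩).symm.trans (h.trans (hθs ⟨false⟩))

end Groth.Agent.IsoTrans
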