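import Groth.Agent.IsoTrans.PtOps
import Groth.Agent.AlgStLib.Clean

/-!
Objects over a scheme glued from one object by a cocycle of automorphisms.
-/

set_option autoImplicit false
set_option linter.style.haveILetI false
set_option backward.isDefEq.respectTransparency false
set_option backward.isDefEq.respectTransparency.types false

universe u

open CategoryTheory CategoryTheory.Limits CategoryTheory.Functor AlgebraicGeometry Opposite AlgSp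

namespace Groth.Agent.IsoTrans

open Groth.Agent Groth.Agent.FibBasics Groth.Agent.AlgSpLib

variable {S : Scheme.{u}} {𝒴 : AlgSt.Cat S} {U V : Over S}

theorem Pt.mk_iso_inj {v : FibCat.overCat V ⥤ᵇ 𝒴} {y : FibCat.overCat U ⥤ᵇ 𝒴} {T : Over S} {a : T ⟶ V}
    {b : T ⟶ U} {α β : at' v a ≅ at' y b} (h : (⟨a, b, α⟩ : Pt v y T) = ⟨a, b, β⟩) : α = β := by
  injection h

theorem fiber_comp_val {T : Over S} {A B C : 𝒴.p.Fiber T} (f : A ⟶ B) (k : B ⟶ C) : (f ≫ k).1 = f.1 ≫ k.1 := rfl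

theorem Pt.trans_congr' {W : Over S} {v : FibCat.overCat V ⥤ᵇ 𝒴} {y : FibCat.overCat U ⥤ᵇ 𝒴}
    {z : FibCat.overCat W ⥤ᵇ 𝒴} {T : Over S} (P : Pt v y T) {Q Q' : Pt y z T}
    (e : Q = Q') (h : P.snd = Q.fst) (h' : P.snd = Q'.fst) : P.trans Q h = P.trans Q' h' := by
  subst e; rfl

theorem Pt.trans_assoc {W Z : Over S} {v : FibCat.overCat V ⥤ᵇ 𝒴} {y : FibCat.overCat U ⥤ᵇ 𝒴}
    {z : FibCat.overCat W ⥤ᵇ 𝒴} {z' : FibCat.overCat Z ⥤ᵇ 𝒴} {T : Over S} (A : Pt v y T) (B : Pt y z T)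
    (C : Pt z z' T) (h : A.snd = B.fst) (h' : (A.trans B h).snd = C.fst) :
    (A.trans B h).trans C h' = A.trans (B.trans C h') h := by
  obtain ⟨a, a', α⟩ := A
  obtain ⟨b, b', β⟩ := B
  obtain ⟨d, d', γ⟩ := C
  change b' = d at h'
  dsimp only at h
  subst h h'
  exact congrArg (Pt.mk a d') (by simp [Pt.trans])

/-- Twisting an object by a cocycle. -/
theorem exists_twist (hst : Stk.IsStack (QuotSh.J Scheme.fppfPrecoverage S) 𝒴) {P : Over S} {I : Type u}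
    {Q : I → Over S} (c : ∀ i, Q i ⟶ P) (hc : ∀ i, IsOpenImmersion (c i).left)
    (hcov : ∀ z : ↥P.left, ∃ i, z ∈ Set.range (c i).left) (y : FibCat.overCat U ⥤ᵇ 𝒴) (b₀ : P ⟶ U)
    (K : ∀ {T : Over S} (t : T ⟶ P) (i j : I), (∃ u, u ≫ c i = t) → (∃ u, u ≫ c j = t) →
      (at' y (t ≫ b₀) ≅ at' y (t ≫ b₀)))
    (hK₁ : ∀ {T : Over S} (t : T ⟶ P) (i : I) (hi : ∃ u, u ≫ c i = t),
      (⟨_, _, K t i i hi hi⟩ : Pt y y T) = Pt.refl y (t ≫ b₀))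
    (hK₂ : ∀ {T : Over S} (t : T ⟶ P) (i j l : I) (hi : ∃ u, u ≫ c i = t) (hj : ∃ u, u ≫ c j = t)
      (hl : ∃ u, u ≫ c l = t),
      Pt.trans (⟨_, _, K t i j hi hj⟩ : Pt y y T) ⟨_, _, K t j l hj hl⟩ rfl = ⟨_, _, K t i l hi hl⟩)
    (hKn : ∀ {T' T : Over S} (f : T' ⟶ T) (t : T ⟶ P) (t' : T' ⟶ P) (_ : f ≫ t = t') (i j : I)
      (hi : ∃ u, u ≫ c i = t) (hj : ∃ u, u ≫ c j = t) (hi' : ∃ u, u ≫ c i = t') (hj' : ∃ u, u ≫ c j = t'),
      (⟨_, _, K t i j hi hj⟩ : Pt y y T).res hst.1 f = ⟨_, _, K t' i j hi' hj'⟩) :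
    ∃ (H : FibCat.overCat P ⥤ᵇ 𝒴) (e : ∀ i, Pt H y (Q i)) (hfst : ∀ i, (e i).fst = c i)
      (hsnd : ∀ i, (e i).snd = c i ≫ b₀),
      ∀ {T : Over S} (i j : I) (u : T ⟶ Q i) (v : T ⟶ Q j) (t : T ⟶ P) (hu : u ≫ c i = t) (hv : v ≫ c j = t),
        ((e i).res hst.1 u).trans ⟨_, _, K t i j ⟨u, hu⟩ ⟨v, hv⟩⟩
          (by rw [Pt.res_snd, hsnd, ← Category.assoc, hu]) = (e j).res hst.1 v := by
  have hp := hst.1
  let R := Sieve.ofArrows Q c
  have hR : R ∈ (QuotSh.J Scheme.fppfPrecoverage S) P := AlgStLib.ofArrows_mem_of_openCover c hc hcov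
  have hRb : ∀ g : (Stk.sieveCat R).obj, ∃ i, ∃ u, u ≫ c i = g.1.hom := fun g => by
    obtain ⟨i, t, ht⟩ := (Sieve.mem_ofArrows_iff _ _ _).1 g.2
    exact ⟨i, t, ht.symm⟩
  choose b hb using hRb
  have hbk : ∀ {g g' : (Stk.sieveCat R).obj} (_ : g ⟶ g'), ∃ u, u ≫ c (b g') = g.1.hom := fun {g g'} k => by
    obtain ⟨u, hu⟩ := hb g'
    exact ⟨k.hom.left ≫ u, by rw [Category.assoc, hu]; exact Over.w k.hom⟩
  have hkw : ∀ {g g' : (Stk.sieveCat R).obj} (k : g ⟶ g'), k.hom.left ≫ g'.1.hom ≫ b₀ = g.1.hom ≫ b₀ :=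
    fun k => by rw [← Category.assoc]; exact congrArg (· ≫ b₀) (Over.w k.hom)
  let mor : ∀ {g g' : (Stk.sieveCat R).obj}, (g ⟶ g') →
      ((at' y (g.1.hom ≫ b₀)).1 ⟶ (at' y (g'.1.hom ≫ b₀)).1) := fun {g g'} k =>
    (K g.1.hom (b g) (b g') (hb g) (hbk k)).hom.1 ≫ rm y k.hom.left (hkw k)
  have hmor : ∀ {g g' : (Stk.sieveCat R).obj} (k : g ⟶ g'),
      𝒴.p.IsHomLift ((Stk.sieveCat R).p.map k) (mor k) := fun {g g'} k => by
    have : 𝒴.p.IsHomLift (𝟙 g.1.left) (K g.1.hom (b g) (b g') (hb g) (hbk k)).hom.1 :=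
      (K g.1.hom (b g) (b g') (hb g) (hbk k)).hom.2
    have : 𝒴.p.IsHomLift k.hom.left (rm y k.hom.left (hkw k)) := rm_lift y _ _
    have h := (inferInstance : 𝒴.p.IsHomLift (𝟙 g.1.left ≫ k.hom.left)
      ((K g.1.hom (b g) (b g') (hb g) (hbk k)).hom.1 ≫ rm y k.hom.left (hkw k)))
    rw [Category.id_comp] at h
    exact h
  let F₀ : (Stk.sieveCat R).obj ⥤ 𝒴.obj :=
    { obj := fun g => (at' y (g.1.hom ≫ b₀)).1
      map := fun k => mor k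
      map_id := fun g => by
        have h1 := Pt.mk_iso_inj (hK₁ g.1.hom (b g) (hb g))
        show (K g.1.hom (b g) (b g) (hb g) _).hom.1 ≫ rm y (𝟙 g.1.left) _ = 𝟙 _
        rw [rm_id]
        exact (Category.comp_id _).trans (congrArg (fun a => a.hom.1) h1)
      map_comp := fun {g g' g''} k k' => by
        show (K g.1.hom (b g) (b g'') (hb g) (hbk (k ≫ k'))).hom.1 ≫ rm y (k.hom.left ≫ k'.hom.left) _ =
          ((K g.1.hom (b g) (b g') (hb g) (hbk k)).hom.1 ≫ rm y k.hom.left (hkw k)) ≫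
            (K g'.1.hom (b g') (b g'') (hb g') (hbk k')).hom.1 ≫ rm y k'.hom.left (hkw k')
        have h2 := Pt.mk_iso_inj (hK₂ g.1.hom (b g) (b g') (b g'') (hb g) (hbk k) (hbk (k ≫ k')))
        have hn := hKn k.hom.left g'.1.hom g.1.hom (Over.w k.hom) (b g') (b g'') (hb g') (hbk k') (hbk k)
          (hbk (k ≫ k'))
        obtain ⟨hs₁, hs₂, e⟩ := Pt.res_sq hp k.hom.left
          (⟨_, _, K g'.1.hom (b g') (b g'') (hb g') (hbk k')⟩ : Pt y y g'.1.left)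
        revert hs₁ hs₂ e
        rw [hn]
        intro hs₁ hs₂ e
        rw [← h2, ← rm_comp y k.hom.left k'.hom.left (hkw k) (hkw k')]
        simp only [Category.assoc]
        rw [← reassoc_of% e]
        simp [fiber_comp_val] }
  let F : Stk.sieveCat R ⥤ᵇ 𝒴 :=
    { toFunctor := F₀
      w := CategoryTheory.Functor.ext (fun g => y.w_obj _) fun g g' k =>
        @IsHomLift.fac' _ _ _ _ 𝒴.p _ _ _ _ ((Stk.sieveCat R).p.map k) (mor k) (hmor k) }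
  have : (Stk.resSieve R 𝒴).IsEquivalence := hst.2 R hR
  obtain ⟨H, ⟨η⟩⟩ := Functor.EssSurj.mem_essImage (F := Stk.resSieve R 𝒴) F
  let E : ∀ g : (Stk.sieveCat R).obj, Pt H y g.1.left := fun g =>
    ⟨g.1.hom, g.1.hom ≫ b₀, fibIso hp (η.hom.toNatTrans.app g) (η.hom.isHomLift' g)⟩
  have hE : ∀ {g g' : (Stk.sieveCat R).obj} (k : g ⟶ g'),
      (E g').res hp k.hom.left = (E g).trans ⟨_, _, K g.1.hom (b g) (b g') (hb g) (hbk k)⟩ rfl := fun {g g'} k => by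
    refine Pt.res_eq hp ⟨Over.w k.hom, hkw k, ?_⟩
    have hn : H.map k.hom ≫ η.hom.toNatTrans.app g' = η.hom.toNatTrans.app g ≫ mor k :=
      η.hom.toNatTrans.naturality k
    show ((E g).iso ≪≫ Iso.refl _ ≪≫ K g.1.hom (b g) (b g') (hb g) (hbk k)).hom.1 ≫ rm y k.hom.left (hkw k) = _
    exact ((by simp [E, fibIso, mor, fiber_comp_val] : _ = η.hom.toNatTrans.app g ≫ mor k).trans hn.symm)
  let gi : ∀ i, (Stk.sieveCat R).obj := fun i =>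
    ⟨Over.mk (c i), (Sieve.mem_ofArrows_iff _ _ _).2 ⟨i, 𝟙 _, (Category.id_comp _).symm⟩⟩
  let e : ∀ i, Pt H y (Q i) := fun i =>
    (E (gi i)).trans ⟨_, _, K (c i) (b (gi i)) i (hb (gi i)) ⟨𝟙 _, Category.id_comp _⟩⟩ rfl
  refine ⟨H, e, fun i => rfl, fun i => rfl, fun {T} i j u v t hu hv => ?_⟩
  let g : (Stk.sieveCat R).obj := ⟨Over.mk t, (Sieve.mem_ofArrows_iff _ _ _).2 ⟨i, u, hu.symm⟩⟩
  let ku : g ⟶ gi i := ObjectProperty.homMk (Over.homMk u hu)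
  let kv : g ⟶ gi j := ObjectProperty.homMk (Over.homMk v hv)
  have hres : ∀ (i : I) (u : T ⟶ Q i) (hu : u ≫ c i = t) (k : g ⟶ gi i), k.hom.left = u →
      (e i).res hp u = (E g).trans ⟨_, _, K t (b g) i (hb g) ⟨u, hu⟩⟩ rfl := fun i u hu k hk => by
    subst hk
    have hn := hKn k.hom.left (c i) t hu (b (gi i)) i (hb (gi i)) ⟨𝟙 _, Category.id_comp _⟩ (hbk k) ⟨_, hu⟩
    simp only [e, Pt.res_trans, hE k, hn]
    exact (Pt.trans_assoc _ _ _ _ _).trans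
      (Pt.trans_congr' _ (hK₂ t (b g) (b (gi i)) i (hb g) (hbk k) ⟨_, hu⟩) _ _)
  simp only [hres i u hu ku rfl, hres j v hv kv rfl]
  exact (Pt.trans_assoc _ _ _ _ _).trans (Pt.trans_congr' _ (hK₂ t (b g) i j (hb g) ⟨u, hu⟩ ⟨v, hv⟩) _ _)

end Groth.Agent.IsoTrans
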