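import Groth.Agent.IsoTrans.Plane
import Groth.Agent.IsoTrans.Stmts

/-!
Unramifiedness and etaleness transfer along isomorphisms of presheaves of isomorphism classes.
-/

set_option autoImplicit false
set_option linter.style.haveILetI false
set_option backward.isDefEq.respectTransparency false
set_option backward.isDefEq.respectTransparency.types false

universe u

open CategoryTheory CategoryTheory.Limits CategoryTheory.Functor AlgebraicGeometry Opposite AlgSp

namespace Groth.Agent.IsoTrans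

open Groth.Agent Groth.Agent.FibBasics Groth.Agent.AlgSpLib Groth.Agent.AlgStLib

variable {S : Scheme.{u}} {𝒳 𝒴 : AlgSt.Cat S} {U : Over S} {φ : IsoNat.FIso 𝒳 𝒴}

theorem exists_idTst (k : Type u) [CommRing k] (strk : Spec (CommRingCat.of k) ⟶ S) :
    ∃ i : affObj strk ⟶ tst strk (RingHom.id k), cst strk (RingHom.id k) ≫ i = 𝟙 _ := by
  have e : Spec.map (CommRingCat.ofHom (RingHom.id k)) = 𝟙 (Spec (CommRingCat.of k)) := Spec.map_id _
  have e' : tst strk (RingHom.id k) = affObj strk := by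
    simp only [tst, e, Category.id_comp]
  refine ⟨eqToHom e'.symm, ?_⟩
  rw [← cancel_mono (eqToHom e'), Category.assoc, eqToHom_trans, eqToHom_refl, Category.comp_id, Category.id_comp]
  exact Over.OverMorphism.ext (by rw [Over.eqToHom_left]; exact e.trans (eqToHom_refl _ _).symm)

/-- Formal unramifiedness transfers to the twin. -/
theorem repWith_unramified_of_twin (h𝒳 : FibCat.IsFibGrpd 𝒳.p) (h𝒴 : AlgSt.IsAlgStack Scheme.fppfPrecoverage 𝒴)
    {x : FibCat.overCat U ⥤ᵇ 𝒳} {y : FibCat.overCat U ⥤ᵇ 𝒴} (hxy : Twin φ x y)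
    (hl : AlgSt.RepByAlgSpWith (LocP @LocallyOfFinitePresentation) y)
    (hx : AlgSt.RepByAlgSpWith (LocP @FormallyUnramified) x) :
    AlgSt.RepByAlgSpWith (LocP (@LocallyOfFiniteType ⊓ @FormallyUnramified)) y := by
  intro V v
  have hp := h𝒴.isStack.1
  obtain ⟨F, e, he, hπ⟩ := hl V v
  refine ⟨F, e, he, fun {W V'} a b m ha hb hw => ?_⟩
  have : LocallyOfFinitePresentation m.left := hπ a b m ha hb hw
  refine ⟨inferInstanceAs (LocallyOfFiniteType m.left), ?_⟩
  obtain ⟨bv, hbv⟩ := (yon S).map_surjective b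
  have : Etale bv.left := (repWith_yon_map_iff @Etale bv).1 (hbv ▸ hb)
  suffices FormallyUnramified (m ≫ bv).left by
    rw [Over.comp_left] at this
    exact FormallyUnramified.of_comp m.left bv.left
  have hk : (yon S).map (m ≫ bv) = a ≫ AlgSt.spMapOfOver (BasedFunctor.comp e (FibCat.fpFst v y)) := by
    rw [Functor.map_comp, hbv, hw]
  generalize hkk : m ≫ bv = kv at hk ⊢
  have : LocallyOfFiniteType kv.left := by
    rw [← hkk, Over.comp_left]
    infer_instance
  obtain ⟨R⟩ := exists_frep hp he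
  obtain ⟨w, hwv⟩ := exists_twin_left h𝒳 φ v
  obtain ⟨G, eG, heG, hρ⟩ := hx V w
  obtain ⟨R'⟩ := exists_frep h𝒳 heG
  refine formallyUnramified_of_tangents kv.left fun k _ _ l hlv => ?_
  let strk : Spec (CommRingCat.of k) ⟶ S := (Spec.map (CommRingCat.ofHom (dnRed k)) ≫ l) ≫ W.hom
  let l' : dtst k strk (RingHom.id k) ⟶ W := Over.homMk l (by
    show l ≫ W.hom = Spec.map _ ≫ (Spec.map _ ≫ l) ≫ W.hom
    rw [← Over.w kv, ← Category.assoc l]
    conv_lhs => rw [← hlv]
    rw [RingHom.comp_id]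
    simp only [Category.assoc])
  obtain ⟨i₀, hi₀⟩ := exists_idTst k strk
  let jr := rTst k strk (RingHom.id k) ≫ jTst k strk (RingHom.id k)
  have hjjr : jTst k strk (RingHom.id k) ≫ jr = jTst k strk (RingHom.id k) := by
    rw [← Category.assoc, jTst_rTst, Category.id_comp]
  have hl'k : (jr ≫ l') ≫ kv = l' ≫ kv := Over.OverMorphism.ext (by
    show ((Spec.map _ ≫ Spec.map _) ≫ l) ≫ kv.left = l ≫ kv.left
    conv_rhs => rw [← hlv]
    simp only [Category.assoc])
  let σ := (yon S).map l' ≫ a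
  let P := R.rep.pm σ
  let P' := P.res hp jr
  have hfst : P'.fst = P.fst := by
    apply (yon S).map_injective
    rw [Pt.res_fst, Functor.map_comp, R.fst_eq]
    simp only [σ, Category.assoc]
    rw [← hk, ← Functor.map_comp, ← Functor.map_comp, ← Category.assoc, hl'k]
  have hred : P'.res hp (jTst k strk (RingHom.id k)) = P.res hp (jTst k strk (RingHom.id k)) := by
    rw [Pt.res_res, hjjr]
  have hsnd : P'.snd = P.snd :=
    snd_eq_of_corr (hwv.corr hp hxy) F.property R G.property R' hρ (dnRed_surjective k) (tsze_ker_sq k k)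
      (hasEtaleRetractions_algClosed k) (jTst k strk (RingHom.id k)) rfl hred hfst
  let b₀ : affObj strk ⟶ U := i₀ ≫ jTst k strk (RingHom.id k) ≫ P.snd
  have hb₀ : cst strk ((dnInl k).comp (RingHom.id k)) ≫ b₀ = P'.snd := by
    rw [Pt.res_snd]
    simp only [b₀, jr, Category.assoc]
    rw [← tmap_cst strk (dnInl k) rfl, Category.assoc, reassoc_of% hi₀]
  have hb₀' : cst strk (RingHom.id k) ≫ b₀ = jTst k strk (RingHom.id k) ≫ P.snd := by
    simp only [b₀]
    rw [reassoc_of% hi₀]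
  have key : P'.symm.trans P hfst = Pt.refl y (cst strk _ ≫ b₀) := by
    refine pt_eq_refl_of_twins k strk h𝒳 h𝒴 (fun H => ?_) hx b₀ _ hb₀.symm (hsnd.symm.trans hb₀.symm) ?_
    · obtain ⟨D, hD⟩ := exists_twin_left h𝒳 φ H
      exact ⟨D, hD.corr hp hxy⟩
    · rw [Pt.res_trans, Pt.trans_congr (by rw [Pt.res_symm, hred]) rfl, Pt.symm_trans_self, Pt.res_snd, hb₀']
  have hPP : P = P' := by
    rw [← Pt.trans_cancel P' P hfst rfl]
    exact (Pt.trans_congr' P' key _ hb₀.symm).trans (Pt.trans_refl P' _)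
  have hσ : (yon S).map (jr ≫ l') ≫ a = σ := (R.rep.bij _).1 (by
    rw [Functor.map_comp_assoc, R.rep.natural]
    exact hPP.symm)
  obtain ⟨n, -, hn⟩ := existsUnique_lift_chart (dnRed_surjective k) (tsze_ker_sq k k) (jTst k strk (RingHom.id k))
    rfl ha σ (jTst k strk (RingHom.id k) ≫ l') (by rw [Functor.map_comp_assoc])
  have hl1 : jr ≫ l' = l' :=
    (hn _ ⟨(Category.assoc _ _ _).symm.trans (congrArg (· ≫ l') hjjr), hσ⟩).trans (hn l' ⟨rfl, rfl⟩).symm
  have h := congrArg CommaMorphism.left hl1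
  exact (Category.assoc _ _ _).symm.trans h

theorem repWith_fu_of_unramified {x : FibCat.overCat U ⥤ᵇ 𝒳}
    (hx : AlgSt.RepByAlgSpWith (LocP (@LocallyOfFiniteType ⊓ @FormallyUnramified)) x) :
    AlgSt.RepByAlgSpWith (LocP @FormallyUnramified) x :=
  repWith_mono_prop (fun _ _ _ _ _ ha => locP_mono (fun _ _ _ hk => hk.2) ha) hx

theorem repWith_etale_of_twin (h𝒳 : FibCat.IsFibGrpd 𝒳.p) (h𝒴 : AlgSt.IsAlgStack Scheme.fppfPrecoverage 𝒴)
    (hI : AlgSt.RepByAlgSpWith (LocP @LocallyOfFinitePresentation) (FibCat.inertiaToBase (FibCat.toSelf 𝒴)))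
    {x : FibCat.overCat U ⥤ᵇ 𝒳} {y : FibCat.overCat U ⥤ᵇ 𝒴} (hxy : Twin φ x y)
    (hx : AlgSt.RepByAlgSpWith IsEtaleMor x) :
    AlgSt.RepByAlgSpWith (LocP @LocallyOfFinitePresentation) y ∧ AlgSt.RepByAlgSpWith IsEtaleMor y := by
  have he : AlgSt.RepByAlgSpWith (LocP @Etale) x :=
    repWith_mono_prop (fun _ _ _ _ hG ha => (isEtaleMor_iff_locP hG).1 ha) hx
  obtain ⟨hl, hs⟩ := repWith_smooth_of_twin h𝒳 h𝒴 hI hxy
    (repWith_mono_prop (fun _ _ _ _ _ ha => locP_mono (fun _ _ k hk => by have : Etale k := hk; infer_instance) ha) he)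
  refine ⟨hl, fun V v => ?_⟩
  obtain ⟨F, e, heq, hu⟩ := repWith_unramified_of_twin h𝒳 h𝒴 hxy hl
    (repWith_mono_prop (fun _ _ _ _ _ ha => locP_mono (fun _ _ k hk => by have : Etale k := hk; infer_instance) ha) he) V v
  obtain ⟨F', e', heq', hs'⟩ := hs V v
  have hs'' := prop_of_rep_over isLocalOnBase_fppf_locP heq' heq _ hs'
  refine ⟨F, e, heq, (isEtaleMor_iff_locP (IsAlgSpace.yon_obj V)).2 fun {W V'} a b m ha hb hw => ?_⟩
  have : Smooth m.left := hs'' a b m ha hb hw
  have : FormallyUnramified m.left := (hu a b m ha hb hw).2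
  exact Etale.of_formallyUnramified_of_flat m.left

end Groth.Agent.IsoTrans
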