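import Groth.Agent.IsoTrans.Twist
import Groth.Agent.IsoTrans.TangentEq
import Groth.Agent.IsoTrans.InfAut

/-!
A cocycle of infinitesimal automorphisms on a thickened covering by two charts is a coboundary, if the
isomorphism classes are those of a rigid object.
-/

set_option autoImplicit false
set_option linter.style.haveILetI false
set_option backward.isDefEq.respectTransparency false
set_option backward.isDefEq.respectTransparency.types false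

universe u

open CategoryTheory CategoryTheory.Limits CategoryTheory.Functor AlgebraicGeometry Opposite AlgSp

namespace Groth.Agent.IsoTrans

open Groth.Agent Groth.Agent.FibBasics Groth.Agent.AlgSpLib

variable {S : Scheme.{u}} {𝒳 𝒴 : AlgSt.Cat S} {U V : Over S}

section

variable {v : FibCat.overCat V ⥤ᵇ 𝒴} {y : FibCat.overCat U ⥤ᵇ 𝒴}

/-- The isomorphism of a point with known projections. -/
noncomputable def Pt.toIso {T : Over S} (p : Pt v y T) {a : T ⟶ V} {b : T ⟶ U} (ha : p.fst = a) (hb : p.snd = b) :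
    at' v a ≅ at' y b := ha ▸ hb ▸ p.iso

theorem Pt.mk_toIso {T : Over S} (p : Pt v y T) {a : T ⟶ V} {b : T ⟶ U} (ha : p.fst = a) (hb : p.snd = b) :
    (⟨a, b, p.toIso ha hb⟩ : Pt v y T) = p := by subst ha hb; rfl

theorem Pt.symm_fst {T : Over S} (p : Pt v y T) : p.symm.fst = p.snd := rfl

theorem Pt.symm_snd {T : Over S} (p : Pt v y T) : p.symm.snd = p.fst := rfl

theorem Pt.trans_symm_self {T : Over S} (p : Pt v y T) (h : p.snd = p.symm.fst) :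
    p.trans p.symm h = Pt.refl v p.fst :=
  congrArg (Pt.mk p.fst p.fst) (by simp [Pt.symm])

theorem Pt.symm_trans_self {T : Over S} (p : Pt v y T) (h : p.symm.snd = p.fst) :
    p.symm.trans p h = Pt.refl y p.snd :=
  congrArg (Pt.mk p.snd p.snd) (by simp [Pt.symm])

theorem Pt.refl_symm {T : Over S} (b : T ⟶ U) : (Pt.refl y b).symm = Pt.refl y b :=
  congrArg (Pt.mk b b) (by simp [Pt.refl])

theorem Pt.symm_trans {W : Over S} {z : FibCat.overCat W ⥤ᵇ 𝒴} {T : Over S} (p : Pt v y T) (q : Pt y z T)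
    (h : p.snd = q.fst) : (p.trans q h).symm = q.symm.trans p.symm h.symm := by
  obtain ⟨a, b, α⟩ := p
  obtain ⟨b', d, β⟩ := q
  dsimp only at h
  subst h
  exact congrArg (Pt.mk d a) (by simp [Pt.trans, Pt.symm])

theorem Pt.cancel_middle {T : Over S} (κ A B z z' : Pt y y T) (hA : A.snd = z.symm.fst) (hκA : κ.symm.snd = A.fst)
    (hB : B = κ.symm.trans A hκA) (hz : z = z') (hB' : B.snd = z'.symm.fst)
    (h : (A.trans z.symm hA).snd = (B.trans z'.symm hB').symm.fst) :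
    (A.trans z.symm hA).trans (B.trans z'.symm hB').symm h = κ := by
  subst hB hz
  obtain ⟨a, b, α⟩ := κ
  obtain ⟨a', b', β⟩ := A
  obtain ⟨d, e, γ⟩ := z
  change b' = e at hA
  change a = a' at hκA
  subst hA hκA
  exact congrArg (Pt.mk a b) (by simp [Pt.trans, Pt.symm])

theorem Pt.symm_symm {T : Over S} (p : Pt v y T) : p.symm.symm = p := rfl

end

/-- A first-order thickened scheme covered by two charts with a retraction to the reduced one. -/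
structure ThickCover (S : Scheme.{u}) where
  P : Over S
  P₀ : Over S
  j : P₀ ⟶ P
  r : P ⟶ P₀
  Q : ULift.{u} Bool → Over S
  Q₀ : ULift.{u} Bool → Over S
  c : ∀ i, Q i ⟶ P
  c₀ : ∀ i, Q₀ i ⟶ P₀
  open_c : ∀ i, IsOpenImmersion (c i).left
  cover_c : ∀ z : ↥P.left, ∃ i, z ∈ Set.range (c i).left
  open_c₀ : ∀ i, IsOpenImmersion (c₀ i).left
  cover_c₀ : ∀ z : ↥P₀.left, ∃ i, z ∈ Set.range (c₀ i).left
  jQ : ∀ i, Q₀ i ⟶ Q i
  rQ : ∀ i, Q i ⟶ Q₀ i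
  jc : ∀ i, jQ i ≫ c i = c₀ i ≫ j
  rc : ∀ i, rQ i ≫ c₀ i = c i ≫ r
  jr : j ≫ r = 𝟙 P₀
  jrQ : ∀ i, jQ i ≫ rQ i = 𝟙 (Q₀ i)
  O : Over S
  O₀ : Over S
  jO : O₀ ⟶ O
  rO : O ⟶ O₀
  u : ∀ i, O ⟶ Q i
  u₀ : ∀ i, O₀ ⟶ Q₀ i
  uc : u ⟨true⟩ ≫ c ⟨true⟩ = u ⟨false⟩ ≫ c ⟨false⟩
  uj : ∀ i, jO ≫ u i = u₀ i ≫ jQ i
  ur : ∀ i, u i ≫ rQ i = rO ≫ u₀ i
  factor : ∀ {T : Over S} (v : ∀ i, T ⟶ Q i), v ⟨true⟩ ≫ c ⟨true⟩ = v ⟨false⟩ ≫ c ⟨false⟩ →
    ∃ w : T ⟶ O, ∀ i, w ≫ u i = v i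

variable (K : ThickCover S)

/-- The overlap in `P`. -/
noncomputable def ThickCover.cO : K.O ⟶ K.P := K.u ⟨true⟩ ≫ K.c ⟨true⟩

theorem ThickCover.u_c (i : ULift.{u} Bool) : K.u i ≫ K.c i = K.cO := by
  obtain ⟨_ | _⟩ := i
  · exact K.uc.symm
  · rfl

theorem ThickCover.eq_of_factor {T : Over S} {i : ULift.{u} Bool} {w w' : T ⟶ K.O}
    (h : w ≫ K.cO = w' ≫ K.cO) : w ≫ K.u i = w' ≫ K.u i := by
  have := K.open_c i
  refine Over.OverMorphism.ext ((cancel_mono (K.c i).left).1 ?_)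
  rw [← K.u_c i] at h
  have h' := congrArg CommaMorphism.left h
  simp only [Over.comp_left, Category.assoc] at h' ⊢
  exact h'

set_option maxHeartbeats 400000 in
/-- The cocycle is a coboundary. -/
theorem exists_coboundary (h𝒳 : FibCat.IsFibGrpd 𝒳.p) (h𝒴 : AlgSt.IsAlgStack Scheme.fppfPrecoverage 𝒴)
    {y : FibCat.overCat U ⥤ᵇ 𝒴} {x : FibCat.overCat U ⥤ᵇ 𝒳}
    (hc : ∀ H : FibCat.overCat K.P ⥤ᵇ 𝒴, ∃ D : FibCat.overCat K.P ⥤ᵇ 𝒳, Corr H y D x)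
    (hx : AlgSt.RepByAlgSp1 x)
    (hrig : ∀ (D : FibCat.overCat K.P ⥤ᵇ 𝒳) (A B : Pt D x K.O),
      A.fst = B.fst → A.res h𝒳 K.jO = B.res h𝒳 K.jO → A = B)
    (bP : K.P ⟶ U) (hbP : K.r ≫ K.j ≫ bP = bP)
    (hO : ∀ {T : Over S} (w w' : T ⟶ K.O), w ≫ K.cO = w' ≫ K.cO → w = w')
    (κ : Pt y y K.O) (hκ₁ : κ.fst = K.cO ≫ bP) (hκ₂ : κ.snd = K.cO ≫ bP)
    (hκ₀ : κ.res h𝒴.isStack.1 K.jO = Pt.refl y (K.jO ≫ K.cO ≫ bP)) :
    ∃ (ψ : ∀ i, Pt y y (K.Q i)) (_ : ∀ i, (ψ i).fst = K.c i ≫ bP) (h₂ : ∀ i, (ψ i).snd = K.c i ≫ bP),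
      (∀ i, (ψ i).res h𝒴.isStack.1 (K.jQ i) = Pt.refl y (K.jQ i ≫ K.c i ≫ bP)) ∧
      ∃ h, κ = ((ψ ⟨true⟩).res h𝒴.isStack.1 (K.u ⟨true⟩)).trans
        ((ψ ⟨false⟩).res h𝒴.isStack.1 (K.u ⟨false⟩)).symm h := by
  classical
  have hp := h𝒴.isStack.1
  -- the cocycle on arbitrary overlaps
  have hw : ∀ {T : Over S} (t : T ⟶ K.P) (i j : ULift.{u} Bool), (∃ v, v ≫ K.c i = t) → (∃ v, v ≫ K.c j = t) →
      i ≠ j → ∃ w : T ⟶ K.O, w ≫ K.cO = t := fun {T} t i j hi hj hne => by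
    obtain ⟨vi, hvi⟩ := hi
    obtain ⟨vj, hvj⟩ := hj
    obtain ⟨_ | _⟩ := i <;> obtain ⟨_ | _⟩ := j
    · exact absurd rfl hne
    · obtain ⟨w, hw⟩ := K.factor (fun ⟨b⟩ => match b with | true => vj | false => vi) (hvj.trans hvi.symm)
      exact ⟨w, by rw [ThickCover.cO, ← Category.assoc, hw]; exact hvj⟩
    · obtain ⟨w, hw⟩ := K.factor (fun ⟨b⟩ => match b with | true => vi | false => vj) (hvi.trans hvj.symm)
      exact ⟨w, by rw [ThickCover.cO, ← Category.assoc, hw]; exact hvi⟩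
    · exact absurd rfl hne
  choose wf hwf using @hw
  let κs : ULift.{u} Bool → Pt y y K.O := fun i => cond i.down κ κ.symm
  have hκs : ∀ i, (κs i).fst = K.cO ≫ bP ∧ (κs i).snd = K.cO ≫ bP := fun ⟨i⟩ => by
    cases i <;> exact ⟨by first | exact hκ₁ | exact hκ₂, by first | exact hκ₂ | exact hκ₁⟩
  let Kp : ∀ {T : Over S} (t : T ⟶ K.P) (i j : ULift.{u} Bool), (∃ v, v ≫ K.c i = t) → (∃ v, v ≫ K.c j = t) →
      Pt y y T := fun {T} t i j hi hj =>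
    if h : i = j then Pt.refl y (t ≫ bP) else (κs i).res hp (wf t i j hi hj h)
  have hKp : ∀ {T : Over S} (t : T ⟶ K.P) (i j : ULift.{u} Bool) (hi : ∃ v, v ≫ K.c i = t) (hj : ∃ v, v ≫ K.c j = t),
      (Kp t i j hi hj).fst = t ≫ bP ∧ (Kp t i j hi hj).snd = t ≫ bP := fun {T} t i j hi hj => by
    simp only [Kp]
    split_ifs with h
    · exact ⟨rfl, rfl⟩
    · rw [Pt.res_fst, Pt.res_snd, (hκs i).1, (hκs i).2, ← Category.assoc, hwf]
      exact ⟨rfl, rfl⟩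
  let Kt : ∀ {T : Over S} (t : T ⟶ K.P) (i j : ULift.{u} Bool), (∃ v, v ≫ K.c i = t) → (∃ v, v ≫ K.c j = t) →
      (at' y (t ≫ bP) ≅ at' y (t ≫ bP)) := fun t i j hi hj =>
    (Kp t i j hi hj).toIso (hKp t i j hi hj).1 (hKp t i j hi hj).2
  have hKt : ∀ {T : Over S} (t : T ⟶ K.P) (i j : ULift.{u} Bool) (hi : ∃ v, v ≫ K.c i = t) (hj : ∃ v, v ≫ K.c j = t),
      (⟨_, _, Kt t i j hi hj⟩ : Pt y y T) = Kp t i j hi hj := fun t i j hi hj =>
    Pt.mk_toIso _ (hKp t i j hi hj).1 (hKp t i j hi hj).2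
  obtain ⟨H, e, he₁, he₂, hecoc⟩ := exists_twist h𝒴.isStack K.c K.open_c K.cover_c y bP Kt
    (fun t i hi => by rw [hKt]; simp [Kp])
    (fun {T} t i j l hi hj hl => by
      rw [hKt t i l hi hl]
      refine (Pt.trans_congr (hKt t i j hi hj) (hKt t j l hj hl) rfl).trans ?_
      by_cases hij : i = j
      · subst hij
        simp only [Kp, dif_pos]
        exact Pt.refl_trans _ _
      by_cases hjl : j = l
      · subst hjl
        simp only [Kp, dif_pos, dif_neg hij]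
        exact Pt.trans_refl _ _
      have hil : i = l := by
        obtain ⟨_ | _⟩ := i <;> obtain ⟨_ | _⟩ := j <;> obtain ⟨_ | _⟩ := l <;> simp_all
      subst hil
      have hs : κs j = (κs i).symm := by
        obtain ⟨_ | _⟩ := i <;> obtain ⟨_ | _⟩ := j <;> first | exact absurd rfl hij | rfl
      have hww : wf t j i hj hi hjl = wf t i j hi hj hij := hO _ _ (by rw [hwf, hwf])
      simp only [Kp, dif_pos, dif_neg hij, dif_neg hjl, hww, hs, Pt.res_symm]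
      rw [Pt.trans_symm_self, Pt.res_fst, (hκs i).1, ← Category.assoc, hwf])
    (fun {T' T} f t t' ht i j hi hj hi' hj' => by
      rw [hKt, hKt]
      simp only [Kp]
      split_ifs with h
      · rw [Pt.res_refl, ← Category.assoc, ht]
      · rw [Pt.res_res]
        congr 1
        exact hO _ _ (by rw [Category.assoc, hwf, hwf, ht]))
  have hOc : ∀ i : ULift.{u} Bool, ∃ v, v ≫ K.c i = K.cO := fun i => ⟨K.u i, K.u_c i⟩
  have hKO : Kp K.cO ⟨true⟩ ⟨false⟩ (hOc _) (hOc _) = κ := by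
    simp only [Kp, dif_neg (show (⟨true⟩ : ULift.{u} Bool) ≠ ⟨false⟩ by simp)]
    rw [show wf K.cO _ _ (hOc ⟨true⟩) (hOc ⟨false⟩) _ = 𝟙 _ from hO _ _ (by rw [hwf, Category.id_comp]), Pt.res_id]
    rfl
  have hsndu : ((e ⟨true⟩).res hp (K.u ⟨true⟩)).snd = κ.fst := by
    rw [Pt.res_snd, he₂, ← Category.assoc, K.u_c, hκ₁]
  have hrel : ((e ⟨true⟩).res hp (K.u ⟨true⟩)).trans κ hsndu = (e ⟨false⟩).res hp (K.u ⟨false⟩) :=
    (Pt.trans_congr' _ ((hKt K.cO ⟨true⟩ ⟨false⟩ _ _).trans hKO) _ _).symm.trans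
      (hecoc ⟨true⟩ ⟨false⟩ _ _ K.cO (K.u_c _) (K.u_c _))
  have heO : ((e ⟨true⟩).res hp (K.u ⟨true⟩)).res hp K.jO = ((e ⟨false⟩).res hp (K.u ⟨false⟩)).res hp K.jO := by
    have h := congrArg (fun q => q.res hp K.jO) hrel
    simp only [Pt.res_trans] at h
    rw [← h]
    refine (Pt.trans_refl _ ?_).symm.trans (Pt.trans_congr' _ hκ₀.symm _ _)
    rw [Pt.res_snd, Pt.res_snd, he₂, ← Category.assoc (K.u ⟨true⟩), K.u_c]
  -- gluing of the reductions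
  obtain ⟨F, eF, heF⟩ := AlgStLib.rep_slices_of_diag hp h𝒴.diag U y K.P H
  obtain ⟨RF⟩ := exists_frep hp heF
  choose σ hσ hσ₁ hσ₂ using fun i => RF.exists_point ((e i).res hp (K.jQ i))
  have agree : ∀ {T : Over S} (v : ∀ i, T ⟶ K.Q₀ i), v ⟨true⟩ ≫ K.c₀ ⟨true⟩ = v ⟨false⟩ ≫ K.c₀ ⟨false⟩ →
      (yon S).map (v ⟨true⟩) ≫ σ ⟨true⟩ = (yon S).map (v ⟨false⟩) ≫ σ ⟨false⟩ := fun {T} v hv => by
    obtain ⟨w, hw'⟩ := K.factor (fun i => v i ≫ K.jQ i)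
      (by rw [Category.assoc, Category.assoc, K.jc, K.jc, ← Category.assoc, hv, Category.assoc])
    have hv' : ∀ i, v i ≫ K.jQ i = (w ≫ K.rO) ≫ K.jO ≫ K.u i := fun i => by
      rw [K.uj, Category.assoc, ← Category.assoc K.rO, ← K.ur, ← Category.assoc, ← Category.assoc, hw',
        Category.assoc (v i), K.jrQ, Category.comp_id]
    apply (RF.rep.bij T).1
    rw [RF.rep.natural, RF.rep.natural, hσ, hσ, Pt.res_res, Pt.res_res, hv', hv',
      ← Pt.res_res hp (w ≫ K.rO), ← Pt.res_res hp (w ≫ K.rO), ← Pt.res_res hp K.jO, ← Pt.res_res hp K.jO, heO]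
  obtain ⟨σ₀, hσ₀⟩ := exists_glue_openCover K.c₀ K.open_c₀ K.cover_c₀ σ fun i j T u v huv => by
    obtain ⟨_ | _⟩ := i <;> obtain ⟨_ | _⟩ := j
    · have := K.open_c₀ ⟨false⟩
      rw [Over.OverMorphism.ext ((cancel_mono (K.c₀ ⟨false⟩).left).1 (congrArg CommaMorphism.left huv))]
    · exact (agree (fun ⟨b⟩ => match b with | true => v | false => u) huv.symm).symm
    · exact agree (fun ⟨b⟩ => match b with | true => u | false => v) huv
    · have := K.open_c₀ ⟨true⟩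
      rw [Over.OverMorphism.ext ((cancel_mono (K.c₀ ⟨true⟩).left).1 (congrArg CommaMorphism.left huv))]
  let η₀ := RF.rep.pm σ₀
  have hη₀ : ∀ i, η₀.res hp (K.c₀ i) = (e i).res hp (K.jQ i) := fun i => by rw [← RF.rep.natural, hσ₀, hσ]
  have hη₀f : η₀.fst = K.j := by
    apply (yon S).map_injective
    rw [RF.fst_eq]
    refine hom_ext_openCover K.c₀ K.open_c₀ K.cover_c₀ fun i => ?_
    rw [← Category.assoc, hσ₀, hσ₁, Pt.res_fst, he₁, K.jc, Functor.map_comp]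
  have hη₀s : η₀.snd = K.j ≫ bP := by
    apply (yon S).map_injective
    rw [RF.snd_eq]
    refine hom_ext_openCover K.c₀ K.open_c₀ K.cover_c₀ fun i => ?_
    rw [← Category.assoc, hσ₀, hσ₂, Pt.res_snd, he₂, ← Category.assoc, K.jc, Category.assoc, Functor.map_comp]
  -- transport and rigidity
  obtain ⟨D, hD⟩ := hc H
  obtain ⟨β₀⟩ := (hD η₀.fst η₀.snd).1 ⟨η₀.iso⟩
  let τ₀ : Pt D x K.P₀ := ⟨η₀.fst, η₀.snd, β₀⟩
  have hβ := fun i => (hD (e i).fst (e i).snd).1 ⟨(e i).iso⟩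
  let β := fun i => (hβ i).some
  let τ : ∀ i, Pt D x (K.Q i) := fun i => ⟨(e i).fst, (e i).snd, β i⟩
  have hτ₀f : ∀ i, (τ₀.res h𝒳 (K.c₀ i)).fst = ((τ i).res h𝒳 (K.jQ i)).fst := fun i => by
    rw [Pt.res_fst, Pt.res_fst, show τ₀.fst = K.j from hη₀f, show (τ i).fst = K.c i from he₁ i, K.jc]
  let δ : ∀ i, Pt x x (K.Q₀ i) := fun i =>
    ((τ i).res h𝒳 (K.jQ i)).symm.trans (τ₀.res h𝒳 (K.c₀ i)) (hτ₀f i).symm
  have hτs : ∀ i, (τ i).snd = ((δ i).res h𝒳 (K.rQ i)).fst := fun i => by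
    rw [Pt.res_fst]
    show (τ i).snd = K.rQ i ≫ ((τ i).res h𝒳 (K.jQ i)).snd
    rw [Pt.res_snd, show (τ i).snd = K.c i ≫ bP from he₂ i, ← Category.assoc (K.jQ i), K.jc, Category.assoc,
      ← Category.assoc (K.rQ i), K.rc, Category.assoc, hbP]
  let τ' : ∀ i, Pt D x (K.Q i) := fun i => (τ i).trans ((δ i).res h𝒳 (K.rQ i)) (hτs i)
  have hτ' : ∀ i, (τ' i).res h𝒳 (K.jQ i) = τ₀.res h𝒳 (K.c₀ i) := fun i => by
    simp only [τ', Pt.res_trans, Pt.res_res, K.jrQ, Pt.res_id]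
    exact Pt.trans_cancel _ _ _ _
  have hτ'f : ∀ i, (τ' i).fst = K.c i := fun i => he₁ i
  have hτO : (τ' ⟨true⟩).res h𝒳 (K.u ⟨true⟩) = (τ' ⟨false⟩).res h𝒳 (K.u ⟨false⟩) := by
    refine hrig D _ _ (by rw [Pt.res_fst, Pt.res_fst, hτ'f, hτ'f, K.uc]) ?_
    rw [Pt.res_res, Pt.res_res, K.uj, K.uj, ← Pt.res_res h𝒳 (K.u₀ ⟨true⟩), ← Pt.res_res h𝒳 (K.u₀ ⟨false⟩), hτ', hτ',
      Pt.res_res, Pt.res_res]
    congr 1
    have e0 : ∀ i, K.u₀ i ≫ K.c₀ i = K.jO ≫ K.cO ≫ K.r := fun i => by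
      rw [← K.u_c i, Category.assoc, ← K.rc, ← Category.assoc K.jO, K.uj, Category.assoc, reassoc_of% (K.jrQ i)]
    rw [e0, e0]
  obtain ⟨G, eG, heG⟩ := hx K.P D
  obtain ⟨RG⟩ := exists_frep h𝒳 heG
  choose ρ hρ hρ₁ hρ₂ using fun i => RG.exists_point (τ' i)
  have agree' : ∀ {T : Over S} (v : ∀ i, T ⟶ K.Q i), v ⟨true⟩ ≫ K.c ⟨true⟩ = v ⟨false⟩ ≫ K.c ⟨false⟩ →
      (yon S).map (v ⟨true⟩) ≫ ρ ⟨true⟩ = (yon S).map (v ⟨false⟩) ≫ ρ ⟨false⟩ := fun {T} v hv => by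
    obtain ⟨w, hw'⟩ := K.factor v hv
    apply (RG.rep.bij T).1
    rw [RG.rep.natural, RG.rep.natural, hρ, hρ, ← hw' ⟨true⟩, ← hw' ⟨false⟩, ← Pt.res_res, ← Pt.res_res, hτO]
  obtain ⟨ρ₀, hρ₀⟩ := exists_glue_openCover K.c K.open_c K.cover_c ρ fun i j T u v huv => by
    obtain ⟨_ | _⟩ := i <;> obtain ⟨_ | _⟩ := j
    · have := K.open_c ⟨false⟩
      rw [Over.OverMorphism.ext ((cancel_mono (K.c ⟨false⟩).left).1 (congrArg CommaMorphism.left huv))]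
    · exact (agree' (fun ⟨b⟩ => match b with | true => v | false => u) huv.symm).symm
    · exact agree' (fun ⟨b⟩ => match b with | true => u | false => v) huv
    · have := K.open_c ⟨true⟩
      rw [Over.OverMorphism.ext ((cancel_mono (K.c ⟨true⟩).left).1 (congrArg CommaMorphism.left huv))]
  let T' := RG.rep.pm ρ₀
  have hT'f : T'.fst = 𝟙 K.P := by
    apply (yon S).map_injective
    rw [RG.fst_eq]
    refine hom_ext_openCover K.c K.open_c K.cover_c fun i => ?_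
    rw [← Category.assoc, hρ₀, hρ₁, hτ'f, CategoryTheory.Functor.map_id, Category.comp_id]
  have hT's : T'.snd = bP := by
    apply (yon S).map_injective
    rw [RG.snd_eq]
    refine hom_ext_openCover K.c K.open_c K.cover_c fun i => ?_
    rw [← Category.assoc, hρ₀, hρ₂, ← Functor.map_comp]
    congr 1
    show ((δ i).res h𝒳 (K.rQ i)).snd = _
    rw [Pt.res_snd]
    show K.rQ i ≫ (τ₀.res h𝒳 (K.c₀ i)).snd = _
    rw [Pt.res_snd, show τ₀.snd = K.j ≫ bP from hη₀s, ← Category.assoc, K.rc, Category.assoc, hbP]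
  obtain ⟨γ⟩ := (hD T'.fst T'.snd).2 ⟨T'.iso⟩
  let η : Pt H y K.P := ⟨T'.fst, T'.snd, γ⟩
  -- the coboundary
  have hef : ∀ i, (e i).fst = (η.res hp (K.c i)).fst := fun i => by
    rw [Pt.res_fst, show η.fst = 𝟙 K.P from hT'f, Category.comp_id, he₁]
  let φ : ∀ i, Pt y y (K.Q i) := fun i => (e i).symm.trans (η.res hp (K.c i)) (hef i)
  have hφ₁ : ∀ i, (φ i).fst = K.c i ≫ bP := he₂
  have hφ₂ : ∀ i, (φ i).snd = K.c i ≫ bP := fun i => by
    show (η.res hp (K.c i)).snd = _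
    rw [Pt.res_snd]
    exact congrArg (K.c i ≫ ·) hT's
  let φ₀ : ∀ i, Pt y y (K.Q i) := fun i => (((φ i).res hp (K.jQ i)).res hp (K.rQ i)).symm
  have hrj : ∀ i, K.rQ i ≫ K.jQ i ≫ K.c i ≫ bP = K.c i ≫ bP := fun i => by
    rw [← Category.assoc (K.jQ i), K.jc, Category.assoc, ← Category.assoc (K.rQ i), K.rc, Category.assoc, hbP]
  have hφ₀ : ∀ i, (φ i).snd = (φ₀ i).fst := fun i => by
    simp only [φ₀, Pt.symm_fst, Pt.res_snd, hφ₂, hrj]
  have hψ₂ : ∀ i, ((φ i).trans (φ₀ i) (hφ₀ i)).snd = K.c i ≫ bP := fun i => by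
    simp only [φ₀, Pt.trans_snd, Pt.symm_snd, Pt.res_fst, hφ₁, hrj]
  refine ⟨fun i => (φ i).trans (φ₀ i) (hφ₀ i), hφ₁, hψ₂, fun i => ?_, ?_, ?_⟩
  · simp only [φ₀, Pt.res_trans, Pt.res_symm, Pt.res_res, reassoc_of% (K.jrQ i), K.jrQ, Category.id_comp]
    rw [Pt.trans_symm_self, Pt.res_fst, hφ₁]
  · simp only [Pt.res_snd, hψ₂, Pt.symm_fst, ← Category.assoc, K.u_c]
  -- compare on the overlap
  have hη : (η.res hp (K.c ⟨false⟩)).res hp (K.u ⟨false⟩) = (η.res hp (K.c ⟨true⟩)).res hp (K.u ⟨true⟩) := by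
    rw [Pt.res_res, Pt.res_res, K.u_c, K.u_c]
  have hκφ : κ.symm.snd = ((φ ⟨true⟩).res hp (K.u ⟨true⟩)).fst := by
    rw [Pt.res_fst, hφ₁, ← Category.assoc, K.u_c, Pt.symm_snd, hκ₁]
  have hφO : (φ ⟨false⟩).res hp (K.u ⟨false⟩) = κ.symm.trans ((φ ⟨true⟩).res hp (K.u ⟨true⟩)) hκφ := by
    simp only [φ, Pt.res_trans, Pt.res_symm]
    rw [← Pt.trans_assoc]
    · exact Pt.trans_congr (by rw [← hrel, Pt.symm_trans]) hη _
  have hred : (((φ ⟨false⟩).res hp (K.jQ _)).res hp (K.rQ _)).res hp (K.u _) =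
      (((φ ⟨true⟩).res hp (K.jQ _)).res hp (K.rQ _)).res hp (K.u _) := by
    have e1 : ∀ i, K.u i ≫ K.rQ i ≫ K.jQ i = K.rO ≫ K.jO ≫ K.u i := fun i => by
      rw [← Category.assoc, K.ur, Category.assoc, K.uj]
    simp only [Pt.res_res, Category.assoc, e1]
    rw [← Pt.res_res hp K.rO, ← Pt.res_res hp K.rO (K.jO ≫ K.u ⟨true⟩)]
    congr 1
    rw [← Pt.res_res, ← Pt.res_res, hφO, Pt.res_trans]
    refine (Pt.trans_congr ((Pt.res_symm hp _ _).trans (by rw [hκ₀, Pt.refl_symm])) rfl _).trans (Pt.refl_trans _ ?_)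
    rw [Pt.res_fst, Pt.res_fst, hφ₁, ← Category.assoc (K.u ⟨true⟩), K.u_c]
  simp only [φ₀, Pt.res_trans, Pt.res_symm]
  exact (Pt.cancel_middle κ _ _ _ _ _ hκφ hφO hred.symm _ _).symm

end Groth.Agent.IsoTrans
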